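import Cfsg.Agent.LevCover.Prods

/-!
The product of two conjugates of a stack of cyclic blocks, and the step enlarging a cyclic part.
-/

set_option autoImplicit false
set_option linter.unusedSectionVars false
set_option linter.unusedSimpArgs false

namespace CfsgLib.LevCover

open Matrix Polynomial

variable {K : Type*} [Field K]

/-- The characteristic polynomial splits. -/
def SplitPoly {n : ℕ} (R : Matrix (Fin n) (Fin n) K) : Prop :=
  ∃ β : Fin n → K, R.charpoly = ∏ i, (Polynomial.X - Polynomial.C (β i))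

theorem prod_append {a b : ℕ} (β : Fin a → K) (γ : Fin b → K) :
    ∏ i, (Polynomial.X - Polynomial.C (Fin.append β γ i)) =
      (∏ i, (Polynomial.X - Polynomial.C (β i))) * ∏ i, (Polynomial.X - Polynomial.C (γ i)) := by
  rw [Fin.prod_univ_add]
  simp

theorem charpoly_reindex_sum {a b : ℕ} {n : ℕ} (h : a + b = n) (A : Matrix (Fin a) (Fin a) K)
    (L : Matrix (Fin a) (Fin b) K) (B : Matrix (Fin b) (Fin b) K) :
    (Matrix.reindex (finSumFinEquiv.trans (finCongr h)) (finSumFinEquiv.trans (finCongr h))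
      (Matrix.fromBlocks A L 0 B)).charpoly = A.charpoly * B.charpoly := by
  rw [Matrix.charpoly_reindex, Matrix.charpoly_fromBlocks_zero₂₁]

theorem det_two_of_charpoly {X : Matrix (Fin 2) (Fin 2) K} : X.det = X.charpoly.coeff 0 := by
  rw [det_of_charpoly (G := X) rfl]; ring

variable [Fintype K]

/-- Two conjugates of a stack multiply to a cyclic split matrix. -/
theorem base_product (h4 : 4 ≤ Fintype.card K) {Pr : K[X] → Prop} {a n : ℕ} (ha : a ≤ 1) {c a₀ : K}
    (ha0 : a₀ ≠ 0) (hac : a = 1 → a₀ ≠ c * c)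
    (hdeg2 : ∀ f, Pr f → f.natDegree = 2 → a₀ * a₀ ≠ f.coeff 0 * f.coeff 0)
    {g : Matrix (Fin n) (Fin n) K} (hs : Stack Pr (c • (1 : Matrix (Fin a) (Fin a) K)) g) (hg : g.det ≠ 0) :
    ∃ Z₁ Z₂ : Matrix (Fin n) (Fin n) K, Sim g Z₁ ∧ Sim g Z₂ ∧ Cyc (Z₁ * Z₂) ∧ SplitPoly (Z₁ * Z₂) ∧
      ∀ (v : Fin n → K) (t : K), v ≠ 0 → (Z₁ * Z₂) *ᵥ v = a₀ • v → Z₂ *ᵥ v ≠ t • v := by
  induction hs with
  | base =>
    refine ⟨c • 1, c • 1, Sim.refl _, Sim.refl _, ?_, ⟨fun _ => c * c, ?_⟩, ?_⟩
    · apply cyc_hess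
      rcases Nat.eq_zero_or_pos a with h | h
      · subst h; exact ⟨fun i => i.elim0, fun i => i.elim0⟩
      · obtain rfl : a = 1 := by omega
        exact ⟨fun i j h => absurd h (by omega), fun i j h => absurd h (by omega)⟩
    · rw [smul_mul_smul_comm, Matrix.one_mul, Matrix.smul_one_eq_diagonal, charpoly_diagonal]
    · intro v t hv hGv
      exfalso
      rcases Nat.eq_zero_or_pos a with h | h
      · subst h; exact hv (funext fun i => i.elim0)
      · obtain rfl : a = 1 := by omega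
        obtain ⟨i, hi⟩ := Function.ne_iff.1 hv
        have := congrFun hGv i
        rw [smul_mul_smul_comm, Matrix.one_mul, smul_mulVec, one_mulVec, Pi.smul_apply, Pi.smul_apply,
          smul_eq_mul, smul_eq_mul] at this
        exact hac rfl (mul_right_cancel₀ hi this).symm
  | @cons d m n X Z g hd hn hX hP _ hsim ih =>
    obtain ⟨hXd, hZd⟩ := det_blocks_ne (hsim.symm.det_ne hg)
    obtain ⟨Z₁, Z₂, hZ1, hZ2, hZc, ⟨γ, hγ⟩, hZv⟩ := ih hZd
    obtain ⟨k, rfl⟩ : ∃ k, d = k + 2 := ⟨d - 2, by omega⟩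
    have hDne : X.det * X.det ≠ 0 := mul_ne_zero hXd hXd
    obtain ⟨β, hβ0, hβa, hβb, hβp, hβr⟩ : ∃ β : Fin (k + 2) → K, (∀ i, β i ≠ 0) ∧ β 0 = a₀ ∧ β 1 ≠ a₀ ∧
        ∏ i, β i = X.det * X.det ∧ Runs β := by
      rcases Nat.eq_zero_or_pos k with hk | hk
      · subst hk
        have hne : X.det * X.det / a₀ ≠ a₀ := by
          intro h
          rw [div_eq_iff ha0] at h
          refine hdeg2 _ hP (by rw [charpoly_natDegree_eq_dim, Fintype.card_fin]) ?_
          rw [← det_two_of_charpoly, h]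
        refine ⟨![a₀, X.det * X.det / a₀], fun i => ?_, rfl, hne, ?_, fun i j l hij hjl _ => ?_⟩
        · fin_cases i
          · simpa using ha0
          · simpa using div_ne_zero hDne ha0
        · simp [Fin.prod_univ_two]; field_simp
        · exact absurd hjl (by have := i.isLt; have := l.isLt; omega)
      · obtain ⟨β, h1, h2, h3, h5, h6⟩ := exists_spectrum h4 (m := k + 1) (by omega) ha0 hDne
        exact ⟨β, h1, h2, h3 0, h5, h6⟩
    have hXns : ∀ t : K, X ≠ t • 1 := by
      rintro t rfl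
      obtain ⟨e, he⟩ := hX
      have h0 := he (Polynomial.X - Polynomial.C t) (by rw [degree_X_sub_C, Fintype.card_fin]; exact_mod_cast (show 1 < k + 2 by omega))
        (by simp [Algebra.algebraMap_eq_smul_one])
      exact X_sub_C_ne_zero t h0
    obtain ⟨Y, e, hY, hYd, hp, hYc, he0, hRe, hYe⟩ :=
      exists_piece h4 hXd hX hXd hβ0 hβr hβp (Or.inl ⟨by rw [hβa]; exact hβb.symm, hXns⟩)
    rw [hβa] at hp hRe
    obtain ⟨ν, hν⟩ := couple hp hXd hYd (hZ1.det_ne hZd) (hZ2.det_ne hZd) hZc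
      (fun v t hv h => hZv v t hv h) 0 0
    set σ : Fin (k + 2) ⊕ Fin m ≃ Fin n := finSumFinEquiv.trans (finCongr hn)
    set B₁ := Matrix.fromBlocks X (0 : Matrix (Fin (k + 2)) (Fin m) K) 0 Z₁
    set B₂ := Matrix.fromBlocks Y (0 + Y * ν - ν * Z₂) 0 Z₂
    have hb1 : Sim g (Matrix.reindex σ σ B₁) :=
      hsim.symm.trans ((sim_blocks (Sim.refl X) hZ1).trans (sim_reindex σ _))
    have hb2 : Sim g (Matrix.reindex σ σ B₂) :=
      hsim.symm.trans ((sim_blocks hY hZ2).trans ((sim_shear Y Z₂ 0 ν).trans (sim_reindex σ _)))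
    have hmul : Matrix.reindex σ σ B₁ * Matrix.reindex σ σ B₂ = Matrix.reindex σ σ (B₁ * B₂) := by
      simp only [Matrix.reindex_apply, Matrix.submatrix_mul_equiv]
    have hBB : B₁ * B₂ = Matrix.fromBlocks (X * Y) (X * (0 + Y * ν - ν * Z₂)) 0 (Z₁ * Z₂) := by
      simp [B₁, B₂, Matrix.fromBlocks_multiply]
    refine ⟨_, _, hb1, hb2, by rw [hmul]; exact hν.reindex σ, ?_, ?_⟩
    · refine ⟨Fin.append β γ ∘ (finCongr hn).symm, ?_⟩
      rw [hmul, hBB, charpoly_reindex_sum, hYc, hγ, ← prod_append]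
      exact (Equiv.prod_comp (finCongr hn).symm
        (fun i => Polynomial.X - Polynomial.C (Fin.append β γ i))).symm
    · intro v t hv hGv hYv
      set ev : Fin n → K := Sum.elim e (0 : Fin m → K) ∘ σ.symm
      have hcomp : (Sum.elim e (0 : Fin m → K) ∘ σ.symm) ∘ σ = Sum.elim e (0 : Fin m → K) :=
        funext fun i => by simp
      have hev : (Matrix.reindex σ σ B₁ * Matrix.reindex σ σ B₂) *ᵥ ev = a₀ • ev := by
        rw [hmul, hBB, Matrix.reindex_apply, Matrix.submatrix_mulVec_equiv]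
        funext i
        simp only [ev, Function.comp, Equiv.symm_symm, Equiv.symm_apply_apply, Matrix.fromBlocks_mulVec,
          Pi.smul_apply]
        rcases σ.symm i with x | x
        · have := congrFun hRe x
          simpa [hcomp] using this
        · simp [hcomp]
      have hev0 : ev ≠ 0 := fun h => he0 (funext fun i => by simpa [ev] using congrFun h (σ (Sum.inl i)))
      obtain ⟨s, rfl⟩ := eigen_unique (by rw [hmul]; exact hν.reindex σ) hev hev0 hGv
      have hs : s ≠ 0 := fun h => hv (by rw [h, zero_smul])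
      rw [mulVec_smul, smul_comm] at hYv
      have h1 := smul_right_injective (Fin n → K) hs hYv
      apply hYe t
      funext i
      have h2 := congrFun h1 (σ (Sum.inl i))
      simpa [ev, hcomp, B₂, Matrix.reindex_apply, Matrix.submatrix_mulVec_equiv, Matrix.fromBlocks_mulVec, Function.comp] using h2

/-- Split, with a value (the first) that occurs once. -/
def SimplePoly {n : ℕ} (R : Matrix (Fin n) (Fin n) K) : Prop :=
  ∃ β : Fin n → K, R.charpoly = ∏ i, (Polynomial.X - Polynomial.C (β i)) ∧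
    ∀ i j : Fin n, i.val = 0 → j.val ≠ 0 → β j ≠ β i

/-- Enlarging a cyclic part, with a prescribed spectrum on the old part. -/
theorem step_core (h4 : 4 ≤ Fintype.card K) {n k m t r r' : ℕ} {lam : K} (hlam : lam ≠ 0)
    {x : Matrix (Fin n) (Fin n) K} (hr : r = t + r')
    {H : Matrix (Fin (m + 2)) (Fin (m + 2)) K} (hHc : Cyc H)
    (hH : SimProd x k (Matrix.fromBlocks H 0 0 (lam ^ k • (1 : Matrix (Fin r) (Fin r) K))))
    {A : Matrix (Fin (m + 2)) (Fin (m + 2)) K} {L : Matrix (Fin (m + 2)) (Fin t) K}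
    {C : Matrix (Fin t) (Fin t) K} (hC : Cyc C) (hxd : x.det ≠ 0)
    (hx : Sim x (Matrix.fromBlocks (Matrix.fromBlocks A L 0 C) 0 0 (lam • (1 : Matrix (Fin r') (Fin r') K))))
    {β : Fin (m + 2) → K} (hβ0 : ∀ i, β i ≠ 0) (hβr : Runs β) (hβp : ∏ i, β i = A.det * H.det)
    (hgood : (β 0 ≠ β 1 ∧ ∀ t : K, A ≠ t • 1) ∨
      ∃ (l : ℕ) (hl : m + 2 = l + 3) (e : Fin (m + 2) → K), (∀ t : K, A *ᵥ e ≠ t • e) ∧
        ∀ s t : K, A *ᵥ (A *ᵥ e) ≠ s • (A *ᵥ e) + t • e)
    (hroot : ∀ (θ : K) (v : Fin t → K), v ≠ 0 → C *ᵥ v = θ • v → β 0 ≠ lam ^ k * θ) :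
    ∃ G : Matrix (Fin (m + 2 + t)) (Fin (m + 2 + t)) K, Cyc G ∧
      SimProd x (k + 1) (Matrix.fromBlocks G 0 0 (lam ^ (k + 1) • (1 : Matrix (Fin r') (Fin r') K))) ∧
      ∀ γ : Fin t → K, C.charpoly = ∏ i, (Polynomial.X - Polynomial.C (γ i)) →
        G.charpoly = ∏ i, (Polynomial.X - Polynomial.C (Fin.append β (fun i => lam ^ k * γ i) i)) := by
  classical
  obtain ⟨hAC, -⟩ := det_blocks_ne (hx.det_ne hxd)
  rw [det_fromBlocks_zero₂₁] at hAC
  obtain ⟨hAd, hCd⟩ := mul_ne_zero_iff.1 hAC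
  have hHd : H.det ≠ 0 := (det_blocks_ne (hH.det_ne hxd)).1
  set lk := lam ^ k
  have hlk : lk ≠ 0 := pow_ne_zero _ hlam
  obtain ⟨Y, e, hY, hYd, hp, hYc, -, -, -⟩ := exists_piece h4 hAd hHc hHd hβ0 hβr hβp hgood
  have hG₂ : Cyc (C * (lk • (1 : Matrix (Fin t) (Fin t) K))) := by
    obtain ⟨e₂, he₂⟩ := hC
    refine ⟨e₂, fun p hp hpe => ?_⟩
    have hq : aeval C (p.comp (Polynomial.C lk * Polynomial.X)) *ᵥ e₂ = 0 := by
      rw [aeval_comp, map_mul, aeval_C, aeval_X, Algebra.algebraMap_eq_smul_one, smul_mul_assoc, Matrix.one_mul]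
      rwa [Matrix.mul_smul, Matrix.mul_one] at hpe
    by_contra hp0
    have hd : (p.comp (Polynomial.C lk * Polynomial.X)).natDegree = p.natDegree := by
      rw [natDegree_comp, natDegree_C_mul_X lk hlk, mul_one]
    have hz : p.comp (Polynomial.C lk * Polynomial.X) = 0 := by
      refine he₂ _ ?_ hq
      rcases eq_or_ne (p.comp (Polynomial.C lk * Polynomial.X)) 0 with h | h
      · rw [h, degree_zero]; exact WithBot.bot_lt_coe _
      · rw [← natDegree_lt_iff_degree_lt h, hd]
        exact (natDegree_lt_iff_degree_lt hp0).2 hp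
    rcases Polynomial.comp_eq_zero_iff.1 hz with h | ⟨-, h⟩
    · exact hp0 h
    · rw [h] at hd
      have := congrArg (fun f => f.coeff 1) h
      simp [hlk] at this
  have hlkd : (lk • (1 : Matrix (Fin t) (Fin t) K)).det ≠ 0 := by
    rw [det_smul, det_one, mul_one]; exact pow_ne_zero _ hlk
  obtain ⟨ν, hν⟩ := couple hp hAd hYd hCd hlkd hG₂ (fun v s hv hGv _ => by
    rw [Matrix.mul_smul, Matrix.mul_one, smul_mulVec] at hGv
    have h1 : C *ᵥ v = (β 0 / lk) • v := by
      have := congrArg (lk⁻¹ • ·) hGv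
      simp only [smul_smul, inv_mul_cancel₀ hlk, one_smul] at this
      rw [this, div_eq_inv_mul]
    refine hroot _ v hv h1 ?_
    field_simp) L 0
  set B₁ := Matrix.fromBlocks A L 0 C
  set B₂ := Matrix.fromBlocks Y (0 + Y * ν - ν * (lk • (1 : Matrix (Fin t) (Fin t) K))) 0 (lk • (1 : Matrix (Fin t) (Fin t) K))
  have hz : SimProd x k (Matrix.fromBlocks B₂ 0 0 (lk • (1 : Matrix (Fin r') (Fin r') K))) := by
    refine hH.of_sim ?_
    refine Sim.trans ?_ (sim_blocks (sim_shear Y (lk • (1 : Matrix (Fin t) (Fin t) K)) 0 ν) (Sim.refl _))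
    refine Sim.trans ?_ (sim_assoc Y _ _).symm
    refine sim_blocks hY ?_
    rw [blocks_smul_one]
    exact sim_smul_one lk ((finCongr hr).trans finSumFinEquiv.symm)
  have hprod := (SimProd.one hx).mul hz
  rw [Matrix.fromBlocks_multiply] at hprod
  simp only [Matrix.mul_zero, Matrix.zero_mul, add_zero, zero_add, smul_mul_smul_comm, Matrix.one_mul,
    ← pow_succ'] at hprod
  rw [show lam * lk = lam ^ (k + 1) by rw [pow_succ']] at hprod
  refine ⟨Matrix.reindex finSumFinEquiv finSumFinEquiv (B₁ * B₂), hν.reindex _, ?_, ?_⟩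
  · rw [add_comm k 1]
    refine SimProd.of_sim ?_ (sim_blocks (sim_reindex finSumFinEquiv _) (Sim.refl _))
    rw [add_comm 1 k]
    rw [add_comm 1 k] at hprod
    exact hprod
  · intro γ hγ
    have hB : B₁ * B₂ = Matrix.fromBlocks (A * Y)
        (A * (0 + Y * ν - ν * (lk • (1 : Matrix (Fin t) (Fin t) K))) + L * (lk • (1 : Matrix (Fin t) (Fin t) K))) 0
          (C * (lk • (1 : Matrix (Fin t) (Fin t) K))) := by
      simp [B₁, B₂, Matrix.fromBlocks_multiply]
    rw [hB, Matrix.charpoly_reindex, Matrix.charpoly_fromBlocks_zero₂₁, hYc, prod_append]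
    congr 1
    rw [Matrix.mul_smul, Matrix.mul_one]
    set e : K[X] →ₐ[K] K[X] := Polynomial.aeval (Polynomial.C lk * Polynomial.X)
    have he : ∀ p, e p = p.comp (Polynomial.C lk * Polynomial.X) := fun p => rfl
    have hinj : Function.Injective e := (injective_iff_map_eq_zero e).2 fun p hp => by
      rw [he, Polynomial.comp_eq_zero_iff] at hp
      refine hp.resolve_right fun h => ?_
      have := congrArg (fun f => f.coeff 1) h.2
      simp [hlk] at this
    apply hinj
    have h1 : e.toRingHom.mapMatrix (charmatrix (lk • C)) = Polynomial.C lk • charmatrix C := by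
      refine Matrix.ext fun i j => ?_
      by_cases hij : i = j
      · subst hij; simp [charmatrix_apply, he, mul_sub]
      · simp [charmatrix_apply, Matrix.diagonal_apply_ne _ hij, he]
    have h2 : e (lk • C).charpoly = Polynomial.C lk ^ t * C.charpoly := by
      show e.toRingHom (charmatrix (lk • C)).det = _
      rw [RingHom.map_det, h1, det_smul, Fintype.card_fin]
      rfl
    rw [h2, hγ, map_prod]
    have h3 : ∀ i : Fin t, e (Polynomial.X - Polynomial.C (lk * γ i)) =
        Polynomial.C lk * (Polynomial.X - Polynomial.C (γ i)) := fun i => by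
      simp [he, mul_sub]
    rw [Finset.prod_congr rfl fun i _ => h3 i, Finset.prod_mul_distrib, Finset.prod_const,
      Finset.card_univ, Fintype.card_fin]

/-- Enlarging a cyclic part by a block with few eigenvalues. -/
theorem step_product (h4 : 4 ≤ Fintype.card K) {n k M t r r' : ℕ} (hM : 3 ≤ M) {lam : K} (hlam : lam ≠ 0)
    {x : Matrix (Fin n) (Fin n) K} (hr : r = t + r')
    {H : Matrix (Fin M) (Fin M) K} (hHc : Cyc H)
    (hH : SimProd x k (Matrix.fromBlocks H 0 0 (lam ^ k • (1 : Matrix (Fin r) (Fin r) K))))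
    {A : Matrix (Fin M) (Fin M) K} {L : Matrix (Fin M) (Fin t) K} {C : Matrix (Fin t) (Fin t) K}
    (hA : ∀ s : K, A ≠ s • 1) (hC : Cyc C) (hxd : x.det ≠ 0)
    (hx : Sim x (Matrix.fromBlocks (Matrix.fromBlocks A L 0 C) 0 0 (lam • (1 : Matrix (Fin r') (Fin r') K))))
    {S : Finset K} (hS : S.card ≤ 2) (hroot : ∀ (θ : K) (v : Fin t → K), v ≠ 0 → C *ᵥ v = θ • v → θ ∈ S) :
    ∃ G : Matrix (Fin (M + t)) (Fin (M + t)) K, Cyc G ∧
      SimProd x (k + 1) (Matrix.fromBlocks G 0 0 (lam ^ (k + 1) • (1 : Matrix (Fin r') (Fin r') K))) ∧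
      ((∃ γ : Fin t → K, C.charpoly = ∏ i, (Polynomial.X - Polynomial.C (γ i)) ∧ ∀ i, γ i ∈ S) →
        SimplePoly G) := by
  classical
  obtain ⟨hAC, -⟩ := det_blocks_ne (hx.det_ne hxd)
  rw [det_fromBlocks_zero₂₁] at hAC
  obtain ⟨hAd, hCd⟩ := mul_ne_zero_iff.1 hAC
  have hHd : H.det ≠ 0 := (det_blocks_ne (hH.det_ne hxd)).1
  obtain ⟨b, hb⟩ := exists_notMem (insert 0 (S.image fun s => lam ^ k * s)) (by
    have := Finset.card_image_le (s := S) (f := fun s => lam ^ k * s)
    refine lt_of_le_of_lt (Finset.card_insert_le _ _) ?_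
    omega)
  simp only [Finset.mem_insert, not_or, Finset.mem_image, not_exists, not_and] at hb
  obtain ⟨m, rfl⟩ : ∃ m, M = m + 2 := ⟨M - 2, by omega⟩
  obtain ⟨β, hβ0, hβb, hβne, hβp, hβr⟩ := exists_spectrum h4 (m := m + 1) (by omega) hb.1
    (mul_ne_zero hAd hHd)
  obtain ⟨G, hG, hGs, hGc⟩ := step_core h4 hlam hr hHc hH hC hxd hx hβ0 hβr hβp
    (Or.inl ⟨by rw [hβb]; exact (hβne 0).symm, hA⟩)
    (fun θ v hv hθ h => hb.2 θ (hroot θ v hv hθ) (by rw [← hβb, h]))
  refine ⟨G, hG, hGs, ?_⟩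
  rintro ⟨γ, hγ, hγS⟩
  refine ⟨_, hGc γ hγ, ?_⟩
  intro i j hi hj
  obtain rfl : i = Fin.castAdd t 0 := Fin.ext (by simpa using hi)
  rw [Fin.append_left, hβb]
  refine Fin.addCases (fun j hj => ?_) (fun j hj => ?_) j hj
  · rw [Fin.append_left]
    obtain ⟨j', rfl⟩ := Fin.exists_succ_eq.2 (show j ≠ 0 from fun h => hj (by simp [h]))
    exact hβne j'
  · rw [Fin.append_right]
    exact fun h => hb.2 _ (hγS j) h

theorem hess_window {m w : ℕ} {lk lam : K} (hlk : lk ≠ 0) (hlam : lam ≠ 0)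
    {H : Matrix (Fin (m + 1)) (Fin (m + 1)) K} {W : Matrix (Fin (w + 1)) (Fin (w + 1)) K}
    (hH : Hess H) (hW : Hess W) :
    ∃ G₁ G₂ : Matrix (Fin (m + 1 + w)) (Fin (m + 1 + w)) K,
      Sim (Matrix.fromBlocks H 0 0 (lk • (1 : Matrix (Fin w) (Fin w) K))) G₁ ∧
      Sim (Matrix.fromBlocks W 0 0 (lam • (1 : Matrix (Fin m) (Fin m) K))) G₂ ∧ Hess (G₁ * G₂) := by
  classical
  set G₁ : Matrix (Fin (m + 1 + w)) (Fin (m + 1 + w)) K := Matrix.of fun i j =>
    if h : i.val < m + 1 ∧ j.val < m + 1 then H ⟨i, h.1⟩ ⟨j, h.2⟩ else if i = j then lk else 0 with hG₁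
  set G₂ : Matrix (Fin (m + 1 + w)) (Fin (m + 1 + w)) K := Matrix.of fun i j =>
    if h : m ≤ i.val ∧ m ≤ j.val then
      W ⟨i.val - m, by have := i.isLt; omega⟩ ⟨j.val - m, by have := j.isLt; omega⟩
    else if i = j then lam else 0 with hG₂
  refine ⟨G₁, G₂, Sim.of_reindex finSumFinEquiv ?_, ?_, ?_, ?_⟩
  · ext i j
    obtain ⟨a, rfl⟩ := finSumFinEquiv.surjective i
    obtain ⟨b, rfl⟩ := finSumFinEquiv.surjective j
    rw [Matrix.reindex_apply, Matrix.submatrix_apply, Equiv.symm_apply_apply, Equiv.symm_apply_apply]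
    rcases a with a | a <;> rcases b with b | b
    · rw [Matrix.fromBlocks_apply₁₁, hG₁, Matrix.of_apply, finSumFinEquiv_apply_left, finSumFinEquiv_apply_left,
        dif_pos ⟨by simp <;> omega, by simp <;> omega⟩]
      rfl
    · rw [Matrix.fromBlocks_apply₁₂, hG₁, Matrix.of_apply, finSumFinEquiv_apply_left, finSumFinEquiv_apply_right,
        dif_neg (by simp <;> omega), if_neg (by simp [Fin.ext_iff]; have := a.isLt; omega)]
      rfl
    · rw [Matrix.fromBlocks_apply₂₁, hG₁, Matrix.of_apply, finSumFinEquiv_apply_right, finSumFinEquiv_apply_left,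
        dif_neg (by simp <;> omega), if_neg (by simp [Fin.ext_iff]; have := b.isLt; omega)]
      rfl
    · rw [Matrix.fromBlocks_apply₂₂, hG₁, Matrix.of_apply, finSumFinEquiv_apply_right, finSumFinEquiv_apply_right,
        dif_neg (by simp <;> omega)]
      simp [Matrix.one_apply, Fin.ext_iff]
  · refine (sim_comm W _).trans (Sim.of_reindex (finSumFinEquiv.trans (finCongr (by omega))) ?_)
    ext i j
    obtain ⟨a, rfl⟩ := (finSumFinEquiv.trans (finCongr (show m + (w + 1) = m + 1 + w by omega))).surjective i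
    obtain ⟨b, rfl⟩ := (finSumFinEquiv.trans (finCongr (show m + (w + 1) = m + 1 + w by omega))).surjective j
    rw [Matrix.reindex_apply, Matrix.submatrix_apply, Equiv.symm_apply_apply, Equiv.symm_apply_apply]
    rcases a with a | a <;> rcases b with b | b
    · have := a.isLt; have := b.isLt
      rw [Matrix.fromBlocks_apply₁₁, hG₂, Matrix.of_apply]
      rw [dif_neg (by simp <;> omega)]
      simp [Matrix.one_apply, Fin.ext_iff]
    · have := a.isLt
      rw [Matrix.fromBlocks_apply₁₂, hG₂, Matrix.of_apply]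
      rw [dif_neg (by simp <;> omega), if_neg (by simp [Fin.ext_iff]; omega)]
      rfl
    · have := b.isLt
      rw [Matrix.fromBlocks_apply₂₁, hG₂, Matrix.of_apply]
      rw [dif_neg (by simp <;> omega), if_neg (by simp [Fin.ext_iff]; omega)]
      rfl
    · rw [Matrix.fromBlocks_apply₂₂, hG₂, Matrix.of_apply, dif_pos ⟨by simp, by simp⟩]
      congr 1 <;> apply Fin.ext <;> simp
  · intro i j hij
    rw [Matrix.mul_apply]
    refine Finset.sum_eq_zero fun l _ => ?_
    by_cases hl : G₂ l j = 0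
    · rw [hl, mul_zero]
    have hlj : l.val ≤ j.val + 1 := by
      by_contra h
      apply hl
      simp only [hG₂, Matrix.of_apply]
      split_ifs with h1 h2
      · exact hW.1 _ _ (by simp only; omega)
      · rw [h2] at h; omega
      · rfl
    have hjm : j.val < m → l = j := by
      intro hj
      by_contra h
      apply hl
      simp only [hG₂, Matrix.of_apply]
      rw [dif_neg (by omega), if_neg h]
    have hlm : m ≤ j.val → m ≤ l.val := by
      intro hj
      by_contra h
      apply hl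
      simp only [hG₂, Matrix.of_apply]
      rw [dif_neg (by omega), if_neg (fun h2 => by rw [h2] at h; omega)]
    have hz : G₁ i l = 0 := by
      simp only [hG₁, Matrix.of_apply]
      split_ifs with h1 h2
      · refine hH.1 _ _ ?_
        simp only
        rcases lt_or_ge j.val m with hj | hj
        · rw [hjm hj]; omega
        · have := hlm hj; omega
      · exfalso; rw [h2] at hij; omega
      · rfl
    rw [hz, zero_mul]
  · intro i j hij
    rw [Matrix.mul_apply]
    rcases lt_or_ge j.val m with hj | hj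
    · rw [Finset.sum_eq_single j]
      · refine mul_ne_zero ?_ ?_
        · simp only [hG₁, Matrix.of_apply]
          rw [dif_pos (by omega)]
          exact hH.2 _ _ (by simpa using hij)
        · simp only [hG₂, Matrix.of_apply]
          rw [dif_neg (by omega)]
          simpa using hlam
      · intro l _ hl
        simp only [hG₂, Matrix.of_apply]
        rw [dif_neg (by omega), if_neg hl, mul_zero]
      · exact fun h => absurd (Finset.mem_univ _) h
    · rw [Finset.sum_eq_single i]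
      · refine mul_ne_zero ?_ ?_
        · simp only [hG₁, Matrix.of_apply]
          rw [dif_neg (by omega)]
          simpa using hlk
        · simp only [hG₂, Matrix.of_apply]
          rw [dif_pos (by omega)]
          exact hW.2 _ _ (by simp only; omega)
      · intro l _ hl
        simp only [hG₁, Matrix.of_apply]
        rw [dif_neg (by omega), if_neg (fun h => hl h.symm), zero_mul]
      · exact fun h => absurd (Finset.mem_univ _) h

/-- Adding a window. -/
theorem window_product {n k m w r' a : ℕ} {lam : K} (hlam : lam ≠ 0) {x : Matrix (Fin n) (Fin n) K}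
    {H : Matrix (Fin (m + 1)) (Fin (m + 1)) K} (hHc : Cyc H)
    (hH : SimProd x k (Matrix.fromBlocks H 0 0 (lam ^ k • (1 : Matrix (Fin (w + r')) (Fin (w + r')) K))))
    {W : Matrix (Fin (w + 1)) (Fin (w + 1)) K} (hW : Cyc W) (ha : a = m + r')
    (hx : Sim x (Matrix.fromBlocks W 0 0 (lam • (1 : Matrix (Fin a) (Fin a) K)))) :
    ∃ G : Matrix (Fin (m + 1 + w)) (Fin (m + 1 + w)) K, Cyc G ∧
      SimProd x (k + 1) (Matrix.fromBlocks G 0 0 (lam ^ (k + 1) • (1 : Matrix (Fin r') (Fin r') K))) := by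
  obtain ⟨H', hH', hsH⟩ := sim_hess hHc
  obtain ⟨W', hW', hsW⟩ := sim_hess hW
  obtain ⟨G₁, G₂, h1, h2, h3⟩ := hess_window (pow_ne_zero k hlam) hlam hH' hW'
  refine ⟨G₁ * G₂, cyc_hess h3, ?_⟩
  have hz : SimProd x k (Matrix.fromBlocks G₁ 0 0 (lam ^ k • (1 : Matrix (Fin r') (Fin r') K))) := by
    refine hH.of_sim ?_
    refine Sim.trans ?_ (sim_blocks h1 (Sim.refl _))
    refine Sim.trans ?_ (sim_assoc H' _ _).symm
    refine sim_blocks hsH ?_
    rw [blocks_smul_one]
    exact sim_smul_one _ finSumFinEquiv.symm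
  have hy : Sim x (Matrix.fromBlocks G₂ 0 0 (lam • (1 : Matrix (Fin r') (Fin r') K))) := by
    refine hx.trans ?_
    refine Sim.trans ?_ (sim_blocks h2 (Sim.refl _))
    refine Sim.trans ?_ (sim_assoc W' _ _).symm
    refine sim_blocks hsW ?_
    rw [blocks_smul_one]
    exact sim_smul_one _ ((finCongr ha).trans finSumFinEquiv.symm)
  have hprod := hz.mul (SimProd.one hy)
  rw [Matrix.fromBlocks_multiply] at hprod
  simp only [Matrix.mul_zero, Matrix.zero_mul, add_zero, zero_add, smul_mul_smul_comm, Matrix.one_mul,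
    ← pow_succ] at hprod
  exact hprod

end CfsgLib.LevCover
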