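import Cfsg.Agent.LevCover.Couple
import Cfsg.Agent.ClassCount.Decomp

/-!
Block decompositions: a cyclic summand of maximal annihilator, stacks of cyclic blocks, bookkeeping of
similarities of block matrices.
-/

set_option autoImplicit false
set_option linter.unusedSectionVars false
set_option linter.unusedSimpArgs false

namespace CfsgLib.LevCover

open Matrix Polynomial

variable {K : Type*} [Field K] {ι κ μ ν : Type*} [Fintype ι] [DecidableEq ι] [Fintype κ] [DecidableEq κ]
  [Fintype μ] [DecidableEq μ] [Fintype ν] [DecidableEq ν]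

theorem sim_reindex (σ : ι ≃ κ) (A : Matrix ι ι K) : Sim A (Matrix.reindex σ σ A) := by
  refine ⟨(1 : Matrix ι ι K).submatrix σ.symm id, (1 : Matrix ι ι K).submatrix id σ.symm, ?_, ?_, ?_⟩
  · ext i j; simp [Matrix.mul_apply, Matrix.one_apply]
  · ext i j
    simp only [Matrix.mul_apply, Matrix.submatrix_apply, id, Matrix.one_apply]
    rw [Finset.sum_eq_single (σ i)]
    · simp
    · intro b _ hb
      rw [if_neg fun he => hb (by rw [he, Equiv.apply_symm_apply]), zero_mul]
    · simp
  · ext i j; simp [Matrix.mul_apply, Matrix.one_apply]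

theorem Sim.of_reindex (σ : ι ≃ κ) {A : Matrix ι ι K} {B : Matrix κ κ K} (h : Matrix.reindex σ σ A = B) :
    Sim A B := h ▸ sim_reindex σ A

theorem Sim.blocks {A A' : Matrix ι ι K} {C : Matrix κ κ K} {B : Matrix μ μ K} {D : Matrix ν ν K}
    (h : Sim A A') (h' : Sim B D) :
    Sim (Matrix.fromBlocks A 0 0 B) (Matrix.fromBlocks A' 0 0 D) := by
  obtain ⟨P, P', h1, h2, rfl⟩ := h
  obtain ⟨Q, Q', g1, g2, rfl⟩ := h'
  refine ⟨Matrix.fromBlocks P 0 0 Q, Matrix.fromBlocks P' 0 0 Q', ?_, ?_, ?_⟩ <;>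
    simp [Matrix.fromBlocks_multiply, h1, h2, g1, g2]

theorem sim_blocks {A : Matrix ι ι K} {A' : Matrix κ κ K} {B : Matrix μ μ K} {D : Matrix ν ν K}
    (h : Sim A A') (h' : Sim B D) :
    Sim (Matrix.fromBlocks A 0 0 B) (Matrix.fromBlocks A' 0 0 D) := by
  obtain ⟨P, P', h1, h2, rfl⟩ := h
  obtain ⟨Q, Q', g1, g2, rfl⟩ := h'
  refine ⟨Matrix.fromBlocks P 0 0 Q, Matrix.fromBlocks P' 0 0 Q', ?_, ?_, ?_⟩ <;>
    simp [Matrix.fromBlocks_multiply, h1, h2, g1, g2]

theorem sim_assoc (A : Matrix ι ι K) (B : Matrix κ κ K) (C : Matrix μ μ K) :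
    Sim (Matrix.fromBlocks (Matrix.fromBlocks A 0 0 B) 0 0 C)
      (Matrix.fromBlocks A 0 0 (Matrix.fromBlocks B 0 0 C)) := by
  refine Sim.of_reindex (Equiv.sumAssoc ι κ μ) ?_
  ext (i | i | i) (j | j | j) <;> simp

theorem sim_comm (A : Matrix ι ι K) (B : Matrix κ κ K) :
    Sim (Matrix.fromBlocks A 0 0 B) (Matrix.fromBlocks B 0 0 A) := by
  refine Sim.of_reindex (Equiv.sumComm ι κ) ?_
  ext (i | i) (j | j) <;> simp

theorem sim_smul_one (c : K) (σ : ι ≃ κ) : Sim (c • (1 : Matrix ι ι K)) (c • (1 : Matrix κ κ K)) := by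
  refine Sim.of_reindex σ ?_
  ext i j
  simp [Matrix.one_apply, Matrix.smul_apply]

theorem blocks_smul_one (c : K) :
    Matrix.fromBlocks (c • (1 : Matrix ι ι K)) 0 0 (c • (1 : Matrix κ κ K)) = c • 1 := by
  rw [← Matrix.fromBlocks_one, Matrix.fromBlocks_smul, smul_zero, smul_zero]

theorem Sim.det_ne {A : Matrix ι ι K} {B : Matrix κ κ K} (h : Sim A B) (hA : A.det ≠ 0) : B.det ≠ 0 := by
  obtain ⟨P, P', h1, h2, rfl⟩ := h
  intro h0
  obtain ⟨v, hv, hv0⟩ := Matrix.exists_mulVec_eq_zero_iff.2 h0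
  apply hv
  have h3 := congrArg (P' *ᵥ ·) hv0
  simp only [mulVec_mulVec, mulVec_zero, ← Matrix.mul_assoc, h2, Matrix.one_mul] at h3
  rw [← mulVec_mulVec] at h3
  have h4 := Matrix.eq_zero_of_mulVec_eq_zero hA h3
  have h5 := congrArg (P *ᵥ ·) h4
  simpa [mulVec_mulVec, h1] using h5

theorem det_blocks_ne {A : Matrix ι ι K} {B : Matrix κ κ K}
    (h : (Matrix.fromBlocks A 0 0 B).det ≠ 0) : A.det ≠ 0 ∧ B.det ≠ 0 := by
  rw [det_fromBlocks_zero₂₁] at h
  exact mul_ne_zero_iff.1 h

theorem charpoly_dvd_of_cyc {M : Matrix ι ι K} (h : Cyc M) {p : K[X]} (hp : aeval M p = 0) :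
    M.charpoly ∣ p := by
  obtain ⟨e, he⟩ := h
  have hm := charpoly_monic M
  have h0 : p %ₘ M.charpoly = 0 := by
    refine he _ ?_ ?_
    · calc (p %ₘ M.charpoly).degree < M.charpoly.degree := degree_modByMonic_lt p hm
        _ = (Fintype.card ι : ℕ) := by
            rw [degree_eq_natDegree hm.ne_zero, charpoly_natDegree_eq_dim]
    · have := congrArg (aeval M) (modByMonic_add_div p M.charpoly)
      rw [map_add, map_mul, Matrix.aeval_self_charpoly, zero_mul, add_zero, hp] at this
      rw [this, zero_mulVec]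
  rw [← modByMonic_eq_zero_iff_dvd hm]
  exact h0

/-- A cyclic summand of maximal annihilator. -/
theorem exists_summand {n : ℕ} (g : Matrix (Fin n) (Fin n) K) (hg : g.det ≠ 0)
    (hns : ∀ t : K, g ≠ t • 1) :
    ∃ (d m : ℕ) (X : Matrix (Fin d) (Fin d) K) (Z : Matrix (Fin m) (Fin m) K), 2 ≤ d ∧ d + m = n ∧ Cyc X ∧
      Sim (Matrix.fromBlocks X 0 0 Z) g ∧ ∀ p : K[X], aeval X p = 0 → aeval Z p = 0 := by
  classical
  obtain ⟨D⟩ := ClassCount.exists_decomp g hg
  set e : Fin n → K := D.φ.symm fun _ => 1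
  have hmax : ∀ p : K[X], aeval g p *ᵥ e = 0 → aeval g p = 0 := by
    intro p hp
    apply Matrix.ext_iff_mulVec.2
    intro v
    apply D.φ.injective
    funext i
    have h1 := ClassCount.map_aeval D p e i
    rw [hp, map_zero, Pi.zero_apply, LinearEquiv.apply_symm_apply, mul_one] at h1
    rw [ClassCount.map_aeval, ← h1, zero_mul, zero_mulVec, map_zero, Pi.zero_apply]
  set μp := minpoly K g
  set d := μp.natDegree
  have hint : IsIntegral K g := Matrix.isIntegral g
  have hμm : μp.Monic := minpoly.monic hint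
  have hind : ∀ p : K[X], p.degree < (d : ℕ) → aeval g p *ᵥ e = 0 → p = 0 := by
    intro p hp h
    by_contra hp0
    have h1 := minpoly.degree_le_of_ne_zero K g hp0 (hmax p h)
    rw [degree_eq_natDegree hμm.ne_zero] at h1
    exact absurd hp (not_lt.2 h1)
  let poly : (Fin d → K) →ₗ[K] K[X] := ∑ j : Fin d, (monomial j.val).comp (LinearMap.proj j)
  have hpolyc : ∀ a (j : Fin d), (poly a).coeff j.val = a j := by
    intro a j
    simp [poly, finsetSum_coeff, coeff_monomial, Fin.val_inj]
  have hpolyd : ∀ a, (poly a).degree < (d : ℕ) := by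
    intro a
    have : poly a = ∑ j : Fin d, C (a j) * X ^ j.val := by
      simp [poly, C_mul_X_pow_eq_monomial]
    rw [this]; exact degree_sum_fin_lt a
  let Kr : (Fin d → K) →ₗ[K] (Fin n → K) :=
    { toFun := fun a => aeval g (poly a) *ᵥ e
      map_add' := fun a b => by simp [add_mulVec]
      map_smul' := fun s a => by simp [smul_mulVec] }
  have hKr : Function.Injective Kr := (injective_iff_map_eq_zero Kr).2 fun a ha => by
    have := hind _ (hpolyd a) ha
    funext j
    rw [← hpolyc a j, this, coeff_zero]; rfl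
  obtain ⟨Ls, hLs⟩ := Kr.exists_leftInverse_of_injective (LinearMap.ker_eq_bot.2 hKr)
  have hd0 : d ≠ 0 := by
    intro h0
    have hn : n ≠ 0 := by
      rintro rfl
      exact hns 0 (by ext i; exact i.elim0)
    have h1 : μp = 1 := hμm.natDegree_eq_zero.1 h0
    have h2 := minpoly.aeval K g
    rw [show minpoly K g = 1 from h1, map_one] at h2
    haveI : Nonempty (Fin n) := ⟨⟨0, by omega⟩⟩
    exact one_ne_zero h2
  have hpow : ∀ j : Fin d, g ^ j.val *ᵥ e = Kr (Pi.single j 1) := by
    intro j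
    show _ = aeval g (poly (Pi.single j 1)) *ᵥ e
    have : poly (Pi.single j 1) = X ^ j.val := by
      simp only [poly, LinearMap.coe_sum, LinearMap.coe_comp, Finset.sum_apply, Function.comp, LinearMap.proj_apply]
      rw [Finset.sum_eq_single j]
      · simp [monomial_one_right_eq_X_pow]
      · intro l _ hl; simp [hl]
      · exact fun h => absurd (Finset.mem_univ _) h
    rw [this, map_pow, aeval_X]
  set last : Fin d := ⟨d - 1, by omega⟩
  let φ : (Fin n → K) →ₗ[K] K := (LinearMap.proj last).comp Ls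
  have hφ : ∀ j : Fin d, φ (g ^ j.val *ᵥ e) = if j = last then 1 else 0 := by
    intro j
    rw [hpow j]
    show (Ls (Kr _)) last = _
    rw [show Ls (Kr (Pi.single j (1 : K))) = Pi.single j 1 from LinearMap.congr_fun hLs _, Pi.single_apply]
    simp [eq_comm]
  let Φ : (Fin n → K) →ₗ[K] (Fin d → K) :=
    LinearMap.pi fun j => φ.comp (Matrix.mulVecLin (g ^ j.val))
  have hΦ : ∀ v j, Φ v j = φ (g ^ j.val *ᵥ v) := fun v j => rfl
  have hΦK : Function.Injective (Φ.comp Kr) := (injective_iff_map_eq_zero _).2 fun a ha => by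
    by_contra ha0
    obtain ⟨i0, hi0⟩ := Function.ne_iff.1 ha0
    obtain ⟨i, hi, himax⟩ := (Finset.univ.filter fun i => a i ≠ 0).exists_maximal ⟨i0, by simpa using hi0⟩
    simp only [Finset.mem_filter, Finset.mem_univ, true_and] at hi himax
    have h1 := congrFun ha ⟨d - 1 - i.val, by omega⟩
    rw [LinearMap.comp_apply, hΦ] at h1
    apply hi
    have hKa : Kr a = ∑ l, a l • (g ^ l.val *ᵥ e) := by
      conv_lhs => rw [pi_eq_sum_univ' a]
      rw [map_sum]
      exact Finset.sum_congr rfl fun l _ => by rw [map_smul, hpow]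
    rw [hKa, mulVec_sum, map_sum, Finset.sum_eq_single i] at h1
    · rw [mulVec_smul, map_smul, mulVec_mulVec, ← pow_add,
        show d - 1 - i.val + i.val = last.val by simp [last]; omega, hφ last, if_pos rfl] at h1
      simpa using h1
    · intro l _ hl
      rcases lt_or_ge i l with h | h
      · have : a l = 0 := by
          by_contra hl0
          exact absurd (himax hl0 h.le) (not_le.2 h)
        rw [this, zero_smul, mulVec_zero, map_zero]
      · have hlt : l.val < i.val := lt_of_le_of_ne h fun he => hl (Fin.ext he)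
        rw [mulVec_smul, map_smul, mulVec_mulVec, ← pow_add,
          show g ^ (d - 1 - i.val + l.val) = g ^ (⟨d - 1 - i.val + l.val, by omega⟩ : Fin d).val from rfl,
          hφ, if_neg, smul_zero]
        simp only [last, Fin.ext_iff]; omega
    · exact fun h => absurd (Finset.mem_univ _) h
  have hbij : Function.Bijective (Φ.comp Kr) := ⟨hΦK, LinearMap.injective_iff_surjective.1 hΦK⟩
  set Ψ : (Fin n → K) →ₗ[K] (Fin d → K) := (LinearEquiv.ofBijective _ hbij).symm.toLinearMap.comp Φ
  have hΨK : ∀ a, Ψ (Kr a) = a := fun a => (LinearEquiv.ofBijective _ hbij).symm_apply_apply a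
  set W := LinearMap.ker Φ
  have hWker : ∀ v, Φ v = 0 ↔ Ψ v = 0 := fun v => by
    simp [Ψ]
  set m := Module.finrank K W
  let β : W ≃ₗ[K] (Fin m → K) := (Module.finBasis K W).equivFun
  let π : (Fin n → K) →ₗ[K] W := LinearMap.codRestrict W (LinearMap.id - Kr.comp Ψ) (fun v => by
    rw [LinearMap.mem_ker, hWker]
    simp [hΨK])
  let E : (Fin n → K) ≃ₗ[K] (Fin d ⊕ Fin m → K) :=
    { toFun := fun v => Sum.elim (Ψ v) (β (π v))
      map_add' := fun u v => by funext i; rcases i with i | i <;> simp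
      map_smul' := fun s v => by funext i; rcases i with i | i <;> simp
      invFun := fun z => Kr (z ∘ Sum.inl) + (β.symm (z ∘ Sum.inr) : W).1
      left_inv := fun v => by
        show Kr (Ψ v) + (β.symm (β (π v)) : W).1 = v
        rw [LinearEquiv.symm_apply_apply]
        show Kr (Ψ v) + (v - Kr (Ψ v)) = v
        abel
      right_inv := fun z => by
        have hw : Ψ (β.symm (z ∘ Sum.inr) : W).1 = 0 := (hWker _).1 (β.symm (z ∘ Sum.inr)).2
        have h1 : Ψ (Kr (z ∘ Sum.inl) + (β.symm (z ∘ Sum.inr) : W).1) = z ∘ Sum.inl := by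
          rw [map_add, hΨK, hw, add_zero]
        funext i
        rcases i with i | i
        · simpa using congrFun h1 i
        · have h2 : π (Kr (z ∘ Sum.inl) + (β.symm (z ∘ Sum.inr) : W).1) = β.symm (z ∘ Sum.inr) := by
            apply Subtype.ext
            show _ - Kr (Ψ _) = _
            rw [h1]; simp
          show β (π _) i = _
          rw [h2, LinearEquiv.apply_symm_apply]; rfl }
  set B := LinearMap.toMatrix' E.toLinearMap * g * LinearMap.toMatrix' E.symm.toLinearMap
  have hsim : Sim g B := ⟨LinearMap.toMatrix' E.toLinearMap, LinearMap.toMatrix' E.symm.toLinearMap,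
    by rw [← LinearMap.toMatrix'_comp]; simp, by rw [← LinearMap.toMatrix'_comp]; simp, rfl⟩
  have hBv : ∀ z, B *ᵥ z = E (g *ᵥ E.symm z) := fun z => by
    simp only [B, ← mulVec_mulVec, LinearMap.toMatrix'_mulVec]; rfl
  have hμ : ∀ v, aeval g μp *ᵥ v = 0 := fun v => by rw [minpoly.aeval, zero_mulVec]
  have hrange : ∀ a, ∃ b, g *ᵥ Kr a = Kr b := by
    intro a
    set q := (X * poly a) %ₘ μp
    refine ⟨fun j => q.coeff j.val, ?_⟩
    have hq : poly (fun j => q.coeff j.val) = q := by
      ext i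
      rcases lt_or_ge i d with hi | hi
      · exact hpolyc _ ⟨i, hi⟩
      · rw [coeff_eq_zero_of_degree_lt (lt_of_lt_of_le (hpolyd _) (by exact_mod_cast hi)),
          coeff_eq_zero_of_degree_lt (lt_of_lt_of_le (degree_modByMonic_lt _ hμm)
            (by rw [degree_eq_natDegree hμm.ne_zero]; exact_mod_cast hi))]
    show g *ᵥ (aeval g (poly a) *ᵥ e) = aeval g (poly _) *ᵥ e
    rw [hq, mulVec_mulVec]
    have hx : aeval g (X * poly a) = g * aeval g (poly a) := by rw [map_mul, aeval_X]
    rw [← hx]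
    conv_lhs => rw [← modByMonic_add_div (X * poly a) μp]
    rw [map_add, map_mul, add_mulVec, ← mulVec_mulVec, hμ, add_zero]
  have hW : ∀ v, Φ v = 0 → Φ (g *ᵥ v) = 0 := by
    intro v hv
    funext j
    rw [hΦ, mulVec_mulVec, ← pow_succ, Pi.zero_apply]
    rcases Nat.lt_or_ge (j.val + 1) d with h | h
    · exact congrFun hv ⟨j.val + 1, h⟩
    · have he : j.val + 1 = d := by omega
      have h1 := hμ v
      rw [aeval_eq_sum_range, Finset.sum_range_succ, add_mulVec, Matrix.sum_mulVec,
        show μp.coeff μp.natDegree = 1 from hμm.coeff_natDegree, one_smul] at h1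
      have h2 := congrArg φ h1
      rw [map_add, map_sum, map_zero, Finset.sum_eq_zero (fun i hi => by
        rw [smul_mulVec, map_smul]
        have := congrFun hv ⟨i, Finset.mem_range.1 hi⟩
        rw [hΦ, Pi.zero_apply] at this
        rw [this, smul_zero]), zero_add] at h2
      rw [he]; exact h2
  set Xm : Matrix (Fin d) (Fin d) K := B.toBlocks₁₁
  set Zm : Matrix (Fin m) (Fin m) K := B.toBlocks₂₂
  have hB : B = Matrix.fromBlocks Xm 0 0 Zm := by
    conv_lhs => rw [← Matrix.fromBlocks_toBlocks B]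
    congr 1
    · ext i j
      have := congrFun (hBv (Pi.single (Sum.inr j) 1)) (Sum.inl i)
      rw [mulVec_single_one] at this
      rw [Matrix.toBlocks₁₂, Matrix.of_apply]
      refine this.trans ?_
      show Ψ (g *ᵥ (Kr _ + _)) i = 0
      have e0 : (Pi.single (Sum.inr j) (1 : K) : Fin d ⊕ Fin m → K) ∘ Sum.inl = 0 := funext fun x => by simp
      rw [e0, map_zero, zero_add, (hWker _).1 (hW _ (β.symm _).2)]; rfl
    · ext i j
      have := congrFun (hBv (Pi.single (Sum.inl j) 1)) (Sum.inr i)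
      rw [mulVec_single_one] at this
      rw [Matrix.toBlocks₂₁, Matrix.of_apply]
      refine this.trans ?_
      show β (π (g *ᵥ (Kr _ + _))) i = 0
      have e0 : (Pi.single (Sum.inl j) (1 : K) : Fin d ⊕ Fin m → K) ∘ Sum.inr = 0 := funext fun x => by simp
      rw [e0, map_zero, Submodule.coe_zero, add_zero]
      obtain ⟨b, hb⟩ := hrange ((Pi.single (Sum.inl j) (1 : K) : Fin d ⊕ Fin m → K) ∘ Sum.inl)
      rw [hb, show π (Kr b) = 0 from Subtype.ext (show Kr b - Kr (Ψ (Kr b)) = 0 by rw [hΨK, sub_self]), map_zero]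
      rfl
  have key : ∀ (p : K[X]) (z : Fin d ⊕ Fin m → K), E (aeval g p *ᵥ E.symm z) =
      Sum.elim (aeval Xm p *ᵥ (z ∘ Sum.inl)) (aeval Zm p *ᵥ (z ∘ Sum.inr)) := by
    intro p
    induction p using Polynomial.induction_on' with
    | add p q hp hq =>
      intro z
      rw [map_add, map_add, map_add, add_mulVec, add_mulVec, add_mulVec, map_add, hp, hq]
      funext i; rcases i <;> simp
    | monomial j a =>
      intro z
      have hj : ∀ (j : ℕ), E (g ^ j *ᵥ E.symm z) = Sum.elim (Xm ^ j *ᵥ (z ∘ Sum.inl)) (Zm ^ j *ᵥ (z ∘ Sum.inr)) := by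
        intro j
        induction j with
        | zero => simp
        | succ j ih =>
          rw [pow_succ', ← mulVec_mulVec, ← E.symm_apply_apply (g ^ j *ᵥ E.symm z), ← hBv, ih, hB,
            Matrix.fromBlocks_mulVec, pow_succ', pow_succ', ← mulVec_mulVec, ← mulVec_mulVec]
          simp
      simp only [aeval_monomial, Algebra.algebraMap_eq_smul_one, smul_mul_assoc, Matrix.one_mul, smul_mulVec,
        map_smul, hj]
      funext i; rcases i <;> simp
  have he00 : ∀ p : K[X], aeval Xm p *ᵥ Pi.single (⟨0, by omega⟩ : Fin d) 1 = 0 → aeval g p = 0 := by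
    intro p hp
    set a0 : Fin d → K := Pi.single ⟨0, by omega⟩ 1
    have h0 : E.symm (Sum.elim a0 (0 : Fin m → K)) = e := by
      show Kr (Sum.elim a0 0 ∘ Sum.inl) + (β.symm (Sum.elim a0 (0 : Fin m → K) ∘ Sum.inr) : W).1 = e
      rw [Sum.elim_comp_inl, Sum.elim_comp_inr, map_zero, Submodule.coe_zero, add_zero, ← hpow]
      simp
    have h1 := key p (Sum.elim a0 0)
    rw [h0, Sum.elim_comp_inl, Sum.elim_comp_inr, hp, mulVec_zero] at h1
    apply hmax
    apply E.injective
    rw [h1, map_zero]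
    funext i; rcases i <;> simp
  have hd2 : 2 ≤ d := by
    by_contra h
    have h1 : d = 1 := by omega
    refine hns (-μp.coeff 0) ?_
    have h2 := minpoly.aeval K g
    rw [show minpoly K g = μp from rfl, hμm.eq_X_add_C h1, map_add, aeval_X, aeval_C,
      Algebra.algebraMap_eq_smul_one, add_eq_zero_iff_eq_neg] at h2
    rw [neg_smul]; exact h2
  have hcard : d + m = n := by
    have := E.finrank_eq
    rw [Module.finrank_fin_fun, Module.finrank_fintype_fun_eq_card, Fintype.card_sum, Fintype.card_fin,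
      Fintype.card_fin] at this
    omega
  refine ⟨d, m, Xm, Zm, hd2, hcard, ⟨Pi.single ⟨0, by omega⟩ 1, fun p hp hpe => ?_⟩, hB ▸ hsim.symm, fun p hp => ?_⟩
  · rw [Fintype.card_fin] at hp
    exact hind p hp (by rw [he00 p hpe, zero_mulVec])
  · have hg0 : aeval g p = 0 := he00 p (by rw [hp, zero_mulVec])
    apply Matrix.ext_iff_mulVec.2
    intro v
    have h1 := key p (Sum.elim 0 v)
    rw [hg0, zero_mulVec, map_zero, Sum.elim_comp_inr] at h1
    funext i
    have := congrFun h1 (Sum.inr i)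
    simpa using this.symm

/-- Cyclic blocks of size at least two above `W`, with a property of their characteristic polynomials. -/
inductive Stack (Pr : K[X] → Prop) {a : ℕ} (W : Matrix (Fin a) (Fin a) K) :
    ∀ {n : ℕ}, Matrix (Fin n) (Fin n) K → Prop
  | base : Stack Pr W W
  | cons {d m n : ℕ} (X : Matrix (Fin d) (Fin d) K) (Z : Matrix (Fin m) (Fin m) K)
      (g : Matrix (Fin n) (Fin n) K) : 2 ≤ d → d + m = n → Cyc X → Pr X.charpoly → Stack Pr W Z →
      Sim (Matrix.fromBlocks X 0 0 Z) g → Stack Pr W g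

theorem Stack.imp {Pr Pr' : K[X] → Prop} (h : ∀ f, Pr f → Pr' f) {a n : ℕ} {W : Matrix (Fin a) (Fin a) K}
    {g : Matrix (Fin n) (Fin n) K} (hs : Stack Pr W g) : Stack Pr' W g := by
  induction hs with
  | base => exact Stack.base
  | cons X Z g hd hn hX hP _ hsim ih => exact Stack.cons X Z g hd hn hX (h _ hP) ih hsim

theorem Stack.le {Pr : K[X] → Prop} {a n : ℕ} {W : Matrix (Fin a) (Fin a) K} {g : Matrix (Fin n) (Fin n) K}
    (hs : Stack Pr W g) : a ≤ n := by
  induction hs with
  | base => exact le_rfl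
  | cons X Z g hd hn hX hP _ hsim ih => omega

theorem Stack.split {Pr : K[X] → Prop} {c : K} {a b a' : ℕ} (hab : a' + b = a) {n : ℕ}
    {g : Matrix (Fin n) (Fin n) K} (hs : Stack Pr (c • (1 : Matrix (Fin a) (Fin a) K)) g) :
    ∃ (n' : ℕ) (g' : Matrix (Fin n') (Fin n') K), n' + b = n ∧
      Stack Pr (c • (1 : Matrix (Fin a') (Fin a') K)) g' ∧
      Sim (Matrix.fromBlocks g' 0 0 (c • (1 : Matrix (Fin b) (Fin b) K))) g := by
  induction hs with
  | base =>
    refine ⟨a', c • 1, hab, Stack.base, ?_⟩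
    rw [blocks_smul_one]
    exact sim_smul_one c (finSumFinEquiv.trans (finCongr hab))
  | @cons d m n X Z g hd hn hX hP _ hsim ih =>
    obtain ⟨m', Z', hm', hZ', hsZ⟩ := ih
    refine ⟨d + m', Matrix.reindex finSumFinEquiv finSumFinEquiv (Matrix.fromBlocks X 0 0 Z'), by omega,
      Stack.cons X Z' _ hd rfl hX hP hZ' (sim_reindex _ _), ?_⟩
    refine ((sim_blocks (sim_reindex finSumFinEquiv _).symm (Sim.refl _)).trans (sim_assoc X Z' _)).trans ?_
    exact (sim_blocks (Sim.refl X) hsZ).trans hsim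

/-- The normal form of a non-scalar matrix. -/
theorem exists_stack : ∀ (n : ℕ) (g : Matrix (Fin n) (Fin n) K), g.det ≠ 0 → (∀ t : K, g ≠ t • 1) →
    ∃ (d m a : ℕ) (X : Matrix (Fin d) (Fin d) K) (Z : Matrix (Fin m) (Fin m) K) (c : K) (f₂ : K[X]),
      2 ≤ d ∧ d + m = n ∧ c ≠ 0 ∧ Cyc X ∧ Sim (Matrix.fromBlocks X 0 0 Z) g ∧
      (0 < a → X.charpoly.eval c = 0) ∧ (X.charpoly.natDegree = 2 → X.charpoly = f₂) ∧
      Stack (fun f => f ∣ X.charpoly ∧ (0 < a → f.eval c = 0) ∧ (f.natDegree = 2 → f = f₂))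
        (c • (1 : Matrix (Fin a) (Fin a) K)) Z := by
  intro n
  induction n using Nat.strong_induction_on with
  | _ n ih =>
    intro g hg hns
    obtain ⟨d, m, X, Z, hd, hn, hX, hsim, hp⟩ := exists_summand g hg hns
    have hdet := det_blocks_ne (hsim.symm.det_ne hg)
    have hZX : aeval Z X.charpoly = 0 := hp _ (Matrix.aeval_self_charpoly X)
    by_cases hs : ∀ t : K, Z ≠ t • 1
    · obtain ⟨d', m', a, X', Z', c, f₂, hd', hn', hc, hX', hsim', hev, hf2, hst⟩ := ih m (by omega) Z hdet.2 hs
      have hdvd : X'.charpoly ∣ X.charpoly := by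
        refine charpoly_dvd_of_cyc hX' ?_
        obtain ⟨P, P', h1, h2, hPe⟩ := hsim'.symm
        have h3 : aeval (P * Z * P') X.charpoly = 0 := by
          rw [aeval_conj h2 h1, hZX, Matrix.mul_zero, Matrix.zero_mul]
        rw [← hPe] at h3
        have key : ∀ p : K[X], aeval (Matrix.fromBlocks X' 0 0 Z') p =
            Matrix.fromBlocks (aeval X' p) 0 0 (aeval Z' p) := by
          intro p
          induction p using Polynomial.induction_on' with
          | add p q hp hq => rw [map_add, map_add, map_add, hp, hq, Matrix.fromBlocks_add]; simp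
          | monomial j b =>
            simp only [aeval_monomial, Algebra.algebraMap_eq_smul_one, smul_mul_assoc, Matrix.one_mul]
            rw [Matrix.fromBlocks_diagonal_pow, Matrix.fromBlocks_smul, smul_zero, smul_zero]
        rw [key] at h3
        have h4 := congrArg Matrix.toBlocks₁₁ h3
        rw [Matrix.toBlocks_fromBlocks₁₁] at h4
        rw [h4]; ext i j; rfl
      by_cases h2 : X.charpoly.natDegree = 2
      · have heq : X'.charpoly = X.charpoly := by
          refine (eq_of_monic_of_dvd_of_natDegree_le (charpoly_monic X') (charpoly_monic X) hdvd ?_).symm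
          rw [h2]
          have h' := charpoly_natDegree_eq_dim X'
          rw [Fintype.card_fin] at h'
          omega
        have hf : X'.charpoly = f₂ := hf2 (by rw [heq, h2])
        refine ⟨d, m, a, X, Z, c, f₂, hd, hn, hc, hX, hsim, fun ha => heq ▸ hev ha, fun _ => heq ▸ hf, ?_⟩
        refine Stack.cons X' Z' Z hd' hn' hX' ⟨hdvd, hev, hf2⟩ (hst.imp fun f hf => ⟨hf.1.trans hdvd, hf.2⟩) hsim'
      · refine ⟨d, m, a, X, Z, c, f₂, hd, hn, hc, hX, hsim,
          fun ha => eval_eq_zero_of_dvd_of_eval_eq_zero hdvd (hev ha), fun h => absurd h h2, ?_⟩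
        exact Stack.cons X' Z' Z hd' hn' hX' ⟨hdvd, hev, hf2⟩ (hst.imp fun f hf => ⟨hf.1.trans hdvd, hf.2⟩) hsim'
    · push Not at hs
      obtain ⟨t, rfl⟩ := hs
      rcases Nat.eq_zero_or_pos m with hm | hm
      · subst hm
        refine ⟨d, 0, 0, X, _, 1, X.charpoly, hd, hn, one_ne_zero, hX, hsim, fun h => absurd h (lt_irrefl 0), fun _ => rfl, ?_⟩
        have : t • (1 : Matrix (Fin 0) (Fin 0) K) = (1 : K) • 1 := by ext i; exact i.elim0
        rw [this]
        exact Stack.base
      · have ht : t ≠ 0 := by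
          intro h
          apply hdet.2
          rw [h, zero_smul]
          haveI : Nonempty (Fin m) := ⟨⟨0, hm⟩⟩
          exact det_zero
        refine ⟨d, m, m, X, _, t, X.charpoly, hd, hn, ht, hX, hsim, fun _ => ?_, fun _ => rfl, Stack.base⟩
        have key : ∀ p : K[X], aeval (t • (1 : Matrix (Fin m) (Fin m) K)) p = p.eval t • 1 := by
          intro p
          rw [← Algebra.algebraMap_eq_smul_one, aeval_algebraMap_apply, Algebra.algebraMap_eq_smul_one,
            coe_aeval_eq_eval]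
        rw [key] at hZX
        have := congrFun (congrFun hZX ⟨0, hm⟩) ⟨0, hm⟩
        simpa using this

end CfsgLib.LevCover
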