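import Cfsg.Agent.LevCover.SeedJordan

/-!
No scalar summand, size at least five.
-/

set_option autoImplicit false
set_option linter.unusedSectionVars false
set_option linter.unusedSimpArgs false

namespace CfsgLib.LevCover

open Matrix Polynomial

variable {K : Type*} [Field K]

/-- Every matrix of determinant one is, up to a scalar, a product of `n` conjugates with equal determinants. -/
def Covers {n : ℕ} (x : Matrix (Fin n) (Fin n) K) : Prop :=
  (∀ g : Matrix (Fin n) (Fin n) K, g.det = 1 → (∀ t : K, g ≠ t • 1) → ∃ c : K, Unif x n (c • g)) ∧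
    ∃ c : K, Unif x n (c • (1 : Matrix (Fin n) (Fin n) K))

theorem covers_of_simProd {n : ℕ} {x : Matrix (Fin n) (Fin n) K} (hx : Surj x)
    (h1 : ∀ g : Matrix (Fin n) (Fin n) K, g.det = 1 → (∀ t : K, g ≠ t • 1) → SimProd x n g)
    (h2 : ∃ c : K, SimProd x n (c • (1 : Matrix (Fin n) (Fin n) K))) : Covers x :=
  ⟨fun g hg hgs => ⟨1, by rw [one_smul]; exact Unif.of_simProd hx (h1 g hg hgs)⟩,
    h2.imp fun _ h => Unif.of_simProd hx h⟩

theorem good_of_top {k d m : ℕ} (hd : 3 ≤ d) {x : Matrix (Fin (k + 2)) (Fin (k + 2)) K}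
    {X : Matrix (Fin d) (Fin d) K} {Z : Matrix (Fin m) (Fin m) K} (hn : d + m = k + 2) (hX : Cyc X)
    (hsim : Sim (Matrix.fromBlocks X 0 0 Z) x) (β : Fin (k + 2) → K) : Good x β := by
  obtain ⟨l, rfl⟩ : ∃ l, d = l + 3 := ⟨d - 3, by omega⟩
  obtain ⟨i, rfl⟩ : ∃ i, k = i + 1 := ⟨k - 1, by omega⟩
  obtain ⟨e, he⟩ := hX
  obtain ⟨h1, h2⟩ := cycV_nonquad he
  obtain ⟨P, P', p1, p2, rfl⟩ := hsim
  set v : Fin (l + 3) ⊕ Fin m → K := Sum.elim e 0
  set B := Matrix.fromBlocks X 0 0 Z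
  have hinj : ∀ u w, P *ᵥ u = P *ᵥ w → u = w := fun u w h => by
    have := congrArg (P' *ᵥ ·) h
    simpa [mulVec_mulVec, p2] using this
  have hx : ∀ u, (P * B * P') *ᵥ (P *ᵥ u) = P *ᵥ (B *ᵥ u) := fun u => by
    simp only [mulVec_mulVec, Matrix.mul_assoc, p2, Matrix.mul_one]
  have hB : ∀ u : Fin (l + 3) → K, B *ᵥ Sum.elim u 0 = Sum.elim (X *ᵥ u) 0 := fun u => by
    funext y; rcases y with y | y <;> simp [B, Matrix.fromBlocks_mulVec]
  refine Or.inr ⟨i, rfl, P *ᵥ v, fun t h => ?_, fun s t h => ?_⟩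
  · rw [hx, ← mulVec_smul, hB] at h
    have h' := hinj _ _ h
    exact h1 t (funext fun y => by simpa [v] using congrFun h' (Sum.inl y))
  · rw [hx, hB, hx, hB, ← mulVec_smul, ← mulVec_smul, ← mulVec_add] at h
    have h' := hinj _ _ h
    exact h2 s t (funext fun y => by simpa [v] using congrFun h' (Sum.inl y))

theorem Stack.with_deg {Pr : K[X] → Prop} {a n : ℕ} {W : Matrix (Fin a) (Fin a) K} {g : Matrix (Fin n) (Fin n) K}
    (hs : Stack Pr W g) : Stack (fun f => Pr f ∧ f.Monic ∧ 2 ≤ f.natDegree) W g := by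
  induction hs with
  | base => exact Stack.base
  | cons X Z g hd hn hX hP _ hsim ih =>
    exact Stack.cons X Z g hd hn hX
      ⟨hP, charpoly_monic X, by rw [charpoly_natDegree_eq_dim, Fintype.card_fin]; exact hd⟩ ih hsim

variable [Fintype K]

/-- Split classes with a simple value in three or more factors. -/
theorem chain (h4 : 4 ≤ Fintype.card K) {k : ℕ} {x H : Matrix (Fin (k + 2)) (Fin (k + 2)) K} (hx1 : x.det = 1)
    (hxs : ∀ t : K, x ≠ t • 1) (hH : Unif x 2 H) (hHc : Cyc H) {β : Fin (k + 2) → K} (hr : Runs β)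
    (hne : ∀ i : Fin (k + 1), β i.succ ≠ β 0) (hp : ∏ i, β i = 1) :
    ∀ j : ℕ, ∃ R : Matrix (Fin (k + 2)) (Fin (k + 2)) K, Cyc R ∧
      R.charpoly = ∏ i, (Polynomial.X - Polynomial.C (β i)) ∧ Unif x (3 + j) R := by
  have hxd : x.det ≠ 0 := by rw [hx1]; exact one_ne_zero
  obtain ⟨R, hRc, hR⟩ := exists_split_class (β := β)
  have hb : β 0 ≠ β 1 := (hne 0).symm
  have hRs : Surj R := surj_simple hRc ⟨β, hR, fun i j hi hj => by
    obtain rfl : i = 0 := Fin.ext (by simpa using hi)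
    obtain ⟨j', rfl⟩ := Fin.exists_succ_eq.2 (show j ≠ 0 from fun h => hj (by simp [h]))
    exact hne j'⟩ (by omega)
  have hRd : R.det = 1 := by rw [det_of_prod hR, hp]
  intro j
  induction j with
  | zero =>
    exact ⟨R, hRc, hR, next_unif (j := 2) h4 hxd hH hHc hr (Or.inl ⟨hb, hxs⟩) hRc hR hRs
      (by rw [hRd, hH.simProd.det_eq, hx1, one_pow, one_mul])⟩
  | succ j ih =>
    obtain ⟨R', hR'c, hR', hR'u⟩ := ih
    refine ⟨R, hRc, hR, ?_⟩
    have h := next_unif h4 hxd hR'u hR'c hr (Or.inl ⟨hb, hxs⟩) hRc hR hRs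
      (by rw [hRd, hR'u.simProd.det_eq, hx1, one_pow, one_mul])
    rwa [show 1 + (3 + j) = 3 + (j + 1) by omega] at h

theorem covers_of_seed (h4 : 4 ≤ Fintype.card K) {k : ℕ} (hk : 3 ≤ k) {x H : Matrix (Fin (k + 2)) (Fin (k + 2)) K}
    (hx1 : x.det = 1) (hxs : ∀ t : K, x ≠ t • 1) (hH : Unif x 2 H) (hHc : Cyc H)
    (hid : k = 3 → SimplePoly H ∨ (Surj x ∧ SplitPoly H ∧ ∀ β : Fin (k + 2) → K, Good x β)) : Covers x := by
  classical
  have hxd : x.det ≠ 0 := by rw [hx1]; exact one_ne_zero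
  obtain ⟨β, hβnz, hβ0, hβne, hβp, hβr⟩ := exists_spectrum h4 (m := k + 1) (by omega) (b := (1 : K)) one_ne_zero
    (D := 1) one_ne_zero
  have hne : ∀ i : Fin (k + 1), β i.succ ≠ β 0 := fun i => by rw [hβ0]; exact hβne i
  obtain ⟨R, hRc, hRχ, hR⟩ := chain h4 hx1 hxs hH hHc hβr hne hβp 0
  refine ⟨fun g hg hgs => ⟨1, ?_⟩, ⟨1, ?_⟩⟩
  · rw [one_smul]
    have hgood : Good g β := Or.inl ⟨(hne 0).symm, hgs⟩
    rcases Nat.lt_or_ge 3 k with h3 | h3
    · obtain ⟨S, hSc, -, hS⟩ := chain h4 hx1 hxs hH hHc hβr hne hβp (k - 4)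
      have h := factor_unif h4 hxd hS hSc hR hRc hβr hRχ hgood
        (by rw [hR.simProd.det_eq, hS.simProd.det_eq, hx1, one_pow, one_pow, hg, one_mul])
      rwa [show 3 + 0 + (3 + (k - 4)) = k + 2 by omega] at h
    · have h := factor_unif h4 hxd hH hHc hR hRc hβr hRχ hgood
        (by rw [hR.simProd.det_eq, hH.simProd.det_eq, hx1, one_pow, one_pow, hg, one_mul])
      rwa [show 3 + 0 + 2 = k + 2 by omega] at h
  · rw [one_smul]
    have finish : ∀ {i j : ℕ} {A B : Matrix (Fin (k + 2)) (Fin (k + 2)) K}, i + j = k + 2 → Unif x i A →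
        Unif x j B → Cyc A → Cyc B → A.charpoly = B⁻¹.charpoly →
        Unif x (k + 2) (1 : Matrix (Fin (k + 2)) (Fin (k + 2)) K) := by
      intro i j A B hij hA hB hAc hBc he
      have hBd := hB.simProd.det_ne hxd
      have h := (hA.of_sim (sim_of_cyc hAc (hBc.inv hBd) he)).mul hB
      rw [Matrix.nonsing_inv_mul B (isUnit_iff_ne_zero.2 hBd), hij] at h
      exact h
    rcases Nat.lt_or_ge 3 k with h3 | h3
    · obtain ⟨S, hSc, hSχ, hS⟩ := chain h4 hx1 hxs hH hHc (β := fun i => (β i)⁻¹) (hβr.comp_injective inv_injective)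
        (fun i h => hne i (inv_injective h)) (by rw [Finset.prod_inv_distrib, hβp, inv_one]) (k - 4)
      exact finish (show 3 + (k - 4) + (3 + 0) = k + 2 by omega) hS hR hSc hRc
        (hSχ.trans (charpoly_inv_runs hRc hβr hβnz hRχ).symm)
    · obtain rfl : k = 3 := by omega
      have hHd := hH.simProd.det_ne hxd
      have hdet : H⁻¹.det = x.det * H.det := by
        rw [det_nonsing_inv, Ring.inverse_eq_inv', hH.simProd.det_eq, hx1, one_pow, inv_one, one_mul]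
      rcases hid rfl with hS | ⟨hSx, ⟨γ, hγ⟩, hgood⟩
      · obtain ⟨γ, hγr, hγ01, hγ, hγne⟩ := exists_ordered (n := 3) hS
        have hγnz : ∀ i, γ i ≠ 0 := fun i => Finset.prod_ne_zero_iff.1
          (by rw [← det_of_prod hγ]; exact hHd) i (Finset.mem_univ i)
        have hinv := charpoly_inv_runs hHc hγr hγnz hγ
        have hs : SimplePoly H⁻¹ := ⟨fun i => (γ i)⁻¹, hinv, fun i j hi hj he => by
          obtain rfl : i = 0 := Fin.ext (by simpa using hi)
          obtain ⟨j', rfl⟩ := Fin.exists_succ_eq.2 (show j ≠ 0 from fun h => hj (by simp [h]))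
          exact hγne j' (inv_injective he)⟩
        have h := next_unif (k := 3) h4 hxd hH hHc (β := fun i => (γ i)⁻¹) (hγr.comp_injective inv_injective)
          (Or.inl ⟨fun h => hγ01 (inv_injective h), hxs⟩) (hHc.inv hHd) hinv
          (surj_simple (hHc.inv hHd) hs (by omega)) hdet
        exact finish (show 1 + 2 + 2 = 3 + 2 by omega) h hH (hHc.inv hHd) hHc rfl
      · obtain ⟨hγnz, hinv⟩ := charpoly_inv_split hHc hHd hγ
        obtain ⟨σ, hσ⟩ := exists_runs_perm fun i => (γ i)⁻¹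
        have h := next_split (k := 3) h4 hxd hH.simProd hHc hσ (hgood _) (hHc.inv hHd)
          (hinv.trans (Equiv.prod_comp σ fun i => Polynomial.X - Polynomial.C (γ i)⁻¹).symm) hdet
        exact finish (show 1 + 2 + 2 = 3 + 2 by omega) (Unif.of_simProd hSx h) hH (hHc.inv hHd) hHc rfl

/-- Case A, size at least five. -/
theorem caseA_five (h4 : 4 ≤ Fintype.card K) {n d m₀ : ℕ} (hn5 : 5 ≤ n) {x : Matrix (Fin n) (Fin n) K}
    (hx1 : x.det = 1) {lam : K} {f₂ : K[X]} {X : Matrix (Fin d) (Fin d) K} {Z : Matrix (Fin m₀) (Fin m₀) K}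
    (hd : 2 ≤ d) (hn : d + m₀ = n) (hX : Cyc X) (hsim : Sim (Matrix.fromBlocks X 0 0 Z) x)
    (hf₂ : X.charpoly.natDegree = 2 → X.charpoly = f₂)
    (hst : Stack (fun f => f ∣ X.charpoly ∧ (f.natDegree = 2 → f = f₂))
      (lam • (1 : Matrix (Fin 0) (Fin 0) K)) Z) : Covers x := by
  classical
  obtain ⟨k, rfl⟩ : ∃ k, n = k + 2 := ⟨n - 2, by omega⟩
  have hxd : x.det ≠ 0 := by rw [hx1]; exact one_ne_zero
  obtain ⟨hXd, hZd⟩ := det_blocks_ne (hsim.symm.det_ne hxd)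
  have hxs : ∀ t : K, x ≠ t • 1 := nonscalar_of_sim hsim (nonscalar_left Z (cyc_nonscalar hd hX))
  have hdd : X.charpoly.natDegree = d := by rw [charpoly_natDegree_eq_dim, Fintype.card_fin]
  have not_two : k = 3 → d = 2 → False := by
    intro hk hd2
    cases hst.with_deg with
    | base => omega
    | @cons d₁ m₁ _ X₁ Z₁ g₁ hd₁ hn₁ hX₁ hP₁ hZ₁ _ =>
      have h := natDegree_le_of_dvd hP₁.1.1 (charpoly_monic X).ne_zero
      rw [charpoly_natDegree_eq_dim, Fintype.card_fin, hdd] at h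
      cases hZ₁ with
      | base => omega
      | @cons d₂ m₂ _ X₂ Z₂ g₂ hd₂ hn₂ _ _ hZ₂ _ => omega
  by_cases hSx : Surj x
  · obtain ⟨a₀, h0, -, hu⟩ := exists_notMem_sq h4 (f₂.coeff 0) 0
    obtain ⟨Z₁, Z₂, h1, h2, hc, hs, -⟩ := base_product h4 (a := 0) (c := lam) (by omega) h0
      (fun h => absurd h (by omega)) (Pr := fun f => f.natDegree = 2 → f = f₂)
      (fun f hf h2 => by rw [hf h2]; exact hu)
      (Stack.cons X Z x hd hn hX hf₂ (hst.imp fun f hf => hf.2) hsim) hxd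
    refine covers_of_seed h4 (by omega) hx1 hxs (Unif.of_simProd hSx ((SimProd.one h1).mul (SimProd.one h2))) hc
      fun hk => Or.inr ⟨hSx, hs, fun β => ?_⟩
    refine good_of_top ?_ hn hX hsim β
    by_contra h3
    exact not_two hk (by omega)
  have hnot : ∀ f, f = X.charpoly → Sq f ∧ (f.natDegree = 2 → (2 : K) ≠ 0) := by
    rintro f rfl
    refine ⟨by_contra fun h => hSx (surj_summand hn hsim (Or.inl (surj_of_not_sq h4 hX h))), fun h h2 => ?_⟩
    exact hSx (surj_summand hn hsim (Or.inl (surj_char_two h2 X (j := 1) (by rw [hdd] at h; omega))))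
  obtain ⟨hsq, h20⟩ := hnot _ rfl
  obtain hst' | hS := hst.with_deg.refine_or_surj (Q := Sq) (fun _ M hM _ h => surj_of_not_sq h4 hM h)
  swap
  · exact absurd (surj_summand hn hsim (Or.inr hS)) hSx
  rcases Nat.lt_or_ge d 3 with hd3 | hd3
  · obtain rfl : d = 2 := by omega
    obtain ⟨ρ, hρ⟩ := sq_quadratic (charpoly_monic X) hdd hsq
    have hρ0 : ρ ≠ 0 := by
      rintro rfl
      rw [det_two_of_charpoly, hρ, coeff_zero_eq_eval_zero] at hXd
      simp at hXd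
    obtain ⟨H, hHc, hH⟩ := seed_jordan h4 (h20 hdd) hn hxd hρ0 hX hρ hsim
      (hst'.imp fun f hf => (eq_of_monic_of_dvd_of_natDegree_le hf.1.2.1 (charpoly_monic X) hf.1.1.1
        (by rw [hdd]; exact hf.1.2.2)).symm.trans hρ) (by omega)
    exact covers_of_seed h4 (by omega) hx1 hxs hH hHc fun hk => absurd rfl (not_two hk)
  suffices hseed : ∃ R : Matrix (Fin (k + 2)) (Fin (k + 2)) K, Cyc R ∧ Unif x 2 R ∧ SimplePoly R by
    obtain ⟨H, hHc, hH, hHs⟩ := hseed
    exact covers_of_seed h4 (by omega) hx1 hxs hH hHc fun _ => Or.inl hHs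
  by_cases hroot : ∃ ρ, X.charpoly.IsRoot ρ
  · obtain ⟨ρ, hρ, hq⟩ : ∃ ρ, X.charpoly.IsRoot ρ ∧ ∀ f : K[X], ((f ∣ X.charpoly ∧ (f.natDegree = 2 → f = f₂)) ∧
        f.Monic ∧ 2 ≤ f.natDegree) ∧ Sq f → f.natDegree = 2 →
          f = (Polynomial.X - Polynomial.C ρ) * (Polynomial.X - Polynomial.C ρ) := by
      by_cases hex : ∃ f : K[X], ((f ∣ X.charpoly ∧ (f.natDegree = 2 → f = f₂)) ∧
          f.Monic ∧ 2 ≤ f.natDegree) ∧ Sq f ∧ f.natDegree = 2
      · obtain ⟨f, hf, hfs, hf2⟩ := hex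
        obtain ⟨σ, hσ⟩ := sq_quadratic hf.2.1 hf2 hfs
        refine ⟨σ, Polynomial.IsRoot.dvd ?_ hf.1.1, fun g hg hg2 => ?_⟩
        · rw [hσ, Polynomial.IsRoot]; simp
        · rw [hg.1.1.2 hg2, ← hf.1.2 hf2, hσ]
      · obtain ⟨ρ, hρ⟩ := hroot
        exact ⟨ρ, hρ, fun f hf h2 => absurd ⟨f, hf.1, hf.2, h2⟩ hex⟩
    exact seed_root h4 hd3 hn hxd hX hsim hsq hρ hst' hq
  · push Not at hroot
    refine seed_noroot h4 hd3 hn hxd hX hsim hsq hroot hst' (fun f hf h2 => ?_) (fun f hf => hf.1.1.1)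
      (fun hd4 => by omega)
    obtain ⟨σ, hσ⟩ := sq_quadratic hf.1.2.1 h2 hf.2
    refine hroot σ (Polynomial.IsRoot.dvd ?_ hf.1.1.1)
    rw [hσ, Polynomial.IsRoot]; simp

end CfsgLib.LevCover
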