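import Cfsg.Agent.LevCover.Special

/-!
A non-scalar matrix with a scalar summand, other than the pseudo-reflections: every matrix of determinant one
is, up to a scalar, a product of `n` conjugates.
-/

set_option autoImplicit false
set_option linter.unusedSectionVars false
set_option linter.unusedSimpArgs false

namespace CfsgLib.LevCover

open Matrix Polynomial

variable {K : Type*} [Field K]

theorem sim_empty {ι μ : Type*} [Fintype ι] [DecidableEq ι] [Fintype μ] [DecidableEq μ] [IsEmpty μ]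
    (G : Matrix ι ι K) (D : Matrix μ μ K) : Sim (Matrix.fromBlocks G 0 0 D) G := by
  refine Sim.of_reindex (Equiv.sumEmpty ι μ) ?_
  ext i j; simp

theorem Sim.det_of_equiv {ι κ : Type*} [Fintype ι] [DecidableEq ι] [Fintype κ] [DecidableEq κ]
    {A : Matrix ι ι K} {B : Matrix κ κ K} (h : Sim A B) (σ : κ ≃ ι) : B.det = A.det := by
  rw [← (h.trans (sim_reindex σ B)).det_eq, Matrix.det_reindex_self]

/-- Products in two diagonal blocks. -/
theorem SimProd.blocks₂ {ι κ μ ν : Type*} [Fintype ι] [DecidableEq ι] [Fintype κ] [DecidableEq κ] [Fintype μ]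
    [DecidableEq μ] [Fintype ν] [DecidableEq ν] {A : Matrix ι ι K} {B : Matrix μ μ K} {m : ℕ} {R : Matrix κ κ K}
    {S : Matrix ν ν K} (h : SimProd A m R) (h' : SimProd B m S) :
    SimProd (Matrix.fromBlocks A 0 0 B) m (Matrix.fromBlocks R 0 0 S) := by
  obtain ⟨f, hf, rfl⟩ := h
  obtain ⟨f', hf', rfl⟩ := h'
  refine ⟨fun i => Matrix.fromBlocks (f i) 0 0 (f' i), fun i => sim_blocks (hf i) (hf' i), ?_⟩
  clear hf hf'
  induction m with
  | zero => simp [Matrix.fromBlocks_one]
  | succ m ih =>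
    rw [List.ofFn_succ, List.prod_cons, List.ofFn_succ, List.prod_cons, List.ofFn_succ, List.prod_cons,
      ← ih (fun i => f i.succ) (fun i => f' i.succ), Matrix.fromBlocks_multiply]
    simp

theorem Runs.comp_injective {m : ℕ} {β : Fin m → K} (h : Runs β) {φ : K → K} (hφ : Function.Injective φ) :
    Runs (φ ∘ β) :=
  fun i j l hij hjl he => congrArg φ (h i j l hij hjl (hφ he))

theorem cyc_scalar_one (c : K) : Cyc (c • (1 : Matrix (Fin 1) (Fin 1) K)) :=
  cyc_hess ⟨fun i j h => absurd h (by have := i.isLt; omega), fun i j h => absurd h (by have := i.isLt; omega)⟩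

theorem cycV_nonquad {m : ℕ} {A : Matrix (Fin (m + 3)) (Fin (m + 3)) K} {e : Fin (m + 3) → K} (he : CycV A e) :
    (∀ t : K, A *ᵥ e ≠ t • e) ∧ ∀ s t : K, A *ᵥ (A *ᵥ e) ≠ s • (A *ᵥ e) + t • e := by
  constructor
  · intro t h
    refine X_sub_C_ne_zero t (he _ ?_ ?_)
    · rw [degree_X_sub_C, Fintype.card_fin]; exact_mod_cast (show 1 < m + 3 by omega)
    · rw [map_sub, aeval_X, aeval_C, Algebra.algebraMap_eq_smul_one, sub_mulVec, smul_mulVec, one_mulVec, h, sub_self]
  · intro s t h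
    have hp : (Polynomial.X ^ 2 - (Polynomial.C s * Polynomial.X + Polynomial.C t) : K[X]).natDegree = 2 := by
      compute_degree!
    have hne : (Polynomial.X ^ 2 - (Polynomial.C s * Polynomial.X + Polynomial.C t) : K[X]) ≠ 0 := fun h0 => by
      rw [h0, natDegree_zero] at hp; omega
    refine hne (he _ ?_ ?_)
    · rw [degree_eq_natDegree hne, hp, Fintype.card_fin]; exact_mod_cast (show 2 < m + 3 by omega)
    · rw [map_sub, map_add, map_mul, map_pow, aeval_X, aeval_C, aeval_C, Algebra.algebraMap_eq_smul_one,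
        Algebra.algebraMap_eq_smul_one, sub_mulVec, add_mulVec, pow_two, ← mulVec_mulVec, h, smul_mul_assoc,
        Matrix.one_mul, smul_mulVec, smul_mulVec, one_mulVec, sub_self]

theorem cyc_smul_inv {n : ℕ} {X : Matrix (Fin n) (Fin n) K} (hX : Cyc X) (hd : X.det ≠ 0) {c : K} (hc : c ≠ 0) :
    Cyc (c • X⁻¹) := by
  obtain ⟨e, he⟩ := hX.inv hd
  refine ⟨e, fun p hp hpe => ?_⟩
  have hq : aeval X⁻¹ (p.comp (Polynomial.C c * Polynomial.X)) *ᵥ e = 0 := by
    rw [aeval_comp, map_mul, aeval_C, aeval_X, Algebra.algebraMap_eq_smul_one, smul_mul_assoc, Matrix.one_mul]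
    exact hpe
  by_contra hp0
  have hdeg : (p.comp (Polynomial.C c * Polynomial.X)).natDegree = p.natDegree := by
    rw [natDegree_comp, natDegree_C_mul_X c hc, mul_one]
  have hz : p.comp (Polynomial.C c * Polynomial.X) = 0 := by
    refine he _ ?_ hq
    rcases eq_or_ne (p.comp (Polynomial.C c * Polynomial.X)) 0 with h | h
    · rw [h, degree_zero]; exact WithBot.bot_lt_coe _
    · rw [← natDegree_lt_iff_degree_lt h, hdeg]
      exact (natDegree_lt_iff_degree_lt hp0).2 hp
  rcases Polynomial.comp_eq_zero_iff.1 hz with h | ⟨-, h⟩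
  · exact hp0 h
  · have := congrArg (fun f => f.coeff 1) h
    simp [hc] at this

variable [Fintype K]

/-- Values `b` first and `v` after it, contiguously. -/
theorem exists_ordering {m : ℕ} {b : K} {v : Fin (m + 1) → K} (hv : ∀ i, v i ≠ b) :
    ∃ β : Fin (m + 2) → K, Runs β ∧ β 0 = b ∧ β 1 ≠ b ∧
      ∏ i, (Polynomial.X - Polynomial.C (β i)) = (Polynomial.X - Polynomial.C b) * ∏ i, (Polynomial.X - Polynomial.C (v i)) ∧
      ∏ i, β i = b * ∏ i, v i := by
  obtain ⟨σ, hσ⟩ := exists_runs_perm v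
  refine ⟨Fin.cons b (v ∘ σ), runs_cons hσ fun i => hv _, rfl, ?_, ?_, ?_⟩
  · rw [show (1 : Fin (m + 2)) = Fin.succ 0 from rfl, Fin.cons_succ]
    exact hv _
  · rw [Fin.prod_univ_succ]
    simp only [Fin.cons_zero, Fin.cons_succ, Function.comp]
    congr 1
    exact Equiv.prod_comp σ (fun i => Polynomial.X - Polynomial.C (v i))
  · rw [Fin.prod_univ_succ]
    simp only [Fin.cons_zero, Fin.cons_succ, Function.comp]
    rw [Equiv.prod_comp σ v]

/-- From a cyclic part of corank one to a split class of full size. -/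
theorem extend_one (h4 : 4 ≤ Fintype.card K) {m k : ℕ} {lam : K} (hlam : lam ≠ 0)
    {x : Matrix (Fin (m + 3)) (Fin (m + 3)) K} (hx1 : x.det = 1) {A : Matrix (Fin (m + 2)) (Fin (m + 2)) K}
    (hx : Sim x (Matrix.fromBlocks A 0 0 (lam • (1 : Matrix (Fin 1) (Fin 1) K)))) (hR : Reach x lam k (m + 2))
    {β : Fin (m + 2) → K} (hr : Runs β) (hβp : ∏ i, β i = (lam ^ (k + 1))⁻¹) (hgood : Good A β)
    (hb : β 0 ≠ lam ^ (k + 1)) :
    ∃ G : Matrix (Fin (m + 3)) (Fin (m + 3)) K, Cyc G ∧ SimProd x (k + 1) G ∧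
      G.charpoly = (∏ i, (Polynomial.X - Polynomial.C (β i))) * (Polynomial.X - Polynomial.C (lam ^ (k + 1))) := by
  obtain ⟨r, H, hr1, hH, hHs⟩ := hR
  obtain rfl : r = 1 := by omega
  have hxd : x.det ≠ 0 := by rw [hx1]; exact one_ne_zero
  have hdA : A.det * lam = 1 := by
    have h := hx.det_of_equiv (finSumFinEquiv : Fin (m + 2) ⊕ Fin 1 ≃ Fin (m + 3))
    rw [det_fromBlocks_zero₂₁, det_smul, det_one, hx1] at h
    simpa using h
  have hdH : H.det * lam ^ k = 1 := by
    have h := hHs.of_sim (sim_reindex (finSumFinEquiv : Fin (m + 2) ⊕ Fin 1 ≃ Fin (m + 3)) _)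
    have h2 := h.det_eq
    rw [Matrix.det_reindex_self, det_fromBlocks_zero₂₁, det_smul, det_one, hx1] at h2
    simpa using h2
  have hlk : lam ^ (k + 1) ≠ 0 := pow_ne_zero _ hlam
  have hx' : Sim x (Matrix.fromBlocks
      (Matrix.fromBlocks A (0 : Matrix (Fin (m + 2)) (Fin 1) K) 0 (lam • (1 : Matrix (Fin 1) (Fin 1) K))) 0 0
      (lam • (1 : Matrix (Fin 0) (Fin 0) K))) := hx.trans (sim_empty _ _).symm
  obtain ⟨G, hG, hGs, hGc⟩ := step_core h4 hlam (show 1 = 1 + 0 from rfl) hH hHs (cyc_scalar_one lam) hxd hx'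
    (fun i => Finset.prod_ne_zero_iff.1 (by rw [hβp]; exact inv_ne_zero hlk) i (Finset.mem_univ i)) hr
    (by
      rw [hβp]
      refine inv_eq_of_mul_eq_one_right ?_
      rw [pow_succ]
      linear_combination (H.det * lam ^ k) * hdA + hdH) hgood
    (fun θ v hv hθ => by
      rw [smul_mulVec, one_mulVec] at hθ
      obtain ⟨i, hi⟩ := Function.ne_iff.1 hv
      have := congrFun hθ i
      simp only [Pi.smul_apply, smul_eq_mul] at this
      rw [← mul_right_cancel₀ hi this, ← pow_succ]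
      exact hb)
  refine ⟨G, hG, hGs.of_sim (sim_empty _ _), ?_⟩
  have h := hGc (fun _ => lam) (by rw [Matrix.smul_one_eq_diagonal, charpoly_diagonal])
  rw [prod_append, Fin.prod_univ_one, ← pow_succ] at h
  exact h

theorem simple_append {m : ℕ} {β : Fin (m + 2) → K} {c : K} (hs : ∀ i : Fin (m + 1), β i.succ ≠ β 0)
    (hc : c ≠ β 0) {G : Matrix (Fin (m + 3)) (Fin (m + 3)) K}
    (hG : G.charpoly = (∏ i, (Polynomial.X - Polynomial.C (β i))) * (Polynomial.X - Polynomial.C c)) :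
    SimplePoly G := by
  refine ⟨Fin.snoc β c, ?_, ?_⟩
  · rw [hG, Fin.prod_univ_castSucc (n := m + 2)]
    simp
  · intro i j hi hj
    obtain rfl : i = Fin.castSucc 0 := Fin.ext (by simpa using hi)
    rw [Fin.snoc_castSucc]
    refine Fin.lastCases ?_ (fun j hj => ?_) j hj
    · intro _; rw [Fin.snoc_last]; exact hc
    · rw [Fin.snoc_castSucc]
      obtain ⟨j', rfl⟩ := Fin.exists_succ_eq.2 (show j ≠ 0 from fun h => hj (by simp [h]))
      exact hs j'

/-- The even size. -/
theorem caseB_even (h4 : 4 ≤ Fintype.card K) {m k : ℕ} (hk : m + 3 = 2 * (k + 1)) {lam : K} (hlam : lam ≠ 0)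
    {x : Matrix (Fin (m + 3)) (Fin (m + 3)) K} (hx1 : x.det = 1) {A : Matrix (Fin (m + 2)) (Fin (m + 2)) K}
    (hx : Sim x (Matrix.fromBlocks A 0 0 (lam • (1 : Matrix (Fin 1) (Fin 1) K)))) (hA : ∀ t : K, A ≠ t • 1)
    (hA4 : m = 1 → Cyc A) (hR : Reach x lam k (m + 2)) :
    (∀ g : Matrix (Fin (m + 3)) (Fin (m + 3)) K, g.det = 1 → (∀ t : K, g ≠ t • 1) → SimProd x (m + 3) g) ∧
      SimProd x (m + 3) (1 : Matrix (Fin (m + 3)) (Fin (m + 3)) K) := by
  classical
  have hxd : x.det ≠ 0 := by rw [hx1]; exact one_ne_zero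
  obtain ⟨c, hc⟩ : ∃ c, c = lam ^ (k + 1) := ⟨_, rfl⟩
  have hc0 : c ≠ 0 := hc ▸ pow_ne_zero _ hlam
  refine ⟨fun g hg hgs => ?_, ?_⟩
  · obtain ⟨b, hb⟩ := exists_notMem ({0, c} : Finset K) (by
      refine lt_of_le_of_lt (Finset.card_insert_le _ _) ?_; rw [Finset.card_singleton]; omega)
    simp only [Finset.mem_insert, Finset.mem_singleton, not_or] at hb
    obtain ⟨β, -, hβb, hβne, hβp, hr⟩ := exists_spectrum h4 (m := m + 1) (by omega) hb.1 (inv_ne_zero hc0)
    obtain ⟨G, hG, hGs, hGc⟩ := extend_one h4 hlam hx1 hx hR hr (by rw [hβp, hc])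
      (Or.inl ⟨by rw [hβb]; exact (hβne 0).symm, hA⟩) (by rw [hβb, ← hc]; exact hb.2)
    rw [← hc] at hGc
    obtain ⟨γ, hγr, hγ01, hγ, -⟩ := exists_ordered (n := m + 1)
      (simple_append (fun i => by rw [hβb]; exact hβne i) (by rw [hβb]; exact Ne.symm hb.2) hGc)
    have h := factor_split (k := m + 1) h4 hxd hGs hG hGs hG hγr hγ (Or.inl ⟨hγ01, hgs⟩)
      (by rw [hGs.det_eq, hx1, one_pow, hg, one_mul])
    rwa [show k + 1 + (k + 1) = m + 3 by omega] at h
  suffices h : ∃ R₁ R₂ : Matrix (Fin (m + 3)) (Fin (m + 3)) K, Cyc R₁ ∧ Cyc R₂ ∧ SimProd x (k + 1) R₁ ∧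
      SimProd x (k + 1) R₂ ∧ R₂.charpoly = R₁⁻¹.charpoly by
    obtain ⟨R₁, R₂, h1, h2, h3, h5, h6⟩ := h
    have hd := h3.det_ne hxd
    have h7 := h3.mul (Cyc.of_charpoly_eq h5 h2 (h1.inv hd) h6)
    rw [Matrix.mul_nonsing_inv R₁ (isUnit_iff_ne_zero.2 hd)] at h7
    rwa [show k + 1 + (k + 1) = m + 3 by omega] at h7
  have inv_of : ∀ {G : Matrix (Fin (m + 3)) (Fin (m + 3)) K} {β : Fin (m + 2) → K}, Cyc G → G.det ≠ 0 →
      G.charpoly = (∏ i, (Polynomial.X - Polynomial.C (β i))) * (Polynomial.X - Polynomial.C c) →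
      G⁻¹.charpoly = (∏ i, (Polynomial.X - Polynomial.C (β i)⁻¹)) * (Polynomial.X - Polynomial.C c⁻¹) := by
    intro G β hG hGd hGc
    obtain ⟨-, h⟩ := charpoly_inv_split hG hGd (β := Fin.snoc β c)
      (by rw [hGc, Fin.prod_univ_castSucc (n := m + 2)]; simp)
    rw [h, Fin.prod_univ_castSucc (n := m + 2)]
    simp
  rcases (show m = 1 ∨ 3 ≤ m by omega) with hm | hm
  · -- four by four
    subst hm
    obtain ⟨e, he⟩ := hA4 rfl
    have hgood : ∀ β : Fin 3 → K, Good A β := fun β => Or.inr ⟨0, rfl, e, cycV_nonquad he⟩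
    obtain ⟨β, hr, hβp, hb, hsym⟩ : ∃ β : Fin 3 → K, Runs β ∧ ∏ i, β i = c⁻¹ ∧ β 0 ≠ c ∧
        (∏ i, (Polynomial.X - Polynomial.C (β i))) * (Polynomial.X - Polynomial.C c) =
          (∏ i, (Polynomial.X - Polynomial.C (β i)⁻¹)) * (Polynomial.X - Polynomial.C c⁻¹) := by
      by_cases hcc : c⁻¹ = c
      · obtain ⟨b, hb⟩ := exists_notMem ({0, c} : Finset K) (by
          refine lt_of_le_of_lt (Finset.card_insert_le _ _) ?_; rw [Finset.card_singleton]; omega)
        simp only [Finset.mem_insert, Finset.mem_singleton, not_or] at hb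
        refine ⟨![b, b⁻¹, c], ?_, ?_, hb.2, ?_⟩
        · intro i j l hij hjl h
          exfalso
          obtain ⟨rfl, rfl⟩ : i = 0 ∧ l = 2 := by
            constructor <;> apply Fin.ext <;> simp <;> omega
          exact hb.2 (by simpa using h)
        · rw [hcc]; simp [Fin.prod_univ_three, hb.1]
        · simp only [Fin.prod_univ_three, Matrix.cons_val]
          rw [hcc, inv_inv]; ring
      · refine ⟨![c⁻¹, c⁻¹, c], ?_, ?_, hcc, ?_⟩
        · intro i j l hij hjl h
          exfalso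
          obtain ⟨rfl, rfl⟩ : i = 0 ∧ l = 2 := by
            constructor <;> apply Fin.ext <;> simp <;> omega
          exact hcc (by simpa using h)
        · simp [Fin.prod_univ_three, hc0]
        · simp [Fin.prod_univ_three]; ring
    obtain ⟨G, hG, hGs, hGc⟩ := extend_one h4 hlam hx1 hx hR hr (by rw [hβp, hc]) (hgood β) (by rw [← hc]; exact hb)
    rw [← hc] at hGc
    refine ⟨G, G, hG, hG, hGs, hGs, ?_⟩
    rw [inv_of hG (hGs.det_ne hxd) hGc, hGc, hsym]
  · obtain ⟨b, hb⟩ := exists_notMem ({0, c, c⁻¹} : Finset K) (by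
      refine lt_of_le_of_lt (Finset.card_insert_le _ _) ?_
      refine lt_of_le_of_lt (Nat.add_le_add_right (Finset.card_insert_le _ _) 1) ?_
      rw [Finset.card_singleton]; omega)
    simp only [Finset.mem_insert, Finset.mem_singleton, not_or] at hb
    obtain ⟨v, hv0, hvb, hvp, -⟩ := exists_values h4 (m := m) (by omega) b (inv_ne_zero hb.1)
    obtain ⟨β₁, hr1, hβ10, hβ11, hβ1c, hβ1p⟩ := exists_ordering (m := m) (b := b) (v := Fin.cons c⁻¹ v)
      (fun i => by
        refine Fin.cases ?_ (fun i => ?_) i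
        · simpa using Ne.symm hb.2.2
        · simpa using hvb i)
    obtain ⟨β₂, hr2, hβ20, hβ21, hβ2c, hβ2p⟩ := exists_ordering (m := m) (b := b⁻¹)
      (v := Fin.cons c⁻¹ fun i => (v i)⁻¹) (fun i => by
        refine Fin.cases ?_ (fun i => ?_) i
        · simpa using Ne.symm hb.2.1
        · simpa using hvb i)
    obtain ⟨G₁, hG1, hG1s, hG1c⟩ := extend_one h4 hlam hx1 hx hR hr1 (by
        rw [hβ1p, Fin.prod_univ_succ]; simp [hvp, ← hc]; field_simp [hb.1, hc0])
      (Or.inl ⟨by rw [hβ10]; exact Ne.symm hβ11, hA⟩) (by rw [hβ10, ← hc]; exact hb.2.1)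
    obtain ⟨G₂, hG2, hG2s, hG2c⟩ := extend_one h4 hlam hx1 hx hR hr2 (by
        rw [hβ2p, Fin.prod_univ_succ]; simp [Finset.prod_inv_distrib, hvp, ← hc]; field_simp [hb.1, hc0])
      (Or.inl ⟨by rw [hβ20]; exact Ne.symm hβ21, hA⟩) (by
        rw [hβ20, ← hc]
        exact fun h => hb.2.2 (by rw [← h, inv_inv]))
    rw [← hc] at hG1c hG2c
    refine ⟨G₁, G₂, hG1, hG2, hG1s, hG2s, ?_⟩
    obtain ⟨-, hinv⟩ := charpoly_inv_split hG1 (hG1s.det_ne hxd)
      (β := Fin.snoc (Fin.cons b (Fin.cons c⁻¹ v : Fin (m + 1) → K) : Fin (m + 2) → K) c)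
      (by rw [hG1c, hβ1c, Fin.prod_univ_castSucc (n := m + 2)]; simp [Fin.prod_univ_succ])
    rw [hinv, hG2c, hβ2c, Fin.prod_univ_castSucc (n := m + 2)]
    simp [Fin.prod_univ_succ]
    ring

/-- The odd size. -/
theorem caseB_odd (h4 : 4 ≤ Fintype.card K) {m k : ℕ} (hk : m + 3 = 2 * k + 1) {lam : K}
    {x : Matrix (Fin (m + 3)) (Fin (m + 3)) K} (hx1 : x.det = 1) (hxs : ∀ t : K, x ≠ t • 1)
    (hR : Reach x lam k (m + 3)) :
    (∀ g : Matrix (Fin (m + 3)) (Fin (m + 3)) K, g.det = 1 → (∀ t : K, g ≠ t • 1) → SimProd x (m + 3) g) ∧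
      (ReachS x lam k (m + 3) → SimProd x (m + 3) (1 : Matrix (Fin (m + 3)) (Fin (m + 3)) K)) := by
  have hxd : x.det ≠ 0 := by rw [hx1]; exact one_ne_zero
  refine ⟨fun g hg hgs => ?_, fun hS => ?_⟩
  · obtain ⟨r, H, hr, hH, hHs⟩ := hR
    obtain rfl : r = 0 := by omega
    have hH' := hHs.of_sim (sim_empty _ _)
    obtain ⟨β, -, hb0, hbne, hbp, hβr⟩ := exists_spectrum h4 (m := m + 2) (by omega) (b := (1 : K)) one_ne_zero
      (D := 1) one_ne_zero
    obtain ⟨R, hRc, hRχ⟩ := exists_split_class (β := β)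
    have hβ01 : β 0 ≠ β 1 := by rw [hb0]; exact (hbne 0).symm
    have hRd : R.det = 1 := by rw [det_of_prod hRχ, hbp]
    have hR2 := next_split (k := m + 1) h4 hxd hH' hH hβr (Or.inl ⟨hβ01, hxs⟩) hRc hRχ
      (by rw [hRd, hH'.det_eq, hx1, one_pow, one_mul])
    have h := factor_split (k := m + 1) h4 hxd hH' hH hR2 hRc hβr hRχ (Or.inl ⟨hβ01, hgs⟩)
      (by rw [hH'.det_eq, hRd, hx1, one_pow, hg, one_mul])
    rwa [show 1 + k + k = m + 3 by omega] at h
  · obtain ⟨r, H, hr, hH, hHsimple, hHs⟩ := hS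
    obtain rfl : r = 0 := by omega
    have hH' := hHs.of_sim (sim_empty _ _)
    obtain ⟨β, hβr, hβ01, hβ, -⟩ := exists_ordered (n := m + 1) hHsimple
    have hHd : H.det ≠ 0 := hH'.det_ne hxd
    have hβ0 : ∀ i, β i ≠ 0 := fun i =>
      Finset.prod_ne_zero_iff.1 (by rw [← det_of_prod hβ]; exact hHd) i (Finset.mem_univ i)
    have hR2 := next_split (k := m + 1) h4 hxd hH' hH (β := fun i => (β i)⁻¹)
      (hβr.comp_injective inv_injective) (Or.inl ⟨fun h => hβ01 (inv_injective h), hxs⟩) (hH.inv hHd)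
      (charpoly_inv_runs hH hβr hβ0 hβ)
      (by rw [det_nonsing_inv, Ring.inverse_eq_inv', hH'.det_eq, hx1, one_pow, inv_one, one_mul])
    have h := hR2.mul hH'
    rw [Matrix.nonsing_inv_mul H (isUnit_iff_ne_zero.2 hHd)] at h
    rwa [show 1 + k + k = m + 3 by omega] at h

theorem simProd_smul_pow {ι κ : Type*} [Fintype ι] [DecidableEq ι] [Fintype κ] [DecidableEq κ]
    {y : Matrix ι ι K} {c d : K} {j : ℕ} (h2 : SimProd y 2 (c • (1 : Matrix κ κ K)))
    (hj : SimProd y j (d • (1 : Matrix κ κ K))) :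
    ∀ s : ℕ, SimProd y (j + 2 * s) ((d * c ^ s) • (1 : Matrix κ κ K)) := by
  intro s
  induction s with
  | zero => simpa using hj
  | succ s ih =>
    have h := ih.mul h2
    rw [smul_mul_smul_comm, Matrix.one_mul, mul_assoc, ← pow_succ] at h
    exact h

/-- A block of size three plus a scalar of even size. -/
theorem scalar_of_three (h4 : 4 ≤ Fintype.card K) {n a : ℕ} (ha : 0 < a) (hae : a % 2 = 0) (hn : 3 + a = n)
    {lam : K} (hlam : lam ≠ 0) {x : Matrix (Fin n) (Fin n) K} (hxd : x.det ≠ 0) {X : Matrix (Fin 3) (Fin 3) K}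
    (hX : Cyc X) (hroot : X.charpoly.eval lam = 0)
    (hx : Sim x (Matrix.fromBlocks X 0 0 (lam • (1 : Matrix (Fin a) (Fin a) K)))) :
    (∃ c : K, SimProd x n (c • (1 : Matrix (Fin n) (Fin n) K))) ∨ ReachS x lam ((n - 1) / 2) n := by
  obtain ⟨s, rfl⟩ : ∃ s, a = 2 * s := ⟨a / 2, by omega⟩
  have hXd : X.det ≠ 0 := (det_blocks_ne (hx.det_ne hxd)).1
  set g0 := X.charpoly /ₘ (Polynomial.X - Polynomial.C lam) with hg0def
  have hfac : (Polynomial.X - Polynomial.C lam) * g0 = X.charpoly := mul_divByMonic_eq_iff_isRoot.2 hroot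
  have hg0m : g0.Monic := Monic.of_mul_monic_left (monic_X_sub_C lam) (by rw [hfac]; exact charpoly_monic X)
  have hg0d : g0.natDegree = 2 := by
    have h := charpoly_natDegree_eq_dim X
    rw [← hfac, (monic_X_sub_C lam).natDegree_mul hg0m, natDegree_X_sub_C, Fintype.card_fin] at h
    omega
  have σ : Fin 3 ⊕ Fin (2 * s) ≃ Fin n := finSumFinEquiv.trans (finCongr hn)
  by_cases hg : g0.eval lam = 0
  · obtain ⟨ρ, hρ⟩ : ∃ ρ, g0 = (Polynomial.X - Polynomial.C lam) * (Polynomial.X - Polynomial.C ρ) := by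
      set q := g0 /ₘ (Polynomial.X - Polynomial.C lam)
      have hq : (Polynomial.X - Polynomial.C lam) * q = g0 := mul_divByMonic_eq_iff_isRoot.2 hg
      have hqm : q.Monic := Monic.of_mul_monic_left (monic_X_sub_C lam) (by rw [hq]; exact hg0m)
      have hq1 : q.natDegree = 1 := by
        rw [← hq, (monic_X_sub_C lam).natDegree_mul hqm, natDegree_X_sub_C] at hg0d; omega
      refine ⟨-q.coeff 0, ?_⟩
      rw [← hq, map_neg, sub_neg_eq_add, ← hqm.eq_X_add_C hq1]
    by_cases hρl : ρ = lam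
    · -- one root only
      subst hρl
      left
      have hch : X.charpoly = ∏ _i : Fin 3, (Polynomial.X - Polynomial.C ρ) := by
        rw [← hfac, hρ, Fin.prod_univ_three]; ring
      have hdX : X.det = ρ ^ 3 := by rw [det_of_prod hch]; simp
      have hcX : ∀ c : K, c ≠ 0 → Cyc (c • X⁻¹) ∧ (c • X⁻¹).charpoly = ∏ _i : Fin 3, (Polynomial.X - Polynomial.C (c / ρ)) := by
        intro c hc
        refine ⟨cyc_smul_inv hX hXd hc, ?_⟩
        have hi := (charpoly_inv_split hX hXd (β := fun _ => ρ) hch).2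
        have hcyc := hX.inv hXd
        obtain ⟨T, hT, hTh⟩ : ∃ T : Matrix (Fin 3) (Fin 3) K, T = !![ρ⁻¹, 1, 0; 0, ρ⁻¹, 1; 0, 0, ρ⁻¹] ∧ Cyc T := by
          refine ⟨_, rfl, ⟨![0, 0, 1], cycV_of_krylov ?_⟩⟩
          simp [SLCommutator.krylov, det_fin_three, pow_two, Matrix.mulVec, dotProduct, Fin.sum_univ_three,
            Matrix.mul_apply]
        have hTc : T.charpoly = X⁻¹.charpoly := by
          rw [hi, hT]
          simp [Matrix.charpoly, charmatrix_apply, det_fin_three, Fin.prod_univ_three]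
          try ring
        obtain ⟨P, P', p1, p2, hP⟩ := sim_of_cyc hTh hcyc hTc
        have hsim : Sim (c • T) (c • X⁻¹) := ⟨P, P', p1, p2, by rw [hP, Matrix.mul_smul, Matrix.smul_mul]⟩
        rw [hsim.charpoly_eq, hT]
        simp [Matrix.charpoly, charmatrix_apply, det_fin_three, Fin.prod_univ_three, div_eq_mul_inv]
        try ring
      obtain ⟨e, he⟩ := hX
      have hXc : Cyc X := ⟨e, he⟩
      obtain ⟨h31, h32⟩ := hcX (ρ ^ 3) (pow_ne_zero _ hlam)
      have hR := next_split (k := 1) h4 hXd (SimProd.one (Sim.refl X)) hXc (β := fun _ : Fin 3 => ρ ^ 3 / ρ)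
        (fun i j l _ _ _ => rfl) (Or.inr ⟨0, rfl, e, cycV_nonquad he⟩) h31 h32
        (by rw [det_of_prod h32, hdX]; simp; field_simp)
      have h3 : SimProd X 3 (ρ ^ 3 • (1 : Matrix (Fin 3) (Fin 3) K)) := by
        have h := (SimProd.one (Sim.refl X)).mul hR
        rwa [Matrix.mul_smul, Matrix.mul_nonsing_inv X (isUnit_iff_ne_zero.2 hXd)] at h
      have h2 : SimProd X 2 (ρ ^ 2 • (1 : Matrix (Fin 3) (Fin 3) K)) := by
        obtain ⟨h21, h22⟩ := hcX (ρ ^ 2) (pow_ne_zero _ hlam)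
        have h := (SimProd.one (Sim.refl X)).mul (SimProd.one (sim_of_cyc hXc h21 (by
          rw [hch, h22]
          congr 1; funext i
          rw [pow_two, mul_div_assoc, div_self hlam, mul_one])))
        rwa [Matrix.mul_smul, Matrix.mul_nonsing_inv X (isUnit_iff_ne_zero.2 hXd)] at h
      obtain ⟨t, ht⟩ : ∃ t, s = t := ⟨s, rfl⟩
      have h := simProd_smul_pow h2 h3 t
      have hb := h.blocks (μ := Fin (2 * s)) ρ
      subst ht
      have hpow : ρ ^ (3 + 2 * s) = ρ ^ 3 * (ρ ^ 2) ^ s := by rw [pow_add, pow_mul]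
      rw [hpow, blocks_smul_one, show 3 + 2 * s = n from hn] at hb
      exact ⟨_, (hb.congr_base hx).of_sim (sim_smul_one _ σ)⟩
    · -- two roots: enough room for a simple eigenvalue
      right
      obtain ⟨X', H', E, -, hH', hX', hH'χ, hXs⟩ := exists_quotient (s := 0) (t := 1) hX
        (monic_X_sub_C ρ) ((monic_X_sub_C lam).mul (monic_X_sub_C lam)) (natDegree_X_sub_C ρ)
        (by rw [(monic_X_sub_C lam).natDegree_mul (monic_X_sub_C lam), natDegree_X_sub_C])
        (by rw [← hfac, hρ]; ring)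
      set A' := Matrix.reindex finSumFinEquiv finSumFinEquiv
        (Matrix.fromBlocks X' 0 0 (lam • (1 : Matrix (Fin 1) (Fin 1) K))) with hA'
      set L' := (Matrix.fromRows E (0 : Matrix (Fin 1) (Fin 2) K)).submatrix finSumFinEquiv.symm id with hL'
      obtain ⟨r, hr⟩ : ∃ r, 2 * s = 1 + r := ⟨2 * s - 1, by omega⟩
      have hX00 : X' 0 0 = ρ := by
        have h1 : X'.det = ρ := by
          rw [det_of_prod (β := fun _ : Fin 1 => ρ) (by rw [hX', Fin.prod_univ_one]), Fin.prod_univ_one]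
        rwa [det_fin_one] at h1
      have hsh : Shape x lam 2 2 True := by
        refine ⟨r, A', L', H', {lam}, by omega, ?_, hH', by simp, ?_, ?_, fun _ => ⟨fun _ => lam, ?_, fun _ => by simp⟩⟩
        · intro t ht
          have e1 := congrFun (congrFun ht (finSumFinEquiv (Sum.inl 0))) (finSumFinEquiv (Sum.inl 0))
          have e2 := congrFun (congrFun ht (finSumFinEquiv (Sum.inr 0))) (finSumFinEquiv (Sum.inr 0))
          simp only [hA', Matrix.reindex_apply, Matrix.submatrix_apply, Equiv.symm_apply_apply,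
            Matrix.fromBlocks_apply₁₁, Matrix.fromBlocks_apply₂₂, Matrix.smul_apply, Matrix.one_apply_eq,
            smul_eq_mul, mul_one, hX00] at e1 e2
          exact hρl (e1.trans e2.symm)
        · intro θ v hv hθ
          have := eigen_root hv hθ
          rw [hH'χ, Polynomial.IsRoot, eval_mul, mul_self_eq_zero, eval_sub, eval_X, eval_C, sub_eq_zero] at this
          simp [this]
        · refine hx.trans ((sim_blocks hXs (Sim.refl _)).trans ((sim_regroup X' E H' lam hr).trans (sim_blocks ?_ (Sim.refl _))))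
          refine Sim.of_reindex (Equiv.sumCongr finSumFinEquiv (Equiv.refl _)) ?_
          ext (i | i) (j | j) <;> simp [hA', hL']
        · rw [hH'χ, Fin.prod_univ_two]
      have hR1 : Reach x lam 1 3 := ⟨2 * s, X, hn, hX, by rw [pow_one]; exact SimProd.one hx⟩
      obtain ⟨-, hS⟩ := iterate_shape h4 hxd hlam hsh hR1 (by omega) le_rfl s (by omega)
      have := hS (by omega) trivial
      rwa [show 3 + s * 2 = n by omega, show 1 + s = (n - 1) / 2 by omega] at this
  · -- a pair and a scalar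
    left
    set N := g0.coeff 0
    set S := -g0.coeff 1
    have hg0 : g0 = Polynomial.X ^ 2 - Polynomial.C S * Polynomial.X + Polynomial.C N := by
      conv_lhs => rw [hg0m.as_sum, hg0d]
      simp [Finset.sum_range_succ, N, S]
      ring
    set C : Matrix (Fin 2) (Fin 2) K := !![0, -N; 1, S]
    have hCχ : C.charpoly = g0 := by
      rw [Matrix.charpoly_fin_two, hg0]
      simp [C, trace_fin_two, det_fin_two]
    have hgl : lam * lam - S * lam + N ≠ 0 := by
      intro h; apply hg; rw [hg0]; simp; linear_combination h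
    obtain ⟨X', H', E, hX'c, -, hX', hH'χ, hXs⟩ := exists_quotient (s := 1) (t := 0) hX hg0m
      (monic_X_sub_C lam) hg0d (natDegree_X_sub_C lam) (by rw [← hfac]; ring)
    have hH' : H' = lam • (1 : Matrix (Fin 1) (Fin 1) K) := by
      have h1 : H'.det = lam := by
        rw [det_of_prod (β := fun _ : Fin 1 => lam) (by rw [hH'χ, Fin.prod_univ_one]), Fin.prod_univ_one]
      rw [det_fin_one] at h1
      ext i j
      rw [Fin.fin_one_eq_zero i, Fin.fin_one_eq_zero j]
      simpa using h1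
    subst hH'
    have hd : (X' - lam • (1 : Matrix (Fin 2) (Fin 2) K)).det ≠ 0 := by
      intro h
      obtain ⟨v, hv, hv0⟩ := Matrix.exists_mulVec_eq_zero_iff.2 h
      rw [sub_mulVec, smul_mulVec, one_mulVec, sub_eq_zero] at hv0
      have := eigen_root hv hv0
      rw [hX'] at this
      exact hg this
    set D := X' - lam • (1 : Matrix (Fin 2) (Fin 2) K) with hD
    have hE : Sim (Matrix.fromBlocks X' E 0 (lam • (1 : Matrix (Fin 1) (Fin 1) K)))
        (Matrix.fromBlocks X' 0 0 (lam • (1 : Matrix (Fin 1) (Fin 1) K))) := by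
      have h := sim_shear X' (lam • (1 : Matrix (Fin 1) (Fin 1) K)) E (-(D⁻¹ * E))
      have e : E + X' * -(D⁻¹ * E) - -(D⁻¹ * E) * (lam • (1 : Matrix (Fin 1) (Fin 1) K)) = 0 := by
        have : D * (D⁻¹ * E) = E := by
          rw [← Matrix.mul_assoc, Matrix.mul_nonsing_inv D (isUnit_iff_ne_zero.2 hd), Matrix.one_mul]
        have e2 : X' * (D⁻¹ * E) - lam • (D⁻¹ * E) = E := by
          conv_rhs => rw [← this]
          rw [hD, Matrix.sub_mul X', Matrix.smul_mul, Matrix.one_mul]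
        rw [Matrix.mul_neg, Matrix.neg_mul, Matrix.mul_smul, Matrix.mul_one]
        linear_combination (norm := abel) -e2
      rwa [e] at h
    have hC : Sim X' C := sim_of_cyc hX'c sim_fin_two.2 (hX'.trans hCχ.symm)
    have hN : N ≠ 0 := by
      have h1 : X'.det = N := by rw [det_two_of_charpoly, hX']
      have h2 := (hXs.trans hE).det_ne hXd
      rw [det_fromBlocks_zero₂₁] at h2
      rw [← h1]; exact left_ne_zero_of_mul h2
    have h := simProd_pairs_triple hN hlam hgl s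
    have hbase : Sim x (Matrix.fromBlocks C 0 0 (lam • (1 : Matrix (Fin (2 * s + 1)) (Fin (2 * s + 1)) K))) := by
      refine hx.trans ((sim_blocks ((hXs.trans hE).trans (sim_blocks hC (Sim.refl _))) (Sim.refl _)).trans
        ((sim_assoc C _ _).trans (sim_blocks (Sim.refl C) ?_)))
      rw [blocks_smul_one]
      exact sim_smul_one lam (finSumFinEquiv.trans (finCongr (by omega)))
    have h' := (h.congr_base hbase).of_sim (sim_smul_one _ (finCongr (show 2 * s + 3 = n by omega)))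
    rw [show 2 * s + 3 = n by omega] at h'
    exact ⟨_, h'⟩

/-- Two quadratic blocks and a scalar of size one. -/
theorem scalar_of_five (h4 : 4 ≤ Fintype.card K) {lam : K} (hlam : lam ≠ 0) {x : Matrix (Fin 5) (Fin 5) K}
    {X X'' : Matrix (Fin 2) (Fin 2) K} (hX : Cyc X) (hX'' : Cyc X'') (he : X''.charpoly = X.charpoly)
    (hroot : X.charpoly.eval lam = 0)
    (hx : Sim x (Matrix.fromBlocks X 0 0 (Matrix.fromBlocks X'' 0 0 (lam • (1 : Matrix (Fin 1) (Fin 1) K))))) :
    ∃ c : K, SimProd x 5 (c • (1 : Matrix (Fin 5) (Fin 5) K)) := by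
  set g0 := X.charpoly /ₘ (Polynomial.X - Polynomial.C lam)
  have hfac : (Polynomial.X - Polynomial.C lam) * g0 = X.charpoly := mul_divByMonic_eq_iff_isRoot.2 hroot
  have hg0m : g0.Monic := Monic.of_mul_monic_left (monic_X_sub_C lam) (by rw [hfac]; exact charpoly_monic X)
  have hg0d : g0.natDegree = 1 := by
    have h := charpoly_natDegree_eq_dim X
    rw [← hfac, (monic_X_sub_C lam).natDegree_mul hg0m, natDegree_X_sub_C, Fintype.card_fin] at h
    omega
  obtain ⟨ρ, hρ⟩ : ∃ ρ, g0 = Polynomial.X - Polynomial.C ρ :=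
    ⟨-g0.coeff 0, by rw [map_neg, sub_neg_eq_add, ← hg0m.eq_X_add_C hg0d]⟩
  rw [hρ] at hfac
  have σ : Fin 2 ⊕ Fin 2 ⊕ Fin 1 ≃ Fin 5 := (Equiv.sumCongr (Equiv.refl _) finSumFinEquiv).trans finSumFinEquiv
  by_cases hρl : ρ = lam
  · subst hρl
    have hJ : Cyc (!![ρ, 1; 0, ρ]) := by
      refine ⟨![0, 1], cycV_of_krylov ?_⟩
      simp [SLCommutator.krylov, det_fin_two, Matrix.mulVec, dotProduct]
    have hJχ : (!![ρ, 1; 0, ρ] : Matrix (Fin 2) (Fin 2) K).charpoly = X.charpoly := by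
      rw [← hfac, Matrix.charpoly_fin_two]; simp [trace_fin_two, det_fin_two]; ring
    have hJ' : Cyc (!![ρ, -1; 0, ρ]) := by
      refine ⟨![0, 1], cycV_of_krylov ?_⟩
      simp [SLCommutator.krylov, det_fin_two, Matrix.mulVec, dotProduct]
    classical
    obtain ⟨u, hu⟩ := exists_notMem ({0, -1} : Finset K) (by
      refine lt_of_le_of_lt (Finset.card_insert_le _ _) ?_; rw [Finset.card_singleton]; omega)
    simp only [Finset.mem_insert, Finset.mem_singleton, not_or] at hu
    have h3 := simProd_unipotent_two hlam (a := 1) (b := u) (c := -1 - u) one_ne_zero hu.1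
      (fun h => hu.2 (by linear_combination -h)) (by ring)
    have h2 : SimProd (!![ρ, 1; 0, ρ]) 2 (ρ ^ 2 • (1 : Matrix (Fin 2) (Fin 2) K)) := by
      have h := (SimProd.one (Sim.refl (!![ρ, 1; 0, ρ]))).mul (SimProd.one (sim_of_cyc hJ hJ' (by
        rw [Matrix.charpoly_fin_two, Matrix.charpoly_fin_two]; simp [trace_fin_two, det_fin_two])))
      convert h using 1
      ext i j
      fin_cases i <;> fin_cases j <;> simp [Matrix.mul_apply, Fin.sum_univ_two, pow_two]
    have h5 := h3.mul h2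
    rw [smul_mul_smul_comm, Matrix.one_mul, ← pow_add] at h5
    have h := h5.blocks₂ (h5.blocks (μ := Fin 1) ρ)
    rw [blocks_smul_one, blocks_smul_one] at h
    exact ⟨_, (h.congr_base (hx.trans (sim_blocks (sim_of_cyc hX hJ hJχ.symm)
      (sim_blocks (sim_of_cyc hX'' hJ (he.trans hJχ.symm)) (Sim.refl _))))).of_sim (sim_smul_one _ σ)⟩
  · set u : Fin 2 → K := ![lam, ρ]
    have hD : Cyc (Matrix.diagonal u) := by
      refine ⟨![1, 1], cycV_of_krylov ?_⟩
      simp [SLCommutator.krylov, det_fin_two, Matrix.mulVec_diagonal, u, sub_eq_zero, hρl]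
    have hDχ : (Matrix.diagonal u).charpoly = X.charpoly := by
      rw [charpoly_diagonal, ← hfac, Fin.prod_univ_two]; simp [u]
    have hs : Sim x (Matrix.diagonal (Sum.elim u (Sum.elim u fun _ : Fin 1 => lam) ∘ σ.symm)) := by
      refine hx.trans ((sim_blocks (sim_of_cyc hX hD hDχ.symm)
        (sim_blocks (sim_of_cyc hX'' hD (he.trans hDχ.symm)) (Sim.refl _))).trans (Sim.of_reindex σ ?_))
      rw [Matrix.smul_one_eq_diagonal, Matrix.fromBlocks_diagonal, Matrix.fromBlocks_diagonal, Matrix.reindex_apply,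
        Matrix.submatrix_diagonal_equiv]
    exact ⟨_, (simProd_diagonal _).congr_base hs⟩

/-- Case B. -/
theorem caseB (h4 : 4 ≤ Fintype.card K) {n d m₀ a : ℕ} (hn3 : 3 ≤ n) {x : Matrix (Fin n) (Fin n) K}
    (hx1 : x.det = 1) {lam : K} (hlam : lam ≠ 0) {f₂ : K[X]}
    {X : Matrix (Fin d) (Fin d) K} {Z : Matrix (Fin m₀) (Fin m₀) K} (hd : 2 ≤ d) (hn : d + m₀ = n)
    (hX : Cyc X) (hsim : Sim (Matrix.fromBlocks X 0 0 Z) x) (ha : 0 < a) (hroot : X.charpoly.eval lam = 0)
    (hf₂ : X.charpoly.natDegree = 2 → X.charpoly = f₂)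
    (hst : Stack (fun f => f ∣ X.charpoly ∧ (0 < a → f.eval lam = 0) ∧ (f.natDegree = 2 → f = f₂))
      (lam • (1 : Matrix (Fin a) (Fin a) K)) Z)
    (hnp : ¬ (d = 2 ∧ m₀ = a)) :
    Surj x ∧ (∀ g : Matrix (Fin n) (Fin n) K, g.det = 1 → (∀ t : K, g ≠ t • 1) → SimProd x n g) ∧
      ∃ c : K, SimProd x n (c • (1 : Matrix (Fin n) (Fin n) K)) := by
  obtain ⟨m, rfl⟩ : ∃ m, n = m + 3 := ⟨n - 3, by omega⟩
  have hxd : x.det ≠ 0 := by rw [hx1]; exact one_ne_zero
  obtain ⟨b, rfl⟩ : ∃ b, a = b + 1 := ⟨a - 1, by omega⟩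
  obtain ⟨z, Z₀, hz, hZ₀, hsZ⟩ := hst.split (a' := b) (b := 1) rfl
  set A := Matrix.reindex (finSumFinEquiv.trans (finCongr (show d + z = m + 2 by omega)))
    (finSumFinEquiv.trans (finCongr (show d + z = m + 2 by omega))) (Matrix.fromBlocks X 0 0 Z₀) with hA
  have hxA : Sim x (Matrix.fromBlocks A 0 0 (lam • (1 : Matrix (Fin 1) (Fin 1) K))) :=
    hsim.symm.trans ((sim_blocks (Sim.refl X) hsZ.symm).trans
      ((sim_assoc X Z₀ _).symm.trans (sim_blocks (sim_reindex _ _) (Sim.refl _))))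
  have hXns : ∀ t : K, Matrix.fromBlocks X 0 0 Z ≠ t • 1 := nonscalar_left Z (cyc_nonscalar hd hX)
  have hxs : ∀ t : K, x ≠ t • 1 := nonscalar_of_sim hsim hXns
  have hAs : ∀ t : K, A ≠ t • 1 := nonscalar_of_sim (sim_reindex _ _) (nonscalar_left Z₀ (cyc_nonscalar hd hX))
  refine ⟨Surj.of_sim (hxA.trans (sim_comm _ _)).symm (surj_blocks (surj_one_by_one lam))
    (finSumFinEquiv.trans (finCongr (show 1 + (m + 2) = m + 3 by omega))), ?_⟩
  rcases Nat.even_or_odd' (m + 3) with ⟨k', hk | hk⟩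
  · obtain ⟨k, rfl⟩ : ∃ k, k' = k + 1 := ⟨k' - 1, by omega⟩
    have hr := (exists_reach h4 hxd hlam hd hn hX hsim ha hroot hf₂ hst hnp (m := m + 2) (by omega) (by omega)
      (by omega)).1
    rw [show (m + 2 - 1) / 2 = k by omega] at hr
    have hA4 : m = 1 → Cyc A := by
      intro hm
      have hz0 : z = 0 := by
        cases hZ₀ with
        | base =>
          by_contra hb
          exact hnp ⟨by omega, by omega⟩
        | cons X' Z' g hd' hn' _ _ _ _ => omega
      subst hz0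
      refine Sim.cyc ?_ (hX.reindex (finCongr (show d = m + 2 by omega)))
      refine ((sim_reindex _ _).symm.trans ?_)
      exact ((sim_empty X Z₀).symm).trans (sim_reindex _ _)
    obtain ⟨h1, h2⟩ := caseB_even h4 hk hlam hx1 hxA hAs hA4 hr
    exact ⟨h1, 1, by rwa [one_smul]⟩
  · have hr := exists_reach h4 hxd hlam hd hn hX hsim ha hroot hf₂ hst hnp (m := m + 3) (by omega) le_rfl
      (by omega)
    rw [show (m + 3 - 1) / 2 = k' by omega] at hr
    obtain ⟨h1, h2⟩ := caseB_odd h4 hk hx1 hxs hr.1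
    refine ⟨h1, ?_⟩
    have fin : ReachS x lam k' (m + 3) → ∃ c : K, SimProd x (m + 3) (c • (1 : Matrix (Fin (m + 3)) (Fin (m + 3)) K)) :=
      fun h => ⟨1, by rw [one_smul]; exact h2 h⟩
    rcases hr.2 rfl with h | ⟨rfl, hma⟩ | ⟨hm5, rfl, hma⟩
    · exact fin h
    · obtain ⟨hXd, -⟩ := det_blocks_ne (hsim.symm.det_ne hxd)
      cases hma
      have hZ : Z = lam • (1 : Matrix (Fin (b + 1)) (Fin (b + 1)) K) := by
        cases hst with
        | base => rfl
        | cons X' Z' g hd' hn' _ _ hZ' _ => exact absurd hn' (by have := hZ'.le; omega)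
      subst hZ
      rcases scalar_of_three h4 ha (by omega) hn hlam hxd hX hroot hsim.symm with h | h
      · exact h
      · rw [show (m + 3 - 1) / 2 = k' by omega] at h
        exact fin h
    · obtain rfl : m = 2 := by omega
      obtain rfl : b = 0 := by omega
      subst hma
      cases hst with
      | cons X' Z' g hd' hn' hX' hP hZ' hs' =>
        cases hZ' with
        | base =>
          obtain rfl : _ = 2 := show _ = 2 from Nat.add_right_cancel (hn'.trans rfl)
          refine scalar_of_five h4 hlam hX hX' ?_ hroot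
            (hsim.symm.trans (sim_blocks (Sim.refl X) hs'.symm))
          rw [hP.2.2 (by rw [charpoly_natDegree_eq_dim, Fintype.card_fin]),
            hf₂ (by rw [charpoly_natDegree_eq_dim, Fintype.card_fin])]
        | cons X₁ Z₁ g₁ hd₁ hn₁ _ _ hZ₁ _ => exact absurd hn' (by have := hZ₁.le; omega)

end CfsgLib.LevCover
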