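import Cfsg.Agent.SLCommutator.Cyclic

/-!
Cyclic matrices over an arbitrary index type; block triangular matrices that are cyclic.
-/

set_option autoImplicit false
set_option linter.unusedSectionVars false
set_option linter.unusedSimpArgs false

namespace CfsgLib.LevCover

open Matrix Polynomial

variable {K : Type*} [Field K] {ι κ : Type*} [Fintype ι] [DecidableEq ι] [Fintype κ] [DecidableEq κ]

/-- `e` generates the space under `M`. -/
def CycV (M : Matrix ι ι K) (e : ι → K) : Prop :=
  ∀ p : K[X], p.degree < (Fintype.card ι : ℕ) → aeval M p *ᵥ e = 0 → p = 0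

/-- `M` is a cyclic matrix. -/
def Cyc (M : Matrix ι ι K) : Prop := ∃ e, CycV M e

theorem cycV_of_krylov {n : ℕ} {M : Matrix (Fin n) (Fin n) K} {e : Fin n → K}
    (h : (SLCommutator.krylov M e).det ≠ 0) : CycV M e := by
  intro p hp hpe
  rw [Fintype.card_fin] at hp
  by_contra hp0
  have hd : p.natDegree < n := (natDegree_lt_iff_degree_lt hp0).2 hp
  have h1 : SLCommutator.krylov M e *ᵥ (fun j : Fin n => p.coeff j.val) = 0 := by
    rw [← hpe, aeval_eq_sum_range' hd, Matrix.sum_mulVec]
    funext i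
    rw [Finset.sum_apply, Matrix.mulVec, dotProduct, ← Fin.sum_univ_eq_sum_range]
    refine Finset.sum_congr rfl fun j _ => ?_
    simp [SLCommutator.krylov, smul_mulVec, mul_comm]
  have h2 := Matrix.eq_zero_of_mulVec_eq_zero h h1
  apply hp0
  ext i
  rcases lt_or_ge i n with hi | hi
  · exact congrFun h2 ⟨i, hi⟩
  · exact coeff_eq_zero_of_natDegree_lt (lt_of_lt_of_le hd hi)

theorem isCyc_of_cyc {n : ℕ} {M : Matrix (Fin n) (Fin n) K} (h : Cyc M) : SLCommutator.IsCyc M := by
  obtain ⟨e, he⟩ := h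
  refine ⟨e, fun h0 => ?_⟩
  obtain ⟨a, ha0, ha⟩ := Matrix.exists_mulVec_eq_zero_iff.2 h0
  set p : K[X] := ∑ j : Fin n, Polynomial.C (a j) * X ^ j.val with hp
  have hpc : aeval M p *ᵥ e = 0 := by
    rw [hp, map_sum, Matrix.sum_mulVec, ← ha]
    funext i
    rw [Finset.sum_apply, Matrix.mulVec, dotProduct]
    refine Finset.sum_congr rfl fun j _ => ?_
    rw [map_mul, aeval_C, map_pow, aeval_X, Algebra.algebraMap_eq_smul_one, smul_mul_assoc,
      Matrix.one_mul, smul_mulVec, Pi.smul_apply, smul_eq_mul, mul_comm]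
    rfl
  have hz := he p (by rw [Fintype.card_fin]; exact degree_sum_fin_lt a) hpc
  apply ha0
  funext j
  have : p.coeff j.val = a j := by
    rw [hp, finsetSum_coeff, Finset.sum_eq_single j]
    · simp
    · intro x _ hx
      rw [coeff_C_mul_X_pow, if_neg fun h => hx (Fin.ext h.symm)]
    · exact fun h => absurd (Finset.mem_univ _) h
  rw [← this, hz, coeff_zero]; rfl

theorem cyc_of_isCyc {n : ℕ} {M : Matrix (Fin n) (Fin n) K} (h : SLCommutator.IsCyc M) : Cyc M :=
  ⟨h.choose, cycV_of_krylov h.choose_spec⟩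

/-- Cyclic vectors span. -/
theorem CycV.surj {M : Matrix ι ι K} {e : ι → K} (h : CycV M e) (v : ι → K) :
    ∃ p : K[X], p.degree < (Fintype.card ι : ℕ) ∧ aeval M p *ᵥ e = v := by
  let Φ : Polynomial.degreeLT K (Fintype.card ι) →ₗ[K] (ι → K) :=
    { toFun := fun p => aeval M (p : K[X]) *ᵥ e
      map_add' := fun p q => by simp [add_mulVec]
      map_smul' := fun s p => by simp [smul_mulVec] }
  have hinj : Function.Injective Φ := (injective_iff_map_eq_zero Φ).2 fun p hp =>
    Subtype.ext (h p.1 (Polynomial.mem_degreeLT.1 p.2) hp)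
  have hdim : Module.finrank K (Polynomial.degreeLT K (Fintype.card ι)) = Module.finrank K (ι → K) := by
    rw [(Polynomial.degreeLTEquiv K _).finrank_eq, Module.finrank_fin_fun, Module.finrank_fintype_fun_eq_card]
  haveI : FiniteDimensional K (Polynomial.degreeLT K (Fintype.card ι)) :=
    (Polynomial.degreeLTEquiv K _).symm.finiteDimensional
  obtain ⟨p, hp⟩ := (LinearMap.injective_iff_surjective_of_finrank_eq_finrank hdim).1 hinj v
  exact ⟨p.1, Polynomial.mem_degreeLT.1 p.2, hp⟩

theorem eq_smul_charpoly {M : Matrix ι ι K} {e : ι → K} (h : CycV M e) {p : K[X]}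
    (hd : p.natDegree ≤ Fintype.card ι) (hp : aeval M p *ᵥ e = 0) :
    p = Polynomial.C (p.coeff (Fintype.card ι)) * M.charpoly := by
  set c := p.coeff (Fintype.card ι)
  rw [← sub_eq_zero]
  refine h _ ?_ ?_
  · refine (degree_lt_iff_coeff_zero _ _).2 fun m hm => ?_
    rw [coeff_sub, coeff_C_mul]
    rcases hm.lt_or_eq with hm | hm
    · rw [coeff_eq_zero_of_natDegree_lt (lt_of_le_of_lt hd hm),
        coeff_eq_zero_of_natDegree_lt (by rw [charpoly_natDegree_eq_dim]; exact hm), mul_zero, sub_zero]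
    · subst hm
      have := (charpoly_monic M).coeff_natDegree
      rw [charpoly_natDegree_eq_dim] at this
      rw [this, mul_one, sub_self]
  · rw [map_sub, sub_mulVec, hp, map_mul, Matrix.aeval_self_charpoly, mul_zero, zero_mulVec, sub_zero]

theorem eigen_unique {M : Matrix ι ι K} (h : Cyc M) {θ : K} {v w : ι → K} (hv : M *ᵥ v = θ • v)
    (hv0 : v ≠ 0) (hw : M *ᵥ w = θ • w) : ∃ t : K, w = t • v := by
  obtain ⟨e, he⟩ := h
  have key : ∀ u : ι → K, M *ᵥ u = θ • u → ∃ p : K[X], aeval M p *ᵥ e = u ∧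
      (X - C θ) * p = C (p.coeff (Fintype.card ι - 1)) * M.charpoly := by
    intro u hu
    obtain ⟨p, hpd, hp⟩ := he.surj u
    refine ⟨p, hp, ?_⟩
    have h0 : aeval M ((X - C θ) * p) *ᵥ e = 0 := by
      rw [map_mul, ← mulVec_mulVec, hp, map_sub, aeval_X, aeval_C, sub_mulVec, hu,
        Algebra.algebraMap_eq_smul_one, smul_mulVec, one_mulVec, sub_self]
    by_cases hp0 : p = 0
    · subst hp0; simp
    have hn : p.natDegree < Fintype.card ι := (natDegree_lt_iff_degree_lt hp0).2 hpd
    have h1 := eq_smul_charpoly he (p := (X - C θ) * p) (by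
      rw [natDegree_mul (X_sub_C_ne_zero θ) hp0, natDegree_X_sub_C]; omega) h0
    rw [h1]
    congr 2
    obtain ⟨m, hm⟩ : ∃ m, Fintype.card ι = m + 1 := ⟨Fintype.card ι - 1, by omega⟩
    rw [hm, sub_mul, coeff_sub, coeff_X_mul, coeff_C_mul, Nat.add_sub_cancel,
      coeff_eq_zero_of_natDegree_lt (show p.natDegree < m + 1 by omega), mul_zero, sub_zero]
  obtain ⟨p, hp, hp'⟩ := key v hv
  obtain ⟨r, hr, hr'⟩ := key w hw
  set a := p.coeff (Fintype.card ι - 1)
  set b := r.coeff (Fintype.card ι - 1)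
  have ha : a ≠ 0 := by
    intro h0
    rw [h0, C_0, zero_mul, mul_eq_zero] at hp'
    exact hv0 (by rw [← hp, hp'.resolve_left (X_sub_C_ne_zero θ), map_zero, zero_mulVec])
  refine ⟨b / a, ?_⟩
  have : r = C (b / a) * p := by
    apply mul_left_cancel₀ (X_sub_C_ne_zero θ)
    rw [hr', mul_left_comm, hp', ← mul_assoc, ← C_mul, div_mul_cancel₀ b ha]
  rw [← hr, this, map_mul, aeval_C, Algebra.algebraMap_eq_smul_one, smul_mul_assoc, Matrix.one_mul,
    smul_mulVec, hp]

theorem left_eigen_zero {M : Matrix ι ι K} {e : ι → K} (h : CycV M e) {θ : K} {φ : ι → K}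
    (hφ : φ ᵥ* M = θ • φ) (he : φ ⬝ᵥ e = 0) : φ = 0 := by
  have hpow : ∀ p : K[X], φ ᵥ* aeval M p = p.eval θ • φ := by
    intro p
    induction p using Polynomial.induction_on' with
    | add p q hp hq => rw [map_add, vecMul_add, hp, hq, eval_add, add_smul]
    | monomial j a =>
      have hj : ∀ j : ℕ, φ ᵥ* M ^ j = θ ^ j • φ := fun j => by
        induction j with
        | zero => simp
        | succ j ih => rw [pow_succ, ← vecMul_vecMul, ih, smul_vecMul, hφ, smul_smul, pow_succ]
      rw [aeval_monomial, Algebra.algebraMap_eq_smul_one, smul_mul_assoc, Matrix.one_mul, vecMul_smul,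
        hj, smul_smul, eval_monomial]
  funext i
  obtain ⟨p, -, hp⟩ := h.surj (Pi.single i 1)
  have h1 : φ ⬝ᵥ Pi.single i 1 = 0 := by
    rw [← hp, dotProduct_mulVec, hpow, smul_dotProduct, he, smul_zero]
  simpa using h1

theorem left_eigen_unique {M : Matrix ι ι K} (h : Cyc M) {θ : K} {φ ψ : ι → K}
    (hφ : φ ᵥ* M = θ • φ) (hφ0 : φ ≠ 0) (hψ : ψ ᵥ* M = θ • ψ) : ∃ t : K, ψ = t • φ := by
  obtain ⟨e, he⟩ := h
  have h0 : φ ⬝ᵥ e ≠ 0 := fun h0 => hφ0 (left_eigen_zero he hφ h0)
  refine ⟨(ψ ⬝ᵥ e) / (φ ⬝ᵥ e), ?_⟩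
  rw [← sub_eq_zero]
  refine left_eigen_zero he (θ := θ) ?_ ?_
  · rw [sub_vecMul, smul_vecMul, hψ, hφ, smul_sub, smul_comm]
  · rw [sub_dotProduct, smul_dotProduct, smul_eq_mul, div_mul_cancel₀ _ h0, sub_self]

theorem aeval_conj {T : Matrix κ ι K} {T' : Matrix ι κ K} (hT' : T' * T = 1) (hT : T * T' = 1)
    (M : Matrix ι ι K) (p : K[X]) : aeval (T * M * T') p = T * aeval M p * T' := by
  induction p using Polynomial.induction_on' with
  | add p q hp hq => rw [map_add, map_add, hp, hq, Matrix.mul_add, Matrix.add_mul]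
  | monomial j a =>
    have hj : ∀ j : ℕ, (T * M * T') ^ j = T * M ^ j * T' := by
      intro j
      induction j with
      | zero => rw [pow_zero, pow_zero, Matrix.mul_one, hT]
      | succ j ih =>
        rw [pow_succ, ih, pow_succ]
        simp only [Matrix.mul_assoc]
        rw [← Matrix.mul_assoc T' T, hT', Matrix.one_mul]
    rw [aeval_monomial, aeval_monomial, hj]
    simp only [Algebra.algebraMap_eq_smul_one, smul_mul_assoc, Matrix.one_mul, Matrix.mul_smul,
      Matrix.smul_mul]

theorem Cyc.conj {M : Matrix ι ι K} (h : Cyc M) {T : Matrix κ ι K} {T' : Matrix ι κ K}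
    (hT' : T' * T = 1) (hT : T * T' = 1) (hcard : Fintype.card κ = Fintype.card ι) :
    Cyc (T * M * T') := by
  obtain ⟨e, he⟩ := h
  refine ⟨T *ᵥ e, fun p hp hpe => he p (hcard ▸ hp) ?_⟩
  rw [aeval_conj hT' hT, mulVec_mulVec, Matrix.mul_assoc, hT', Matrix.mul_one, ← mulVec_mulVec] at hpe
  have := congrArg (T' *ᵥ ·) hpe
  simpa [mulVec_mulVec, ← Matrix.mul_assoc, hT'] using this

theorem Cyc.reindex {M : Matrix ι ι K} (h : Cyc M) (σ : ι ≃ κ) : Cyc (Matrix.reindex σ σ M) := by
  have e : Matrix.reindex σ σ M =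
      (1 : Matrix ι ι K).submatrix σ.symm id * M * (1 : Matrix ι ι K).submatrix id σ.symm := by
    ext i j
    simp [Matrix.mul_apply, Matrix.one_apply]
  rw [e]
  refine h.conj ?_ ?_ (Fintype.card_congr σ.symm)
  · ext i j
    simp only [Matrix.mul_apply, Matrix.submatrix_apply, id, Matrix.one_apply]
    rw [Finset.sum_eq_single (σ i)]
    · simp
    · intro b _ hb
      rw [if_neg fun he => hb (by rw [he, Equiv.apply_symm_apply]), zero_mul]
    · simp
  · ext i j
    simp [Matrix.mul_apply, Matrix.one_apply]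

theorem Cyc.inv {M : Matrix ι ι K} (h : Cyc M) (hM : M.det ≠ 0) : Cyc M⁻¹ := by
  obtain ⟨e, he⟩ := h
  set N := Fintype.card ι - 1 with hN
  have u : IsUnit M.det := isUnit_iff_ne_zero.2 hM
  refine ⟨M ^ N *ᵥ e, fun p hp hpe => ?_⟩
  by_contra hp0
  have hd : p.natDegree < N + 1 := by
    have := (natDegree_lt_iff_degree_lt hp0).2 hp; omega
  have hq : p.reflect N = 0 := by
    refine he _ ?_ ?_
    · refine (degree_lt_iff_coeff_zero _ _).2 fun m hm => ?_
      have hm0 : Fintype.card ι ≤ m := by exact_mod_cast hm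
      have hpos : 0 < Fintype.card ι := by
        have := (natDegree_lt_iff_degree_lt hp0).2 hp; omega
      rw [coeff_reflect, revAt_eq_self_of_lt (by omega), coeff_eq_zero_of_natDegree_lt (by omega)]
    · rw [← hpe, aeval_eq_sum_range' hd, aeval_eq_sum_range' (n := N + 1) (lt_of_le_of_lt (natDegree_reflect_le) (by omega)),
        ← Finset.sum_range_reflect]
      simp only [mulVec_mulVec, Finset.sum_mul, smul_mul_assoc, Matrix.sum_mulVec, smul_mulVec]
      refine Finset.sum_congr rfl fun i hi => ?_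
      rw [Finset.mem_range] at hi
      rw [Nat.add_sub_cancel, coeff_reflect, revAt_le (by omega), show N - (N - i) = i by omega]
      congr 2
      rw [Matrix.inv_pow', ← Matrix.zpow_neg_natCast, ← zpow_natCast M N, ← Matrix.zpow_add u,
        ← zpow_natCast M (N - i)]
      congr 1
      omega
  apply hp0
  rwa [reflect_eq_zero_iff] at hq

/-- One more dimension on top of a cyclic matrix. -/
theorem cyc_border {G : Matrix ι ι K} (hG : Cyc G) (θ : K) (r : ι → K)
    (h : ∀ v : ι → K, v ≠ 0 → G *ᵥ v = θ • v → r ⬝ᵥ v ≠ 0) :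
    Cyc (Matrix.fromBlocks (θ • (1 : Matrix Unit Unit K)) (Matrix.replicateRow Unit r) 0 G) := by
  obtain ⟨e, he⟩ := hG
  set B := Matrix.fromBlocks (θ • (1 : Matrix Unit Unit K)) (Matrix.replicateRow Unit r) 0 G with hB
  set n := Fintype.card ι
  set χ := G.charpoly
  set q := χ /ₘ (X - C θ) with hqdef
  have hq : (X - C θ) * q + C (χ.eval θ) = χ := by
    rw [add_comm, ← modByMonic_X_sub_C_eq_C_eval χ θ]
    exact modByMonic_add_div χ (X - C θ)
  have hlow : ∀ (p : K[X]) (s : K) (v : ι → K), ∃ t, aeval B p *ᵥ Sum.elim (fun _ => s) v =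
      Sum.elim (fun _ => t) (aeval G p *ᵥ v) := by
    intro p s v
    induction p using Polynomial.induction_on' with
    | add p q hp hq =>
      obtain ⟨t, ht⟩ := hp; obtain ⟨t', ht'⟩ := hq
      refine ⟨t + t', ?_⟩
      rw [map_add, map_add, add_mulVec, add_mulVec, ht, ht']
      funext i; rcases i <;> rfl
    | monomial j a =>
      have hj : ∀ j : ℕ, ∃ t, B ^ j *ᵥ Sum.elim (fun _ => s) v = Sum.elim (fun _ => t) (G ^ j *ᵥ v) := by
        intro j
        induction j with
        | zero => exact ⟨s, by simp⟩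
        | succ j ih =>
          obtain ⟨t, ht⟩ := ih
          refine ⟨θ * t + r ⬝ᵥ (G ^ j *ᵥ v), ?_⟩
          rw [pow_succ', ← mulVec_mulVec, ht, hB, Matrix.fromBlocks_mulVec, pow_succ', ← mulVec_mulVec]
          funext i
          rcases i with i | i <;> simp [-mulVec_mulVec, Matrix.mulVec, dotProduct, Matrix.replicateRow]
      obtain ⟨t, ht⟩ := hj j
      refine ⟨a * t, ?_⟩
      simp only [aeval_monomial, Algebra.algebraMap_eq_smul_one, smul_mul_assoc, Matrix.one_mul, smul_mulVec, ht]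
      funext i; rcases i <;> rfl
  have hχ : ∀ s, aeval B χ *ᵥ Sum.elim (fun _ => s) e =
      Sum.elim (fun _ => r ⬝ᵥ (aeval G q *ᵥ e) + χ.eval θ * s) 0 := by
    intro s
    obtain ⟨t, ht⟩ := hlow q s e
    conv_lhs => rw [← hq]
    rw [map_add, map_mul, add_mulVec, ← mulVec_mulVec, ht, map_sub, aeval_X, aeval_C, aeval_C,
      Algebra.algebraMap_eq_smul_one, Algebra.algebraMap_eq_smul_one, sub_mulVec, smul_mulVec,
      one_mulVec, smul_mulVec, one_mulVec, hB, Matrix.fromBlocks_mulVec]
    funext i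
    rcases i with i | i
    · simp [-mulVec_mulVec, Matrix.mulVec, dotProduct, Matrix.replicateRow]
    · have h1 : aeval G χ *ᵥ e = 0 := by rw [Matrix.aeval_self_charpoly, zero_mulVec]
      have := congrFun h1 i
      rw [← hq, map_add, map_mul, add_mulVec, ← mulVec_mulVec, map_sub, aeval_X, aeval_C, aeval_C,
        Algebra.algebraMap_eq_smul_one, Algebra.algebraMap_eq_smul_one, sub_mulVec, smul_mulVec,
        one_mulVec, smul_mulVec, one_mulVec] at this
      simpa using this
  obtain ⟨s, hs⟩ : ∃ s, r ⬝ᵥ (aeval G q *ᵥ e) + χ.eval θ * s ≠ 0 := by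
    by_cases h0 : χ.eval θ = 0
    · refine ⟨0, ?_⟩
      rw [mul_zero, add_zero]
      refine h _ (fun hz => ?_) ?_
      · have hq0 : q = 0 := by
          refine he q ?_ hz
          rcases eq_or_ne q 0 with hq0 | hq0
          · rw [hq0, degree_zero]; exact WithBot.bot_lt_coe _
          · rw [← natDegree_lt_iff_degree_lt hq0, hqdef, natDegree_divByMonic χ (monic_X_sub_C θ),
              natDegree_X_sub_C, charpoly_natDegree_eq_dim]
            have : χ.natDegree = n := charpoly_natDegree_eq_dim G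
            rcases Nat.eq_zero_or_pos n with hn | hn
            · exfalso
              apply hq0
              rw [hqdef, divByMonic_eq_zero_iff (monic_X_sub_C θ), degree_X_sub_C,
                degree_eq_natDegree (charpoly_monic G).ne_zero, this, hn]
              exact WithBot.coe_lt_coe.2 one_pos
            · omega
        rw [hq0, mul_zero, zero_add, h0, C_0] at hq
        exact (charpoly_monic G).ne_zero hq.symm
      · have h1 : aeval G χ *ᵥ e = 0 := by rw [Matrix.aeval_self_charpoly, zero_mulVec]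
        rw [← hq, h0, C_0, add_zero, map_mul, ← mulVec_mulVec, map_sub, aeval_X, aeval_C,
          Algebra.algebraMap_eq_smul_one, sub_mulVec, smul_mulVec, one_mulVec, sub_eq_zero] at h1
        exact h1
    · refine ⟨(1 - r ⬝ᵥ (aeval G q *ᵥ e)) / χ.eval θ, ?_⟩
      rw [mul_div_cancel₀ _ h0]; simp
  refine ⟨Sum.elim (fun _ => s) e, fun p hp hpe => ?_⟩
  obtain ⟨t, ht⟩ := hlow p s e
  rw [ht] at hpe
  have hpG : aeval G p *ᵥ e = 0 := funext fun i => congrFun hpe (Sum.inr i)
  have hcard : Fintype.card (Unit ⊕ ι) = n + 1 := by rw [Fintype.card_sum, Fintype.card_unit, add_comm]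
  have hdeg : p.natDegree ≤ n := by
    rcases eq_or_ne p 0 with h0 | h0
    · simp [h0]
    · have := (natDegree_lt_iff_degree_lt h0).2 hp
      rw [hcard] at this; omega
  have hpc := eq_smul_charpoly he hdeg hpG
  have h2 := congrFun (show aeval B p *ᵥ Sum.elim (fun _ => s) e = 0 by rw [ht, hpe]) (Sum.inl ())
  rw [hpc, map_mul, aeval_C, Algebra.algebraMap_eq_smul_one, smul_mul_assoc, Matrix.one_mul,
    smul_mulVec, show G.charpoly = χ from rfl, hχ] at h2
  simp only [Pi.smul_apply, Sum.elim_inl, smul_eq_mul, Pi.zero_apply] at h2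
  rw [hpc, (mul_eq_zero.1 h2).resolve_right hs, C_0, zero_mul]

/-- An upper triangular matrix above a cyclic one is cyclic when all eigenspaces are lines. -/
theorem cyc_upper_over {G : Matrix ι ι K} (hG : Cyc G) : ∀ (a : ℕ) (U : Matrix (Fin a) (Fin a) K)
    (L : Matrix (Fin a) ι K), (∀ i j, j < i → U i j = 0) →
    (∀ (θ : K) (v w : Fin a ⊕ ι → K), Matrix.fromBlocks U L 0 G *ᵥ v = θ • v → v ≠ 0 →
      Matrix.fromBlocks U L 0 G *ᵥ w = θ • w → ∃ t : K, w = t • v) →
    Cyc (Matrix.fromBlocks U L 0 G) := by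
  intro a
  induction a with
  | zero =>
    intro U L _ _
    have e : Matrix.fromBlocks U L 0 G =
        Matrix.reindex (Equiv.emptySum (Fin 0) ι).symm (Equiv.emptySum (Fin 0) ι).symm G := by
      ext i j
      rcases i with i | i
      · exact i.elim0
      · rcases j with j | j
        · exact j.elim0
        · simp
    rw [e]
    exact hG.reindex _
  | succ a ih =>
    intro U L hU huniq
    set U' := U.submatrix Fin.succ Fin.succ
    set L' := L.submatrix Fin.succ id
    set θ₀ := U 0 0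
    set r : Fin a ⊕ ι → K := Sum.elim (fun j => U 0 j.succ) (fun j => L 0 j)
    let σ : Unit ⊕ (Fin a ⊕ ι) ≃ Fin (a + 1) ⊕ ι :=
      { toFun := Sum.elim (fun _ => Sum.inl 0) (Sum.map Fin.succ id)
        invFun := Sum.elim (Fin.cases (Sum.inl ()) fun i => Sum.inr (Sum.inl i)) fun i => Sum.inr (Sum.inr i)
        left_inv := fun x => by rcases x with x | x | x <;> simp
        right_inv := fun x => by
          rcases x with x | x
          · refine Fin.cases ?_ (fun i => ?_) x <;> simp
          · simp }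
    set G' := Matrix.fromBlocks U' L' 0 G with hG'
    set B := Matrix.fromBlocks (θ₀ • (1 : Matrix Unit Unit K)) (Matrix.replicateRow Unit r) 0 G' with hB
    have hre : Matrix.fromBlocks U L 0 G = Matrix.reindex σ σ B := by
      ext i j
      rcases i with i | i <;> rcases j with j | j
      · refine Fin.cases ?_ (fun i => ?_) i <;> refine Fin.cases ?_ (fun j => ?_) j <;>
          simp [σ, hB, hG', θ₀, r, U', hU _ _ (Fin.succ_pos _)]
      · refine Fin.cases ?_ (fun i => ?_) i <;> simp [σ, hB, hG', r, L']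
      · refine Fin.cases ?_ (fun j => ?_) j <;> simp [σ, hB, hG']
      · simp [σ, hB, hG']
    have hmv : ∀ (s : K) (v : Fin a ⊕ ι → K), Matrix.fromBlocks U L 0 G *ᵥ
        (Sum.elim (fun _ => s) v ∘ σ.symm) =
        Sum.elim (fun _ => θ₀ * s + r ⬝ᵥ v) (G' *ᵥ v) ∘ σ.symm := by
      intro s v
      rw [hre, Matrix.reindex_apply, Matrix.submatrix_mulVec_equiv, hB]
      funext i
      simp only [Function.comp, Equiv.symm_symm, Equiv.symm_apply_apply, Matrix.fromBlocks_mulVec]
      rcases σ.symm i with x | x <;> simp [Matrix.mulVec, dotProduct, Matrix.replicateRow]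
    have hcyc : Cyc G' := by
      refine ih U' L' (fun i j hij => hU _ _ (Fin.succ_lt_succ_iff.2 hij)) fun θ v w hv hv0 hw => ?_
      have lift : ∀ (u : Fin a ⊕ ι → K) (s : K), G' *ᵥ u = θ • u → θ₀ * s + r ⬝ᵥ u = θ * s →
          Matrix.fromBlocks U L 0 G *ᵥ (Sum.elim (fun _ => s) u ∘ σ.symm) =
            θ • (Sum.elim (fun _ => s) u ∘ σ.symm) := by
        intro u s hu hs
        rw [hmv, hu, hs]
        funext i
        simp only [Function.comp, Pi.smul_apply]
        rcases σ.symm i with x | x <;> simp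
      by_cases hθ : θ = θ₀
      · subst hθ
        have hrv : r ⬝ᵥ v ≠ 0 := by
          intro h0
          obtain ⟨t, ht⟩ := huniq θ₀ _ (Sum.elim (fun _ => (1 : K)) (0 : Fin a ⊕ ι → K) ∘ σ.symm)
            (lift v 0 hv (by rw [h0]; ring)) (fun h => hv0 (funext fun i => by
              simpa using congrFun h (σ (Sum.inr i))))
            (lift 0 1 (by rw [mulVec_zero, smul_zero]) (by rw [dotProduct_zero]; ring))
          have h1 := congrFun ht (σ (Sum.inl ()))
          simp at h1
        refine ⟨r ⬝ᵥ w / r ⬝ᵥ v, ?_⟩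
        set z := w - (r ⬝ᵥ w / r ⬝ᵥ v) • v
        by_contra hne
        have hz0 : z ≠ 0 := sub_ne_zero.2 hne
        obtain ⟨t, ht⟩ := huniq θ₀ _ (Sum.elim (fun _ => (1 : K)) (0 : Fin a ⊕ ι → K) ∘ σ.symm)
          (lift z 0 (by rw [mulVec_sub, mulVec_smul, hv, hw, smul_sub, smul_comm])
            (by rw [dotProduct_sub, dotProduct_smul, smul_eq_mul, div_mul_cancel₀ _ hrv, sub_self]; ring))
          (fun h => hz0 (funext fun i => by simpa using congrFun h (σ (Sum.inr i))))
          (lift 0 1 (by rw [mulVec_zero, smul_zero]) (by rw [dotProduct_zero]; ring))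
        have h1 := congrFun ht (σ (Sum.inl ()))
        simp at h1
      · have hne : θ - θ₀ ≠ 0 := sub_ne_zero.2 hθ
        obtain ⟨t, ht⟩ := huniq θ _ _ (lift v (r ⬝ᵥ v / (θ - θ₀)) hv (by field_simp; ring))
          (fun h => hv0 (funext fun i => by simpa using congrFun h (σ (Sum.inr i))))
          (lift w (r ⬝ᵥ w / (θ - θ₀)) hw (by field_simp; ring))
        exact ⟨t, funext fun i => by simpa using congrFun ht (σ (Sum.inr i))⟩
    rw [hre]
    refine (cyc_border hcyc θ₀ r fun v hv0 hv h0 => ?_).reindex σ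
    have e1 : Matrix.fromBlocks U L 0 G *ᵥ (Sum.elim (fun _ => (1 : K)) (0 : Fin a ⊕ ι → K) ∘ σ.symm) =
        θ₀ • (Sum.elim (fun _ => (1 : K)) (0 : Fin a ⊕ ι → K) ∘ σ.symm) := by
      rw [hmv]; funext i
      simp only [Function.comp, Pi.smul_apply, mulVec_zero, dotProduct_zero]
      rcases σ.symm i with x | x <;> simp
    have e2 : Matrix.fromBlocks U L 0 G *ᵥ (Sum.elim (fun _ => (0 : K)) v ∘ σ.symm) =
        θ₀ • (Sum.elim (fun _ => (0 : K)) v ∘ σ.symm) := by
      rw [hmv, hv, h0]; funext i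
      simp only [Function.comp, Pi.smul_apply]
      rcases σ.symm i with x | x <;> simp
    obtain ⟨t, ht⟩ := huniq θ₀ _ _ e1 (fun h => by simpa using congrFun h (σ (Sum.inl ()))) e2
    apply hv0
    funext i
    have h1 := congrFun ht (σ (Sum.inr i))
    simpa using h1

end CfsgLib.LevCover
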