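import Cfsg.Agent.LevCover.Split
import Cfsg.Agent.LevCover.Cyc

/-!
Coupling two cyclic pieces of a product of two block triangular matrices.
-/

set_option autoImplicit false
set_option linter.unusedSectionVars false
set_option linter.unusedSimpArgs false

namespace CfsgLib.LevCover

open Matrix Polynomial

variable {K : Type*} [Field K] {ι κ μ : Type*} [Fintype ι] [DecidableEq ι] [Fintype κ] [DecidableEq κ]
  [Fintype μ] [DecidableEq μ]

/-- Similarity, allowing different index types. -/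
def Sim (A : Matrix ι ι K) (B : Matrix κ κ K) : Prop :=
  ∃ (P : Matrix κ ι K) (P' : Matrix ι κ K), P * P' = 1 ∧ P' * P = 1 ∧ B = P * A * P'

theorem Sim.refl (A : Matrix ι ι K) : Sim A A := ⟨1, 1, one_mul _, one_mul _, by simp⟩

theorem Sim.symm {A : Matrix ι ι K} {B : Matrix κ κ K} (h : Sim A B) : Sim B A := by
  obtain ⟨P, P', h1, h2, rfl⟩ := h
  refine ⟨P', P, h2, h1, ?_⟩
  rw [show P' * (P * A * P') * P = (P' * P) * A * (P' * P) by simp only [Matrix.mul_assoc], h2,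
    Matrix.one_mul, Matrix.mul_one]

theorem Sim.trans {A : Matrix ι ι K} {B : Matrix κ κ K} {C : Matrix μ μ K} (h : Sim A B) (h' : Sim B C) :
    Sim A C := by
  obtain ⟨P, P', h1, h2, rfl⟩ := h
  obtain ⟨Q, Q', g1, g2, rfl⟩ := h'
  refine ⟨Q * P, P' * Q', ?_, ?_, by simp only [Matrix.mul_assoc]⟩
  · rw [show Q * P * (P' * Q') = Q * (P * P') * Q' by simp only [Matrix.mul_assoc], h1, Matrix.mul_one, g1]
  · rw [show P' * Q' * (Q * P) = P' * (Q' * Q) * P by simp only [Matrix.mul_assoc], g2, Matrix.mul_one, h2]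

theorem Sim.det_eq {A B : Matrix ι ι K} (h : Sim A B) : B.det = A.det := by
  obtain ⟨P, P', h1, h2, rfl⟩ := h
  rw [det_mul, det_mul, mul_comm P.det, mul_assoc, ← det_mul, h1, det_one, mul_one]

theorem Sim.charpoly_eq {A B : Matrix ι ι K} (h : Sim A B) : B.charpoly = A.charpoly := by
  obtain ⟨P, P', h1, h2, rfl⟩ := h
  rw [charpoly_mul_comm, ← Matrix.mul_assoc, h2, Matrix.one_mul]

theorem Sim.cyc {A B : Matrix ι ι K} (h : Sim A B) (hA : Cyc A) : Cyc B := by
  obtain ⟨P, P', h1, h2, rfl⟩ := h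
  exact hA.conj h2 h1 rfl

theorem sim_shear (A : Matrix ι ι K) (B : Matrix κ κ K) (L ν : Matrix ι κ K) :
    Sim (Matrix.fromBlocks A L 0 B) (Matrix.fromBlocks A (L + A * ν - ν * B) 0 B) := by
  refine ⟨Matrix.fromBlocks 1 (-ν) 0 1, Matrix.fromBlocks 1 ν 0 1, ?_, ?_, ?_⟩
  · simp [Matrix.fromBlocks_multiply]
  · simp [Matrix.fromBlocks_multiply]
  · simp [Matrix.fromBlocks_multiply]
    abel

/-- Similar to an upper triangular matrix. -/
def Tri {n : ℕ} (R : Matrix (Fin n) (Fin n) K) : Prop :=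
  ∃ P P' : Matrix (Fin n) (Fin n) K, P * P' = 1 ∧ P' * P = 1 ∧ ∀ i j, j < i → (P' * R * P) i j = 0

/-- The data needed of the upper factor pair in a coupling. -/
structure Piece {n : ℕ} (A Y : Matrix (Fin n) (Fin n) K) (b : K) : Prop where
  cyc : Cyc (A * Y)
  tri : Tri (A * Y)
  top : ∀ (φ : Fin n → K) (θ s : K), φ ≠ 0 → φ ᵥ* (A * Y) = θ • φ → φ ᵥ* A = s • φ → θ = b

theorem exists_dual_zero {v w : ι → K} (h : ∀ t : K, w ≠ t • v) :
    ∃ u : ι → K, u ⬝ᵥ v = 0 ∧ u ⬝ᵥ w ≠ 0 := by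
  by_cases hv : v = 0
  · obtain ⟨i, hi⟩ := Function.ne_iff.1 (h 0)
    exact ⟨Pi.single i 1, by simp [hv], by simpa using hi⟩
  obtain ⟨i, hi⟩ := Function.ne_iff.1 hv
  obtain ⟨l, hl⟩ := Function.ne_iff.1 (h (w i / v i))
  simp only [Pi.smul_apply, smul_eq_mul, Pi.zero_apply, ne_eq] at hl hi
  refine ⟨v i • Pi.single l 1 - v l • Pi.single i 1, ?_, ?_⟩
  · simp [sub_dotProduct, smul_dotProduct]; ring
  · simp [sub_dotProduct, smul_dotProduct]
    intro h0
    apply hl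
    field_simp
    linear_combination h0

theorem exists_avoid [Fintype K] {V : Type*} [AddCommGroup V] [Module K V] {σ : Type*} (L : σ → V →ₗ[K] K)
    (c : σ → K) : ∀ (S : Finset σ), S.card < Fintype.card K → (∀ s ∈ S, L s ≠ 0) →
      ∃ w : V, ∀ s ∈ S, L s w + c s ≠ 0 := by
  classical
  have key : ∀ (S : Finset σ), S.card < Fintype.card K → (∀ s ∈ S, L s ≠ 0) →
      ∃ w : V, ∀ s ∈ S, L s w ≠ 0 := by
    intro S
    induction S using Finset.induction_on with
    | empty => exact fun _ _ => ⟨0, fun s hs => by simp at hs⟩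
    | @insert a S ha ih =>
      intro hc hL
      rw [Finset.card_insert_of_notMem ha] at hc
      obtain ⟨w, hw⟩ := ih (by omega) fun s hs => hL s (Finset.mem_insert_of_mem hs)
      by_cases h0 : L a w = 0
      · obtain ⟨u, hu⟩ : ∃ u, L a u ≠ 0 := by
          by_contra h; push Not at h
          exact hL a (Finset.mem_insert_self a S) (LinearMap.ext fun u => h u)
        obtain ⟨t, -, ht⟩ := Finset.exists_mem_notMem_of_card_lt_card
          (s := insert 0 (S.image fun s => -L s w / L s u)) (t := (Finset.univ : Finset K))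
          (by rw [Finset.card_univ]; refine lt_of_le_of_lt (Finset.card_insert_le _ _) ?_
              have := Finset.card_image_le (s := S) (f := fun s => -L s w / L s u); omega)
        simp only [Finset.mem_insert, not_or, Finset.mem_image, not_exists, not_and] at ht
        refine ⟨w + t • u, fun s hs => ?_⟩
        rw [map_add, map_smul, smul_eq_mul]
        rcases Finset.mem_insert.1 hs with rfl | hs
        · rw [h0, zero_add]; exact mul_ne_zero ht.1 hu
        · intro h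
          by_cases hsu : L s u = 0
          · rw [hsu, mul_zero, add_zero] at h; exact hw s hs h
          · exact ht.2 s hs (by field_simp; linear_combination -h)
      · exact ⟨w, fun s hs => (Finset.mem_insert.1 hs).elim (fun h => h ▸ h0) (hw s)⟩
  intro S hS hL
  obtain ⟨w, hw⟩ := key S hS hL
  obtain ⟨t, -, ht⟩ := Finset.exists_mem_notMem_of_card_lt_card
    (s := S.image fun s => -c s / L s w) (t := (Finset.univ : Finset K))
    (lt_of_le_of_lt Finset.card_image_le (by rw [Finset.card_univ]; exact hS))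
  refine ⟨t • w, fun s hs h => ht (Finset.mem_image.2 ⟨s, hs, ?_⟩)⟩
  rw [map_smul, smul_eq_mul] at h
  have := hw s hs
  field_simp
  linear_combination -h

variable [Fintype K]

/-- The coupling lemma. -/
theorem couple {a : ℕ} {A Y : Matrix (Fin a) (Fin a) K} {b : K} (hp : Piece A Y b)
    {A₂ Y₂ : Matrix ι ι K} (hA : A.det ≠ 0) (hY : Y.det ≠ 0) (hA₂ : A₂.det ≠ 0) (hY₂ : Y₂.det ≠ 0)
    (hG₂ : Cyc (A₂ * Y₂))
    (hv : ∀ (v : ι → K) (t : K), v ≠ 0 → (A₂ * Y₂) *ᵥ v = b • v → Y₂ *ᵥ v ≠ t • v)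
    (L₁ L₂ : Matrix (Fin a) ι K) :
    ∃ ν : Matrix (Fin a) ι K,
      Cyc (Matrix.fromBlocks A L₁ 0 A₂ * Matrix.fromBlocks Y (L₂ + Y * ν - ν * Y₂) 0 Y₂) := by
  classical
  set R := A * Y with hR
  set G₂ := A₂ * Y₂ with hG₂def
  let Shared : K → Prop := fun θ =>
    (∃ φ : Fin a → K, φ ≠ 0 ∧ φ ᵥ* R = θ • φ) ∧ ∃ v : ι → K, v ≠ 0 ∧ G₂ *ᵥ v = θ • v
  set S := Finset.univ.filter fun θ : K => Shared θ with hS
  let φ : K → (Fin a → K) := fun θ =>
    if h : ∃ φ : Fin a → K, φ ≠ 0 ∧ φ ᵥ* R = θ • φ then h.choose else 0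
  let v : K → (ι → K) := fun θ => if h : ∃ v : ι → K, v ≠ 0 ∧ G₂ *ᵥ v = θ • v then h.choose else 0
  have hφ : ∀ θ ∈ S, φ θ ≠ 0 ∧ φ θ ᵥ* R = θ • φ θ := fun θ hθ => by
    obtain ⟨h, -⟩ : Shared θ := (Finset.mem_filter.1 hθ).2
    simp only [φ, dif_pos h]; exact h.choose_spec
  have hvS : ∀ θ ∈ S, v θ ≠ 0 ∧ G₂ *ᵥ v θ = θ • v θ := fun θ hθ => by
    obtain ⟨-, h⟩ : Shared θ := (Finset.mem_filter.1 hθ).2
    simp only [v, dif_pos h]; exact h.choose_spec
  have hS0 : ∀ θ ∈ S, θ ≠ 0 := by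
    rintro θ hθ rfl
    obtain ⟨h1, h2⟩ := hφ 0 hθ
    rw [zero_smul] at h2
    exact h1 (Matrix.eq_zero_of_vecMul_eq_zero (by rw [hR, det_mul]; exact mul_ne_zero hA hY) h2)
  let Lf : K → (Matrix (Fin a) ι K →ₗ[K] K) := fun θ =>
    { toFun := fun ν => φ θ ⬝ᵥ ((A * (Y * ν - ν * Y₂)) *ᵥ v θ)
      map_add' := fun x y => by
        simp only [Matrix.mul_add, Matrix.add_mul, add_sub_add_comm, add_mulVec, dotProduct_add]
      map_smul' := fun s x => by
        simp only [Matrix.mul_smul, Matrix.smul_mul, ← smul_sub, smul_mulVec, dotProduct_smul,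
          RingHom.id_apply] }
  have hL : ∀ θ ∈ S, Lf θ ≠ 0 := by
    intro θ hθ
    obtain ⟨hf0, hf⟩ := hφ θ hθ
    obtain ⟨hv0, hvθ⟩ := hvS θ hθ
    have hY₂v : Y₂ *ᵥ v θ ≠ 0 := fun h => hv0 (Matrix.eq_zero_of_mulVec_eq_zero hY₂ h)
    suffices h : ∃ (w : Fin a → K) (u : ι → K),
        θ * ((φ θ ⬝ᵥ w) * (u ⬝ᵥ v θ)) - ((φ θ ᵥ* A) ⬝ᵥ w) * (u ⬝ᵥ (Y₂ *ᵥ v θ)) ≠ 0 by
      obtain ⟨w, u, hwu⟩ := h
      intro h0
      apply hwu
      have := LinearMap.congr_fun h0 (vecMulVec w u)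
      simp only [Lf, LinearMap.coe_mk, AddHom.coe_mk, LinearMap.zero_apply, Matrix.mul_sub,
        ← Matrix.mul_assoc, sub_mulVec, dotProduct_sub] at this
      rw [← hR, ← mulVec_mulVec, dotProduct_mulVec, hf, ← mulVec_mulVec, ← mulVec_mulVec, dotProduct_mulVec _ A,
        vecMulVec_mulVec, vecMulVec_mulVec] at this
      simpa [dotProduct_smul, smul_dotProduct, mul_comm, mul_left_comm] using this
    by_cases hp' : ∃ s : K, φ θ ᵥ* A = s • φ θ
    · obtain ⟨s, hs⟩ := hp'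
      have hθb := hp.top (φ θ) θ s hf0 hf hs
      obtain ⟨u, hu1, hu2⟩ := exists_dual_zero (v := v θ) (w := Y₂ *ᵥ v θ)
        fun t => hv (v θ) t hv0 (hθb ▸ hvθ)
      have hφA : φ θ ᵥ* A ≠ 0 := fun h => hf0 (Matrix.eq_zero_of_vecMul_eq_zero hA h)
      obtain ⟨i, hi⟩ := Function.ne_iff.1 hφA
      refine ⟨Pi.single i 1, u, ?_⟩
      rw [hu1, mul_zero, mul_zero, zero_sub, neg_ne_zero, dotProduct_single, mul_one]
      exact mul_ne_zero hi hu2
    · push Not at hp'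
      obtain ⟨w, hw1, hw2⟩ := exists_dual_zero hp'
      obtain ⟨i, hi⟩ := Function.ne_iff.1 hY₂v
      refine ⟨w, Pi.single i 1, ?_⟩
      rw [dotProduct_comm (φ θ) w, hw1, zero_mul, mul_zero, zero_sub, neg_ne_zero, single_dotProduct,
        one_mul]
      exact mul_ne_zero (dotProduct_comm w _ ▸ hw2) hi
  obtain ⟨ν, hν⟩ := exists_avoid Lf (fun θ => φ θ ⬝ᵥ ((A * L₂ + L₁ * Y₂) *ᵥ v θ)) S
    (by
      have : S ⊆ Finset.univ.erase 0 := fun θ hθ => Finset.mem_erase.2 ⟨hS0 θ hθ, Finset.mem_univ θ⟩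
      have := Finset.card_le_card this
      rw [Finset.card_erase_of_mem (Finset.mem_univ _), Finset.card_univ] at this
      have := Fintype.card_pos (α := K)
      omega) hL
  refine ⟨ν, ?_⟩
  set Kν := A * (L₂ + Y * ν - ν * Y₂) + L₁ * Y₂ with hKν
  have hmul : Matrix.fromBlocks A L₁ 0 A₂ * Matrix.fromBlocks Y (L₂ + Y * ν - ν * Y₂) 0 Y₂ =
      Matrix.fromBlocks R Kν 0 G₂ := by
    simp [Matrix.fromBlocks_multiply, hR, hKν, hG₂def]
  rw [hmul]
  have hK : ∀ θ ∈ S, φ θ ⬝ᵥ (Kν *ᵥ v θ) ≠ 0 := by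
    intro θ hθ h0
    apply hν θ hθ
    rw [← h0, hKν]
    simp only [Lf, LinearMap.coe_mk, AddHom.coe_mk, Matrix.mul_add, Matrix.mul_sub, add_mulVec,
      sub_mulVec, dotProduct_add, dotProduct_sub]
    abel
  obtain ⟨P, P', hPP, hP'P, hU⟩ := hp.tri
  rw [← hR] at hU
  have key : Cyc (Matrix.fromBlocks (P' * R * P) (P' * Kν) 0 G₂) := by
    refine cyc_upper_over hG₂ a _ _ hU fun θ x y hx hx0 hy => ?_
    have tr : ∀ z : Fin a ⊕ ι → K, Matrix.fromBlocks (P' * R * P) (P' * Kν) 0 G₂ *ᵥ z = θ • z →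
        R *ᵥ (P *ᵥ (z ∘ Sum.inl)) + Kν *ᵥ (z ∘ Sum.inr) = θ • (P *ᵥ (z ∘ Sum.inl)) ∧
        G₂ *ᵥ (z ∘ Sum.inr) = θ • (z ∘ Sum.inr) := by
      intro z hz
      rw [Matrix.fromBlocks_mulVec] at hz
      constructor
      · have h1 : (P' * R * P) *ᵥ (z ∘ Sum.inl) + (P' * Kν) *ᵥ (z ∘ Sum.inr) = θ • (z ∘ Sum.inl) :=
          funext fun i => congrFun hz (Sum.inl i)
        have h2 := congrArg (P *ᵥ ·) h1
        simp only [mulVec_add, mulVec_mulVec, mulVec_smul, ← Matrix.mul_assoc, hPP, Matrix.one_mul] at h2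
        rw [← mulVec_mulVec] at h2
        exact h2
      · funext i
        have := congrFun hz (Sum.inr i)
        simpa using this
    obtain ⟨hx1, hx2⟩ := tr x hx
    obtain ⟨hy1, hy2⟩ := tr y hy
    -- the lower part vanishes at shared values
    have low : ∀ z : Fin a ⊕ ι → K, (∃ φ : Fin a → K, φ ≠ 0 ∧ φ ᵥ* R = θ • φ) →
        R *ᵥ (P *ᵥ (z ∘ Sum.inl)) + Kν *ᵥ (z ∘ Sum.inr) = θ • (P *ᵥ (z ∘ Sum.inl)) →
        G₂ *ᵥ (z ∘ Sum.inr) = θ • (z ∘ Sum.inr) → z ∘ Sum.inr = 0 := by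
      intro z hex h1 h2
      by_contra hz
      have hθ : θ ∈ S := Finset.mem_filter.2 ⟨Finset.mem_univ θ, hex, z ∘ Sum.inr, hz, h2⟩
      obtain ⟨t, ht⟩ := eigen_unique hG₂ (hvS θ hθ).2 (hvS θ hθ).1 h2
      have h3 := congrArg (φ θ ⬝ᵥ ·) h1
      simp only [dotProduct_add, dotProduct_smul, ht, mulVec_smul, smul_eq_mul] at h3
      rw [dotProduct_mulVec, (hφ θ hθ).2, smul_dotProduct, smul_eq_mul, add_eq_left, mul_eq_zero] at h3
      rcases h3 with h3 | h3
      · exact hz (by rw [ht, h3, zero_smul])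
      · exact hK θ hθ h3
    have hPinj : ∀ z : Fin a → K, P' *ᵥ (P *ᵥ z) = z := fun z => by rw [mulVec_mulVec, hP'P, one_mulVec]
    by_cases hxr : x ∘ Sum.inr = 0
    · rw [hxr, mulVec_zero, add_zero] at hx1
      have hxl : P *ᵥ (x ∘ Sum.inl) ≠ 0 := fun h => hx0 (by
        funext i
        rcases i with i | i
        · have h' := hPinj (x ∘ Sum.inl)
          rw [h, mulVec_zero] at h'
          exact (congrFun h' i).symm
        · exact congrFun hxr i)
      have hsing : (R - θ • 1).det = 0 := Matrix.exists_mulVec_eq_zero_iff.1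
        ⟨_, hxl, by rw [sub_mulVec, smul_mulVec, one_mulVec, hx1, sub_self]⟩
      obtain ⟨f, hf0, hf⟩ := Matrix.exists_vecMul_eq_zero_iff.2 hsing
      have hyr := low y ⟨f, hf0, by rw [vecMul_sub, vecMul_smul, vecMul_one, sub_eq_zero] at hf; exact hf⟩ hy1 hy2
      rw [hyr, mulVec_zero, add_zero] at hy1
      obtain ⟨t, ht⟩ := eigen_unique hp.cyc (hR ▸ hx1) hxl (hR ▸ hy1)
      refine ⟨t, funext fun i => ?_⟩
      rcases i with i | i
      · have h' := congrArg (P' *ᵥ ·) ht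
        simp only [mulVec_smul, hPinj] at h'
        exact congrFun h' i
      · have h1 := congrFun hyr i
        have h2 := congrFun hxr i
        simp only [Function.comp, Pi.zero_apply] at h1 h2
        simp [h1, h2]
    · have hinj : (R - θ • 1).det ≠ 0 := fun h => hxr (by
        obtain ⟨f, hf0, hf⟩ := Matrix.exists_vecMul_eq_zero_iff.2 h
        exact low x ⟨f, hf0, by rw [vecMul_sub, vecMul_smul, vecMul_one, sub_eq_zero] at hf; exact hf⟩ hx1 hx2)
      obtain ⟨t, ht⟩ := eigen_unique hG₂ hx2 hxr hy2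
      refine ⟨t, funext fun i => ?_⟩
      rcases i with i | i
      · have h1 : (R - θ • 1) *ᵥ (P *ᵥ (y ∘ Sum.inl) - t • (P *ᵥ (x ∘ Sum.inl))) = 0 := by
          rw [mulVec_sub, mulVec_smul, sub_mulVec, sub_mulVec, smul_mulVec, smul_mulVec, one_mulVec, one_mulVec]
          rw [ht, mulVec_smul] at hy1
          linear_combination (norm := module) hy1 - t • hx1
        have h2 := congrArg (P' *ᵥ ·) (sub_eq_zero.1 (Matrix.eq_zero_of_mulVec_eq_zero hinj h1))
        simp only [mulVec_smul, hPinj] at h2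
        exact congrFun h2 i
      · exact congrFun ht i
  have h1 : Matrix.fromBlocks R Kν 0 G₂ = Matrix.fromBlocks P 0 0 1 *
      Matrix.fromBlocks (P' * R * P) (P' * Kν) 0 G₂ * Matrix.fromBlocks P' 0 0 1 := by
    simp [Matrix.fromBlocks_multiply, ← Matrix.mul_assoc, hPP]
    simp [Matrix.mul_assoc, hPP]
  rw [h1]
  exact key.conj (by simp [Matrix.fromBlocks_multiply, hP'P]) (by simp [Matrix.fromBlocks_multiply, hPP]) rfl

end CfsgLib.LevCover
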