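import Cfsg.Agent.SourourProduct.Main
import Cfsg.Agent.SLCommutator.Cyclic

/-!
Bordering a cyclic matrix: the first row controls the characteristic polynomial bijectively.
-/

set_option autoImplicit false
set_option linter.unusedSectionVars false
set_option linter.unusedSimpArgs false

namespace CfsgLib.LevCover

open Matrix Polynomial
open CfsgLib.SourourProduct (blk blk_mul blk_ext blk_injective blk_mulVec_e₀ e₀ eq_blk)
open CfsgLib.SLCommutator (krylov IsCyc mul_krylov comp)

variable {K : Type*} [Field K] {n k : ℕ}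

/-- `e` is a cyclic vector of `M`. -/
def CycAt (M : Matrix (Fin n) (Fin n) K) (e : Fin n → K) : Prop := (krylov M e).det ≠ 0

theorem CycAt.isCyc {M : Matrix (Fin n) (Fin n) K} {e} (h : CycAt M e) : IsCyc M := ⟨e, h⟩

theorem cycAt_iff {M : Matrix (Fin n) (Fin n) K} {e : Fin n → K} :
    CycAt M e ↔ ∀ z : Fin n → K, (∀ j : Fin n, z ⬝ᵥ (M ^ j.val *ᵥ e) = 0) → z = 0 := by
  constructor
  · intro h z hz
    exact Matrix.eq_zero_of_vecMul_eq_zero h (funext fun j => hz j)
  · intro h h0
    obtain ⟨z, hz0, hz⟩ := Matrix.exists_vecMul_eq_zero_iff.2 h0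
    exact hz0 (h z fun j => congrFun hz j)

theorem pow_conj_mat {T T' M : Matrix (Fin n) (Fin n) K} (h : T' * T = 1) (h' : T * T' = 1) :
    ∀ j : ℕ, (T * M * T') ^ j = T * M ^ j * T' := by
  intro j
  induction j with
  | zero => rw [pow_zero, pow_zero, Matrix.mul_one, h']
  | succ j ih =>
    rw [pow_succ, ih, pow_succ]
    simp only [Matrix.mul_assoc]
    rw [← Matrix.mul_assoc T' T, h, Matrix.one_mul]

theorem CycAt.conj {M : Matrix (Fin n) (Fin n) K} {e : Fin n → K} (hc : CycAt M e)
    {T T' : Matrix (Fin n) (Fin n) K} (h : T' * T = 1) (h' : T * T' = 1) :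
    CycAt (T * M * T') (T *ᵥ e) := by
  have : krylov (T * M * T') (T *ᵥ e) = T * krylov M e := by
    ext i j
    show (((T * M * T') ^ j.val) *ᵥ (T *ᵥ e)) i = _
    rw [pow_conj_mat h h', mulVec_mulVec, Matrix.mul_assoc (T * M ^ j.val), h, Matrix.mul_one,
      ← mulVec_mulVec]
    rfl
  rw [CycAt, this, det_mul]
  refine mul_ne_zero (fun h0 => ?_) hc
  have := congrArg det h'
  rw [det_mul, h0, zero_mul, det_one] at this
  exact zero_ne_one this

theorem cycAt_of_irreducible {M : Matrix (Fin n) (Fin n) K} (hM : Irreducible M.charpoly)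
    {c : Fin n → K} (hc : c ≠ 0) : CycAt M c := by
  intro h0
  obtain ⟨a, ha0, ha⟩ := Matrix.exists_mulVec_eq_zero_iff.2 h0
  set p : K[X] := ∑ j : Fin n, Polynomial.C (a j) * X ^ j.val with hp
  have hpc : aeval M p *ᵥ c = 0 := by
    rw [hp, map_sum, Matrix.sum_mulVec, ← ha]
    funext i
    rw [Finset.sum_apply, Matrix.mulVec, dotProduct]
    refine Finset.sum_congr rfl fun j _ => ?_
    rw [map_mul, aeval_C, map_pow, aeval_X, Algebra.algebraMap_eq_smul_one, smul_mul_assoc,
      Matrix.one_mul, smul_mulVec, Pi.smul_apply, smul_eq_mul, mul_comm]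
    rfl
  have hco : ∀ j : Fin n, p.coeff j.val = a j := fun j => by
    rw [hp, finsetSum_coeff, Finset.sum_eq_single j]
    · simp
    · intro x _ hx
      rw [coeff_C_mul_X_pow, if_neg fun h => hx (Fin.ext h.symm)]
    · exact fun h => absurd (Finset.mem_univ _) h
  have hp0 : p ≠ 0 := fun h => ha0 (funext fun j => by rw [← hco j, h, coeff_zero]; rfl)
  have hdeg : p.degree < M.charpoly.degree := by
    rw [degree_eq_natDegree (charpoly_monic M).ne_zero, charpoly_natDegree_eq_dim, Fintype.card_fin]
    exact degree_sum_fin_lt a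
  obtain ⟨u, w, huw⟩ := hM.coprime_iff_not_dvd.2 fun h => hp0 (eq_zero_of_dvd_of_degree_lt h hdeg)
  apply hc
  have h1 := congrArg (fun f => aeval M f *ᵥ c) huw
  simp only [map_add, map_mul, Matrix.aeval_self_charpoly, mul_zero, zero_add, map_one,
    one_mulVec] at h1
  rw [← h1, ← mulVec_mulVec, hpc, mulVec_zero]

theorem cycAt_blk {c : Fin k → K} {H : Matrix (Fin k) (Fin k) K} (hc : CycAt H c) (h : K)
    (η : Fin k → K) : CycAt (blk h η c H) e₀ := by
  rw [cycAt_iff]
  intro z hz
  set G := blk h η c H with hG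
  have hstep : ∀ j, (hj : j ≤ k) → z ᵥ* G ^ j = Fin.cons 0 ((fun i => z i.succ) ᵥ* H ^ j) := by
    intro j
    induction j with
    | zero =>
      intro _
      funext i
      rw [pow_zero, pow_zero, vecMul_one, vecMul_one]
      refine Fin.cases ?_ (fun i => ?_) i
      · have := hz 0
        rw [Fin.val_zero, pow_zero, one_mulVec, dotProduct_single, mul_one] at this
        rw [this, Fin.cons_zero]
      · rw [Fin.cons_succ]
    | succ j ih =>
      intro hj
      have h0 : z ⬝ᵥ (G ^ (j + 1) *ᵥ e₀) = 0 := hz ⟨j + 1, by omega⟩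
      rw [dotProduct_mulVec, pow_succ, ← vecMul_vecMul, ih (by omega), dotProduct_single, mul_one] at h0
      rw [pow_succ, pow_succ, ← vecMul_vecMul z, ih (by omega), ← vecMul_vecMul (fun i : Fin k => z i.succ) (H ^ j) H]
      funext i
      refine Fin.cases ?_ (fun i => ?_) i
      · rw [Fin.cons_zero]; exact h0
      · simp [hG, -Matrix.vecMul_vecMul, Matrix.vecMul, dotProduct, Fin.sum_univ_succ]
  have hz' : (fun i : Fin k => z i.succ) = 0 := by
    refine cycAt_iff.1 hc _ fun j => ?_
    have h0 : z ⬝ᵥ (G ^ (j.val + 1) *ᵥ e₀) = 0 := hz ⟨j.val + 1, by omega⟩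
    rw [dotProduct_mulVec, pow_succ, ← vecMul_vecMul, hstep j.val (by omega), dotProduct_single,
      mul_one] at h0
    rw [dotProduct_mulVec]
    simpa [hG, Matrix.vecMul, dotProduct, Fin.sum_univ_succ] using h0
  funext i
  refine Fin.cases ?_ (fun i => ?_) i
  · have := congrFun (hstep 0 (Nat.zero_le _)) 0
    simpa using this
  · exact congrFun hz' i

theorem border_inj {c : Fin k → K} {H : Matrix (Fin k) (Fin k) K} (hc : CycAt H c) {h₁ h₂ : K}
    {η₁ η₂ : Fin k → K} (h : (blk h₁ η₁ c H).charpoly = (blk h₂ η₂ c H).charpoly) :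
    h₁ = h₂ ∧ η₁ = η₂ := by
  set G₁ := blk h₁ η₁ c H with hG₁
  set G₂ := blk h₂ η₂ c H with hG₂
  have c₁ := cycAt_blk hc h₁ η₁
  have c₂ := cycAt_blk hc h₂ η₂
  rw [← hG₁] at c₁
  rw [← hG₂] at c₂
  set K₁ := krylov G₁ e₀
  set K₂ := krylov G₂ e₀
  have u₁ : IsUnit K₁.det := isUnit_iff_ne_zero.2 c₁
  have u₂ : IsUnit K₂.det := isUnit_iff_ne_zero.2 c₂
  set P := K₁ * K₂⁻¹ with hP
  have hPK : P * K₂ = K₁ := by rw [hP, Matrix.mul_assoc, Matrix.nonsing_inv_mul K₂ u₂, Matrix.mul_one]
  have hcomm : P * G₂ = G₁ * P := by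
    have h2 : P * G₂ * K₂ = G₁ * P * K₂ := by
      rw [Matrix.mul_assoc P, mul_krylov G₂, ← Matrix.mul_assoc, hPK, ← h, Matrix.mul_assoc G₁,
        hPK, mul_krylov G₁]
    have := congrArg (· * K₂⁻¹) h2
    simpa [Matrix.mul_assoc, Matrix.mul_nonsing_inv K₂ u₂] using this
  have hcol₁ : ∀ i, K₁ i 0 = (e₀ : Fin (k+1) → K) i := fun i => by
    show (G₁ ^ (0 : ℕ) *ᵥ e₀) i = _
    rw [pow_zero, one_mulVec]
  have hcol₂ : ∀ i, K₂ i 0 = (e₀ : Fin (k+1) → K) i := fun i => by
    show (G₂ ^ (0 : ℕ) *ᵥ e₀) i = _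
    rw [pow_zero, one_mulVec]
  have hPe : ∀ i, P i 0 = (e₀ : Fin (k+1) → K) i := by
    intro i
    have h2 := congrFun (congrFun hPK i) 0
    rw [Matrix.mul_apply, hcol₁] at h2
    simpa [hcol₂, e₀, Pi.single_apply] using h2
  obtain ⟨φ, D, hPb⟩ : ∃ φ D, P = blk 1 φ 0 D := by
    refine ⟨fun j => P 0 j.succ, P.submatrix Fin.succ Fin.succ, ?_⟩
    refine blk_ext ?_ ?_ ?_ ?_
    · simpa [e₀] using hPe 0
    · intro j; simp
    · intro i; simpa [e₀, Fin.succ_ne_zero] using hPe i.succ
    · intro i j; simp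
  rw [hPb, hG₁, hG₂, blk_mul, blk_mul] at hcomm
  obtain ⟨h00, h01, h10, h11⟩ := blk_injective hcomm
  simp only [zero_vecMul, smul_zero, zero_add, Matrix.mulVec_zero, add_zero, mul_one, one_smul,
    dotProduct_zero, one_mul, zero_vecMulVec] at h00 h01 h10 h11
  have hφ : φ = 0 := by
    refine cycAt_iff.1 hc φ fun j => ?_
    have h2 := congrArg (fun M => (H ^ j.val * M).trace) h11
    simp only [Matrix.mul_add, trace_add] at h2
    have e1 : (H ^ j.val * (D * H)).trace = (H ^ j.val * (H * D)).trace := by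
      rw [← Matrix.mul_assoc, trace_mul_comm, ← Matrix.mul_assoc, ← Matrix.mul_assoc, ← pow_succ',
        pow_succ]
    rw [e1, mul_vecMulVec, trace_vecMulVec] at h2
    rw [dotProduct_comm]
    linear_combination -h2
  subst hφ
  have hD : D = 1 := by
    simp only [vecMulVec_zero, zero_add] at h11
    have hDc : ∀ j : ℕ, D *ᵥ (H ^ j *ᵥ c) = H ^ j *ᵥ c := by
      intro j
      induction j with
      | zero => simpa using h10
      | succ j ih => rw [pow_succ', ← mulVec_mulVec, mulVec_mulVec, h11, ← mulVec_mulVec, ih]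
    have h2 : D * krylov H c = krylov H c := by
      ext i j
      exact congrFun (hDc j.val) i
    have u := isUnit_iff_ne_zero.2 (show (krylov H c).det ≠ 0 from hc)
    have := congrArg (· * (krylov H c)⁻¹) h2
    simpa [Matrix.mul_assoc, Matrix.mul_nonsing_inv _ u] using this
  subst hD
  refine ⟨?_, ?_⟩
  · simp only [zero_dotProduct, add_zero] at h00
    exact h00.symm
  · simp only [vecMul_one, zero_vecMul, add_zero, smul_zero, zero_add] at h01
    exact h01.symm

/-- The row `x` as the border of `H` and `c`. -/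
def border (c : Fin k → K) (H : Matrix (Fin k) (Fin k) K) (x : Fin (k + 1) → K) :
    Matrix (Fin (k + 1)) (Fin (k + 1)) K := blk (x 0) (fun j => x j.succ) c H

/-- Coefficients of the characteristic polynomial below the leading one. -/
noncomputable def coeffs (G : Matrix (Fin (k + 1)) (Fin (k + 1)) K) : Fin (k + 1) → K :=
  fun i => G.charpoly.coeff i.val

theorem coeffs_border_affine (c : Fin k → K) (H : Matrix (Fin k) (Fin k) K) :
    ∃ L : (Fin (k + 1) → K) →ₗ[K] (Fin (k + 1) → K), ∀ x,
      coeffs (border c H x) = coeffs (border c H 0) + L x := by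
  classical
  set m : Fin (k + 1) → K[X] := fun j =>
    (-1) ^ (j : ℕ) * ((charmatrix (border c H 0)).submatrix Fin.succ j.succAbove).det with hm
  have hsub : ∀ x j, (charmatrix (border c H x)).submatrix Fin.succ j.succAbove =
      (charmatrix (border c H 0)).submatrix Fin.succ (j : Fin (k + 1)).succAbove := by
    intro x j
    ext i l
    simp [charmatrix_apply, border, SourourProduct.blk]
  refine ⟨{ toFun := fun x i => -∑ j, x j * (m j).coeff i.val
            map_add' := fun x y => funext fun i => by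
              simp only [Pi.add_apply, add_mul, Finset.sum_add_distrib, neg_add]
            map_smul' := fun s x => funext fun i => by
              simp only [Pi.smul_apply, smul_eq_mul, RingHom.id_apply, mul_assoc, ← Finset.mul_sum,
                mul_neg] }, fun x => ?_⟩
  funext i
  simp only [coeffs, Pi.add_apply, LinearMap.coe_mk, AddHom.coe_mk, Matrix.charpoly]
  rw [det_succ_row_zero, det_succ_row_zero (charmatrix (border c H 0))]
  simp only [hsub, finsetSum_coeff]
  rw [← sub_eq_add_neg, ← Finset.sum_sub_distrib]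
  refine Finset.sum_congr rfl fun j _ => ?_
  have e : ∀ y, charmatrix (border c H y) 0 j = (if j = 0 then X else 0) - Polynomial.C (y j) := by
    intro y
    refine Fin.cases ?_ (fun l => ?_) j
    · simp [charmatrix_apply, border]
    · simp [charmatrix_apply, border, Fin.succ_ne_zero, Matrix.diagonal_apply, (Fin.succ_ne_zero l).symm]
  rw [e x, e 0, Pi.zero_apply, Polynomial.C_0, sub_zero]
  simp only [hm]
  generalize ((charmatrix (border c H 0)).submatrix Fin.succ j.succAbove).det = D
  rw [← coeff_C_mul, ← coeff_sub]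
  ring_nf

/-- Every monic polynomial of degree `k + 1` is reached, and by a unique row. -/
theorem border_bij {c : Fin k → K} {H : Matrix (Fin k) (Fin k) K} (hc : CycAt H c) :
    ∃ (L : (Fin (k + 1) → K) ≃ₗ[K] (Fin (k + 1) → K)) (b : Fin (k + 1) → K),
      ∀ x, coeffs (border c H x) = b + L x := by
  obtain ⟨L, hL⟩ := coeffs_border_affine c H
  have hinj : Function.Injective L := by
    intro x y hxy
    have h1 : coeffs (border c H x) = coeffs (border c H y) := by rw [hL x, hL y, hxy]
    have h2 : (border c H x).charpoly = (border c H y).charpoly := by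
      ext i
      rcases lt_or_ge i (k + 1) with hi | hi
      · exact congrFun h1 ⟨i, hi⟩
      · rcases hi.lt_or_eq with hi | hi
        · rw [coeff_eq_zero_of_natDegree_lt, coeff_eq_zero_of_natDegree_lt] <;>
            rw [charpoly_natDegree_eq_dim, Fintype.card_fin] <;> exact hi
        · subst hi
          have e := (charpoly_monic (border c H x)).coeff_natDegree
          have e' := (charpoly_monic (border c H y)).coeff_natDegree
          rw [charpoly_natDegree_eq_dim, Fintype.card_fin] at e e'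
          rw [e, e']
    obtain ⟨h0, hs⟩ := border_inj hc h2
    funext i
    exact Fin.cases h0 (fun j => congrFun hs j) i
  exact ⟨LinearEquiv.ofInjectiveEndo L hinj, coeffs (border c H 0), hL⟩

theorem eq_of_coeffs {G : Matrix (Fin (k + 1)) (Fin (k + 1)) K} {g : K[X]} (hg : g.Monic)
    (hd : g.natDegree = k + 1) (h : coeffs G = fun i => g.coeff i.val) : G.charpoly = g := by
  ext i
  rcases lt_or_ge i (k + 1) with hi | hi
  · exact congrFun h ⟨i, hi⟩
  · rcases hi.lt_or_eq with hi | hi
    · rw [coeff_eq_zero_of_natDegree_lt, coeff_eq_zero_of_natDegree_lt (by omega)]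
      rw [charpoly_natDegree_eq_dim, Fintype.card_fin]; exact hi
    · subst hi
      have e := (charpoly_monic G).coeff_natDegree
      rw [charpoly_natDegree_eq_dim, Fintype.card_fin] at e
      have e' := hg.coeff_natDegree
      rw [hd] at e'
      rw [e, e']

theorem det_of_charpoly {G : Matrix (Fin n) (Fin n) K} {g : K[X]} (h : G.charpoly = g) :
    G.det = (-1) ^ n * g.coeff 0 := by
  rw [det_eq_sign_charpoly_coeff, h, Fintype.card_fin]

end CfsgLib.LevCover
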