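import Cfsg.Agent.LevCover.Grow

/-!
From a cyclic product to split products and to arbitrary non-scalar matrices; inverses of split classes.
-/

set_option autoImplicit false
set_option linter.unusedSectionVars false
set_option linter.unusedSimpArgs false

namespace CfsgLib.LevCover

open Matrix Polynomial

variable {K : Type*} [Field K]

theorem Sim.inv {ι κ : Type*} [Fintype ι] [DecidableEq ι] [Fintype κ] [DecidableEq κ]
    {A : Matrix ι ι K} {B : Matrix κ κ K} (h : Sim A B) (hA : A.det ≠ 0) : Sim A⁻¹ B⁻¹ := by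
  obtain ⟨P, P', h1, h2, rfl⟩ := h
  refine ⟨P, P', h1, h2, Matrix.inv_eq_right_inv ?_⟩
  rw [show P * A * P' * (P * A⁻¹ * P') = P * (A * (P' * P) * A⁻¹) * P' by simp only [Matrix.mul_assoc], h2,
    Matrix.mul_one, Matrix.mul_nonsing_inv A (isUnit_iff_ne_zero.2 hA), Matrix.mul_one, h1]

theorem det_of_prod {n : ℕ} {R : Matrix (Fin n) (Fin n) K} {β : Fin n → K}
    (h : R.charpoly = ∏ i, (Polynomial.X - Polynomial.C (β i))) : R.det = ∏ i, β i := by
  have := det_of_charpoly (G := R) h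
  rw [this, coeff_zero_eq_eval_zero, eval_prod]
  simp [Finset.prod_neg, ← mul_assoc, ← mul_pow]

theorem charpoly_inv_runs {n : ℕ} {H : Matrix (Fin n) (Fin n) K} (hH : Cyc H) {β : Fin n → K} (hr : Runs β)
    (hβ : ∀ i, β i ≠ 0) (hχ : H.charpoly = ∏ i, (Polynomial.X - Polynomial.C (β i))) :
    H⁻¹.charpoly = ∏ i, (Polynomial.X - Polynomial.C (β i)⁻¹) := by
  classical
  set U : Matrix (Fin n) (Fin n) K := Matrix.of fun i j =>
    if i = j then β i else if j.val = i.val + 1 then 1 else 0 with hU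
  have hlow : ∀ i j : Fin n, j < i → U i j = 0 := fun i j h => by
    have h' : j.val < i.val := h
    simp only [hU, Matrix.of_apply]
    rw [if_neg h.ne', if_neg (by omega)]
  have hdiag : ∀ i, U i i = β i := fun i => by simp [hU]
  have hUc : Cyc U := cyc_of_isCyc (SLCommutator.isCyc_upper hlow
    (fun i j h _ => by
      have hne : i ≠ j := fun e => by rw [e] at h; omega
      simp [hU, hne, h])
    (fun i j l h1 h2 h3 => by simpa [hdiag] using hr i j l h1 h2 (by simpa [hdiag] using h3)))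
  have htri : U.BlockTriangular id := fun i j h => hlow i j h
  have hUχ : U.charpoly = ∏ i, (Polynomial.X - Polynomial.C (β i)) := by
    rw [Matrix.charpoly_of_isUpperTriangular U htri]
    exact Finset.prod_congr rfl fun i _ => by rw [hdiag]
  have hUd : U.det ≠ 0 := by
    rw [det_of_prod hUχ]
    exact Finset.prod_ne_zero_iff.2 fun i _ => hβ i
  have hsim := sim_of_cyc hUc hH (hUχ.trans hχ.symm)
  haveI := U.invertibleOfIsUnitDet (isUnit_iff_ne_zero.2 hUd)
  have htri' : U⁻¹.BlockTriangular id := blockTriangular_inv_of_blockTriangular htri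
  rw [(hsim.inv hUd).charpoly_eq, Matrix.charpoly_of_isUpperTriangular U⁻¹ htri']
  refine Finset.prod_congr rfl fun i _ => ?_
  congr 2
  have h1 : (U * U⁻¹) i i = 1 := by rw [Matrix.mul_nonsing_inv U (isUnit_iff_ne_zero.2 hUd), Matrix.one_apply_eq]
  rw [Matrix.mul_apply, Finset.sum_eq_single i] at h1
  · rw [hdiag] at h1
    exact eq_inv_of_mul_eq_one_right h1
  · intro l _ hl
    rcases lt_or_gt_of_ne hl with h | h
    · rw [hlow i l h, zero_mul]
    · rw [htri' h, mul_zero]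
  · exact fun h => absurd (Finset.mem_univ _) h

theorem Cyc.of_charpoly_eq {n : ℕ} {x : Matrix (Fin n) (Fin n) K} {j : ℕ} {R R' : Matrix (Fin n) (Fin n) K}
    (h : SimProd x j R) (hR : Cyc R) (hR' : Cyc R') (he : R.charpoly = R'.charpoly) : SimProd x j R' :=
  h.of_sim (sim_of_cyc hR hR' he)

variable [Fintype K]

theorem charpoly_inv_split {n : ℕ} {H : Matrix (Fin n) (Fin n) K} (hH : Cyc H) (hHd : H.det ≠ 0) {β : Fin n → K}
    (hχ : H.charpoly = ∏ i, (Polynomial.X - Polynomial.C (β i))) :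
    (∀ i, β i ≠ 0) ∧ H⁻¹.charpoly = ∏ i, (Polynomial.X - Polynomial.C (β i)⁻¹) := by
  have hβ : ∀ i, β i ≠ 0 := fun i =>
    Finset.prod_ne_zero_iff.1 (by rw [← det_of_prod hχ]; exact hHd) i (Finset.mem_univ i)
  refine ⟨hβ, ?_⟩
  obtain ⟨σ, hσ⟩ := exists_runs_perm β
  rw [charpoly_inv_runs hH hσ (fun i => hβ _)
    (hχ.trans (Equiv.prod_comp σ (fun i => Polynomial.X - Polynomial.C (β i))).symm)]
  exact Equiv.prod_comp σ (fun i => Polynomial.X - Polynomial.C (β i)⁻¹)

/-- A simple split polynomial has an ordering with the simple value first and contiguous runs. -/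
theorem exists_ordered {n : ℕ} {R : Matrix (Fin (n + 2)) (Fin (n + 2)) K} (h : SimplePoly R) :
    ∃ β : Fin (n + 2) → K, Runs β ∧ β 0 ≠ β 1 ∧ R.charpoly = ∏ i, (Polynomial.X - Polynomial.C (β i)) ∧
      ∀ i : Fin (n + 1), β i.succ ≠ β 0 := by
  obtain ⟨β, hβ, hs⟩ := h
  obtain ⟨σ, hσ⟩ := exists_runs_perm (fun i : Fin (n + 1) => β i.succ)
  have hne : ∀ i : Fin (n + 1), β i.succ ≠ β 0 := fun i => hs 0 i.succ rfl (by simp)
  refine ⟨Fin.cons (β 0) ((fun i : Fin (n + 1) => β i.succ) ∘ σ), runs_cons hσ fun i => hne _, ?_, ?_, ?_⟩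
  · rw [Fin.cons_zero, show (1 : Fin (n + 2)) = Fin.succ 0 from rfl, Fin.cons_succ]
    exact (hne _).symm
  · rw [hβ, Fin.prod_univ_succ]
    conv_rhs => rw [Fin.prod_univ_succ]
    simp only [Fin.cons_succ, Fin.cons_zero, Function.comp]
    congr 1
    exact (Equiv.prod_comp σ (fun i => Polynomial.X - Polynomial.C (β i.succ))).symm
  · intro i
    rw [Fin.cons_succ, Fin.cons_zero]
    exact hne _

/-- The condition on the first spectrum value in the factorisation theorem. -/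
def Good {k : ℕ} (A : Matrix (Fin (k + 2)) (Fin (k + 2)) K) (β : Fin (k + 2) → K) : Prop :=
  (β 0 ≠ β 1 ∧ ∀ t : K, A ≠ t • 1) ∨
    ∃ (m : ℕ) (hm : k + 2 = m + 3) (e : Fin (k + 2) → K), (∀ t : K, A *ᵥ e ≠ t • e) ∧
      ∀ s t : K, A *ᵥ (A *ᵥ e) ≠ s • (A *ᵥ e) + t • e

/-- One more factor gives every cyclic split class. -/
theorem next_split (h4 : 4 ≤ Fintype.card K) {k j : ℕ} {x H R : Matrix (Fin (k + 2)) (Fin (k + 2)) K}
    (hxd : x.det ≠ 0) (hH : SimProd x j H) (hHc : Cyc H) {β : Fin (k + 2) → K} (hr : Runs β)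
    (hgood : Good x β) (hRc : Cyc R) (hR : R.charpoly = ∏ i, (Polynomial.X - Polynomial.C (β i)))
    (hdet : R.det = x.det * H.det) : SimProd x (1 + j) R := by
  have hHd := hH.det_ne hxd
  have hβ0 : ∀ i, β i ≠ 0 := fun i => Finset.prod_ne_zero_iff.1
    (by rw [← det_of_prod hR, hdet]; exact mul_ne_zero hxd hHd) i (Finset.mem_univ i)
  obtain ⟨Y, e, hY, -, hp, hYc, -⟩ := exists_piece h4 hxd hHc hHd hβ0 hr (by rw [← det_of_prod hR, hdet]) hgood
  exact Cyc.of_charpoly_eq ((SimProd.one (Sim.refl x)).mul (hH.of_sim hY)) hp.cyc hRc (hYc.trans hR.symm)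

/-- A split class times a cyclic class contains every suitable matrix. -/
theorem factor_split (h4 : 4 ≤ Fintype.card K) {k i j : ℕ} {x A H R : Matrix (Fin (k + 2)) (Fin (k + 2)) K}
    (hxd : x.det ≠ 0) (hH : SimProd x i H) (hHc : Cyc H) (hR : SimProd x j R) (hRc : Cyc R)
    {β : Fin (k + 2) → K} (hr : Runs β) (hRχ : R.charpoly = ∏ l, (Polynomial.X - Polynomial.C (β l)))
    (hgood : Good A β) (hdet : A.det = R.det * H.det) : SimProd x (j + i) A := by
  have hHd := hH.det_ne hxd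
  have hRd := hR.det_ne hxd
  have hAd : A.det ≠ 0 := by rw [hdet]; exact mul_ne_zero hRd hHd
  have hβ0 : ∀ l, β l ≠ 0 := fun l => Finset.prod_ne_zero_iff.1
    (by rw [← det_of_prod hRχ]; exact hRd) l (Finset.mem_univ l)
  have hHi : H⁻¹.det = H.det⁻¹ := by rw [det_nonsing_inv, Ring.inverse_eq_inv']
  have hi0 : H⁻¹.det ≠ 0 := by rw [hHi]; exact inv_ne_zero hHd
  obtain ⟨Y, e, hY, hYd, hp, hYc, -⟩ := exists_piece h4 hAd (hHc.inv hHd) hi0 hβ0 hr
    (by rw [← det_of_prod hRχ, hHi, hdet, mul_assoc, mul_inv_cancel₀ hHd, mul_one]) hgood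
  have hY' : Sim H Y⁻¹ := by
    have := hY.inv hi0
    rwa [Matrix.nonsing_inv_nonsing_inv H (isUnit_iff_ne_zero.2 hHd)] at this
  have h := (Cyc.of_charpoly_eq hR hRc hp.cyc (hRχ.trans hYc.symm)).mul (hH.of_sim hY')
  rwa [Matrix.mul_assoc, Matrix.mul_nonsing_inv Y (isUnit_iff_ne_zero.2 hYd), Matrix.mul_one] at h

/-- A cyclic split matrix with given spectrum. -/
theorem exists_split_class {n : ℕ} {β : Fin (n + 1) → K} :
    ∃ R : Matrix (Fin (n + 1)) (Fin (n + 1)) K, Cyc R ∧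
      R.charpoly = ∏ i, (Polynomial.X - Polynomial.C (β i)) := by
  obtain ⟨G, hG, hh, -⟩ := exists_hess n (∏ i, (Polynomial.X - Polynomial.C (β i)))
    (monic_prod_of_monic _ _ fun i _ => monic_X_sub_C _)
    (by rw [natDegree_prod _ _ fun i _ => X_sub_C_ne_zero _]; simp)
  exact ⟨G, cyc_hess hh, hG⟩

/-- A product on the first summand extends by scalars. -/
theorem SimProd.blocks {ι κ μ : Type*} [Fintype ι] [DecidableEq ι] [Fintype κ] [DecidableEq κ] [Fintype μ]
    [DecidableEq μ] {A : Matrix ι ι K} {m : ℕ} {R : Matrix κ κ K} (h : SimProd A m R) (c : K) :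
    SimProd (Matrix.fromBlocks A 0 0 (c • (1 : Matrix μ μ K))) m
      (Matrix.fromBlocks R 0 0 (c ^ m • (1 : Matrix μ μ K))) := by
  obtain ⟨f, hf, rfl⟩ := h
  refine ⟨fun i => Matrix.fromBlocks (f i) 0 0 (c • 1), fun i => sim_blocks (hf i) (Sim.refl _), ?_⟩
  clear hf
  induction m with
  | zero => simp [Matrix.fromBlocks_one]
  | succ m ih =>
    rw [List.ofFn_succ, List.prod_cons, List.ofFn_succ, List.prod_cons, ← ih (fun i => f i.succ),
      Matrix.fromBlocks_multiply]
    simp [Matrix.smul_mul, Matrix.mul_smul, smul_smul, pow_succ', mul_comm c (c ^ m)]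

end CfsgLib.LevCover
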