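import Cfsg.Agent.LevCover.CaseA

/-!
No scalar summand, size four.
-/

set_option autoImplicit false
set_option linter.unusedSectionVars false
set_option linter.unusedSimpArgs false

namespace CfsgLib.LevCover

open Matrix Polynomial

variable {K : Type*} [Field K]

theorem sim_top_left {α β : Type*} [Fintype α] [DecidableEq α] [Fintype β] [DecidableEq β] {A A' : Matrix α α K}
    (h : Sim A A') (E : Matrix α β K) (B : Matrix β β K) :
    ∃ E' : Matrix α β K, Sim (Matrix.fromBlocks A E 0 B) (Matrix.fromBlocks A' E' 0 B) := by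
  obtain ⟨P, P', h1, h2, rfl⟩ := h
  refine ⟨P * E, Matrix.fromBlocks P 0 0 1, Matrix.fromBlocks P' 0 0 1, ?_, ?_, ?_⟩ <;>
    simp [Matrix.fromBlocks_multiply, h1, h2]

theorem pair_blocks {a b c d : Matrix (Fin 2) (Fin 2) K} :
    Matrix.reindex finSumFinEquiv finSumFinEquiv (Matrix.fromBlocks a 0 0 b) *
      Matrix.reindex finSumFinEquiv finSumFinEquiv (Matrix.fromBlocks c 0 0 d) =
    Matrix.reindex finSumFinEquiv finSumFinEquiv (Matrix.fromBlocks (a * c) 0 0 (b * d)) := by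
  simp only [Matrix.reindex_apply, Matrix.submatrix_mul_equiv, Matrix.fromBlocks_multiply]
  simp

variable [Fintype K]

/-- Data sufficient in size four. -/
theorem covers_four (h4 : 4 ≤ Fintype.card K) {x R : Matrix (Fin 4) (Fin 4) K} (hx1 : x.det = 1)
    (hR : Unif x 2 R) (hRc : Cyc R) (hs : SimplePoly R) (hinv : R⁻¹.charpoly = R.charpoly) : Covers x := by
  have hxd : x.det ≠ 0 := by rw [hx1]; exact one_ne_zero
  have hRd := hR.simProd.det_ne hxd
  refine ⟨fun g hg hgs => ⟨1, ?_⟩, ⟨1, ?_⟩⟩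
  · rw [one_smul]
    obtain ⟨β, hr, h01, hβ, -⟩ := exists_ordered (n := 2) hs
    exact factor_unif (k := 2) h4 hxd hR hRc hR hRc hr hβ (Or.inl ⟨h01, hgs⟩)
      (by rw [hR.simProd.det_eq, hx1, one_pow, hg, one_mul])
  · rw [one_smul]
    have h := hR.mul (hR.of_sim (sim_of_cyc hRc (hRc.inv hRd) hinv.symm))
    rwa [Matrix.mul_nonsing_inv R (isUnit_iff_ne_zero.2 hRd)] at h

/-- The spectrum data of a list of four values. -/
theorem four_spectrum {R : Matrix (Fin 4) (Fin 4) K} (hRc : Cyc R) (hRd : R.det ≠ 0) {β : Fin 4 → K}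
    (hR : R.charpoly = ∏ i, (Polynomial.X - Polynomial.C (β i))) (h1 : β 1 ≠ β 0) (h2 : β 2 ≠ β 0)
    (h3 : β 3 ≠ β 0) (hinv : ∏ i, (Polynomial.X - Polynomial.C (β i)⁻¹) = ∏ i, (Polynomial.X - Polynomial.C (β i))) :
    SimplePoly R ∧ R⁻¹.charpoly = R.charpoly := by
  refine ⟨⟨β, hR, fun i j hi hj => ?_⟩, by rw [(charpoly_inv_split hRc hRd hR).2, hinv, hR]⟩
  obtain rfl : i = 0 := Fin.ext (by simpa using hi)
  fin_cases j
  · exact absurd rfl hj
  · exact h1
  · exact h2
  · exact h3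

/-- A flexible pair over a second pair. -/
theorem covers_pairs (h4 : 4 ≤ Fintype.card K) {x : Matrix (Fin 4) (Fin 4) K} (hx1 : x.det = 1)
    {A : Matrix (Fin 2) (Fin 2) K} {E : Matrix (Fin 2) (Fin 2) K} {W : Matrix (Fin 2) (Fin 2) K}
    (hx : Sim x (Matrix.fromBlocks A E 0 W)) (hW : Cyc W) (hWd : W.det * W.det = 1) {u v : K}
    (hflex : ∀ r : K, r ≠ 0 → ∃ P : Matrix (Fin 2) (Fin 2) K, P.det = r ∧ Piece A (P * A * P⁻¹) u ∧
      (A * (P * A * P⁻¹)).charpoly = (Polynomial.X - Polynomial.C u) * (Polynomial.X - Polynomial.C v))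
    (huv : (u = v ∧ u * u = 1) ∨ u * v = 1)
    {a : K} (ha0 : a ≠ 0) (ha : a * a ≠ 1) (hau : a ≠ u) (hav : a ≠ v) (hai : a * u ≠ 1) : Covers x := by
  classical
  have hxd : x.det ≠ 0 := by rw [hx1]; exact one_ne_zero
  have hne : a⁻¹ ≠ a := fun h => ha (by nth_rw 2 [← h]; rw [mul_inv_cancel₀ ha0])
  have hWd0 : W.det ≠ 0 := fun h => by rw [h, mul_zero] at hWd; exact zero_ne_one hWd
  obtain ⟨W₁, W₂, h1, h2, hc, hχ, hv⟩ := piece_pair h4 (k := 0) hW hWd0 (β := ![a, a⁻¹]) (runs_two _)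
    (by rw [Fin.prod_univ_two, hWd]; simp [ha0]) (Or.inl ⟨by simpa using hne.symm, cyc_nonscalar le_rfl hW⟩)
  have hu' : a⁻¹ ≠ u := fun h => hai (by rw [← h, mul_inv_cancel₀ ha0])
  have hpoly : ∀ R : Matrix (Fin 4) (Fin 4) K,
      R.charpoly = (Polynomial.X - Polynomial.C u) * (Polynomial.X - Polynomial.C v) * (W₁ * W₂).charpoly →
      R.charpoly = ∏ i, (Polynomial.X - Polynomial.C ((![a, a⁻¹, u, v] : Fin 4 → K) i)) := by
    intro R hR
    rw [hR, hχ, Fin.prod_univ_two, Fin.prod_univ_four]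
    simp
    ring
  have hs : ∀ R : Matrix (Fin 4) (Fin 4) K, Cyc R →
      R.charpoly = (Polynomial.X - Polynomial.C u) * (Polynomial.X - Polynomial.C v) * (W₁ * W₂).charpoly →
      R.det ≠ 0 → SimplePoly R ∧ R⁻¹.charpoly = R.charpoly := by
    intro R hRc hR hRd
    refine four_spectrum hRc hRd (hpoly R hR) (by simpa using hne) (by simpa using Ne.symm hau)
      (by simpa using Ne.symm hav) ?_
    simp only [Fin.prod_univ_four, Matrix.cons_val, inv_inv]
    rcases huv with ⟨rfl, huu⟩ | huv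
    · rw [inv_eq_of_mul_eq_one_right huu]; ring
    · rw [inv_eq_of_mul_eq_one_right huv, inv_eq_of_mul_eq_one_left huv]; ring
  obtain ⟨R, hRc, hRχ, hRu⟩ := unif_couple h4 (show 2 + 2 = 4 from rfl) hxd hx hflex h1 h2 hc
    (hv u (Or.inr fun i => by fin_cases i <;> simp [hau, hu']))
    (fun R hR hRχ => by
      refine surj_simple hR ⟨![a, a⁻¹, u, v], hpoly R hRχ, fun i j hi hj => ?_⟩ (by norm_num)
      obtain rfl : i = 0 := Fin.ext (by simpa using hi)
      fin_cases j
      · exact absurd rfl hj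
      · simpa using hne
      · simpa using Ne.symm hau
      · simpa using Ne.symm hav)
  obtain ⟨hsimple, hinv⟩ := hs R hRc hRχ (hRu.simProd.det_ne hxd)
  exact covers_four h4 hx1 hRu hRc hsimple hinv

theorem exists_not_pm (h4 : 4 ≤ Fintype.card K) : ∃ a : K, a ≠ 0 ∧ a * a ≠ 1 := by
  obtain ⟨a, h0, -, h⟩ := exists_notMem_sq h4 1 0
  exact ⟨a, h0, by simpa using h⟩

/-- A repeated value `±1` in the top pair. -/
theorem covers_double (h4 : 4 ≤ Fintype.card K) {x : Matrix (Fin 4) (Fin 4) K} (hx1 : x.det = 1)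
    {A E W : Matrix (Fin 2) (Fin 2) K}
    (hx : Sim x (Matrix.fromBlocks A E 0 W)) (hW : Cyc W) (hWd : W.det * W.det = 1) {c : K} (hc : c * c = 1)
    (hflex : ∀ r : K, r ≠ 0 → ∃ P : Matrix (Fin 2) (Fin 2) K, P.det = r ∧ Piece A (P * A * P⁻¹) c ∧
      (A * (P * A * P⁻¹)).charpoly = (Polynomial.X - Polynomial.C c) * (Polynomial.X - Polynomial.C c)) :
    Covers x := by
  obtain ⟨a, ha0, ha⟩ := exists_not_pm h4
  have hac : a ≠ c := fun h => ha (by rw [h, hc])
  refine covers_pairs h4 hx1 hx hW hWd hflex (Or.inl ⟨rfl, hc⟩) ha0 ha hac hac fun h => hac ?_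
  calc a = a * (c * c) := by rw [hc, mul_one]
    _ = a * c * c := by ring
    _ = c := by rw [h, one_mul]

theorem six_le_card (h4 : 4 ≤ Fintype.card K) (h2 : (2 : K) ≠ 0) {N : K} (hN : N * N = 1)
    (hns : ∀ r : K, r * r ≠ -N) : 6 ≤ Fintype.card K := by
  have hodd : Fintype.card K % 2 = 1 := by
    refine FiniteField.odd_card_of_char_ne_two fun h => h2 ?_
    have := ringChar.Nat.cast_ringChar (R := K)
    rw [h] at this
    exact_mod_cast this
  by_contra hlt
  have h5 : Fintype.card K = 5 := by omega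
  rcases mul_self_eq_one_iff.1 hN with rfl | rfl
  · obtain ⟨r, hr⟩ := FiniteField.isSquare_neg_one_iff.2 (show Fintype.card K % 4 ≠ 3 by omega)
    exact hns r hr.symm
  · exact hns 1 (by ring)

/-- Two quadratic pieces with one polynomial, except in the field of four elements. -/
theorem covers_two (h4 : 4 ≤ Fintype.card K) {x : Matrix (Fin 4) (Fin 4) K} (hx1 : x.det = 1)
    {A E W : Matrix (Fin 2) (Fin 2) K}
    (hx : Sim x (Matrix.fromBlocks A E 0 W)) (hA : Cyc A) (hW : Cyc W) (he : W.charpoly = A.charpoly)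
    (hdet : A.det * A.det = 1)
    (hn4 : (2 : K) = 0 → Irreducible A.charpoly → 4 < Fintype.card K) : Covers x := by
  classical
  set N := A.det with hNdef
  have hN0 : N ≠ 0 := fun h => by rw [h, mul_zero] at hdet; exact zero_ne_one hdet
  have hWd : W.det * W.det = 1 := by
    rw [det_two_of_charpoly, he, ← det_two_of_charpoly]; exact hdet
  have hd2 : A.charpoly.natDegree = 2 := by rw [charpoly_natDegree_eq_dim, Fintype.card_fin]
  by_cases hroot : ∃ r, A.charpoly.IsRoot r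
  · obtain ⟨r₁, hr⟩ := hroot
    set h := A.charpoly /ₘ (Polynomial.X - Polynomial.C r₁)
    have hfac : (Polynomial.X - Polynomial.C r₁) * h = A.charpoly := mul_divByMonic_eq_iff_isRoot.2 hr
    have hhm : h.Monic := Monic.of_mul_monic_left (monic_X_sub_C r₁) (by rw [hfac]; exact charpoly_monic A)
    have hh1 : h.natDegree = 1 := by
      rw [← hfac, (monic_X_sub_C r₁).natDegree_mul hhm, natDegree_X_sub_C] at hd2; omega
    obtain ⟨r₂, hr2⟩ : ∃ r₂, h = Polynomial.X - Polynomial.C r₂ :=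
      ⟨-h.coeff 0, by rw [map_neg, sub_neg_eq_add, ← hhm.eq_X_add_C hh1]⟩
    have hdet' : r₁ * r₂ = N := by
      rw [hNdef, det_of_prod (β := ![r₁, r₂]) (by rw [← hfac, hr2, Fin.prod_univ_two]; simp), Fin.prod_univ_two]
      simp
    have hr10 : r₁ ≠ 0 := fun h0 => hN0 (by rw [← hdet', h0, zero_mul])
    by_cases heq : r₁ = r₂
    · obtain ⟨hJ, hJχ⟩ := jordan_two r₁
      obtain ⟨E', hE'⟩ := sim_top_left (sim_of_cyc hA hJ (by rw [← hfac, hr2, ← heq, hJχ])) E W
      exact covers_double h4 hx1 (hx.trans hE') hW hWd (by rw [show r₁ * r₁ = N by rw [← hdet', ← heq]]; exact hdet)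
        (flex_jordan h4 hr10)
    · obtain ⟨hs, hp, hχ⟩ := piece_diag hr10 heq
      have hD : Cyc (Matrix.diagonal ![r₁, r₂]) := by
        refine ⟨![1, 1], cycV_of_krylov ?_⟩
        simp [SLCommutator.krylov, det_fin_two, Matrix.mulVec_diagonal, sub_eq_zero, Ne.symm heq]
      have hDχ : (Matrix.diagonal ![r₁, r₂]).charpoly = A.charpoly := by
        rw [← hfac, hr2, charpoly_diagonal, Fin.prod_univ_two]; simp
      obtain ⟨E', hE'⟩ := sim_top_left (sim_of_cyc hA hD hDχ.symm) E W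
      refine covers_double h4 hx1 (hx.trans hE') hW hWd (c := r₁ * r₂) (by rw [hdet']; exact hdet) fun r hr => ?_
      obtain ⟨P, h1, h2, h3⟩ := flex_of_surj (surj_simple_factor h4 hD (monic_X_sub_C r₁) (monic_X_sub_C r₂)
        (irreducible_X_sub_C r₂) (by rw [charpoly_diagonal, Fin.prod_univ_two]; simp) (fun hdvd => heq (by
          rw [dvd_iff_isRoot, root_X_sub_C] at hdvd; exact hdvd))) hs hp r hr
      exact ⟨P, h1, h2, h3.trans hχ⟩
  have hirr : Irreducible A.charpoly := by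
    refine ((charpoly_monic A).irreducible_iff_roots_eq_zero_of_degree_le_three (by omega) (by omega)).2 ?_
    exact Multiset.eq_zero_of_forall_notMem fun θ hθ =>
      hroot ⟨θ, (mem_roots (charpoly_monic A).ne_zero).1 hθ⟩
  have hAs : Surj A := cyc_of_irreducible_factor h4 hA hirr
  obtain ⟨s, hsdef⟩ : ∃ s, s = A.trace := ⟨_, rfl⟩
  have hAχ : A.charpoly = Polynomial.X ^ 2 - Polynomial.C s * Polynomial.X + Polynomial.C N := by
    rw [Matrix.charpoly_fin_two, hsdef, hNdef]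
  by_cases hsN : s ≠ 0 ∧ (2 : K) ≠ 0
  · obtain ⟨hs, hp, hχ⟩ := piece_double hN0 hsN.1 hsN.2
    set C : Matrix (Fin 2) (Fin 2) K := !![0, -N; 1, s]
    have hAC : Sim A C := sim_of_cyc hA sim_fin_two.2 (by
      rw [hAχ, Matrix.charpoly_fin_two]; simp [C, trace_fin_two, det_fin_two])
    obtain ⟨E', hE'⟩ := sim_top_left hAC E W
    refine covers_double h4 hx1 (hx.trans hE') hW hWd (c := -N) (by rw [neg_mul_neg]; exact hdet) fun r hr => ?_
    obtain ⟨P, h1, h2, h3⟩ := flex_of_surj (Surj.of_sim hAC hAs (Equiv.refl _)) hs hp r hr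
    exact ⟨P, h1, h2, h3.trans hχ⟩
  -- two distinct pairs
  obtain ⟨b, a, hb0, hb, ha0, ha, hab, haib⟩ :
      ∃ b a : K, b ≠ 0 ∧ b * b ≠ 1 ∧ a ≠ 0 ∧ a * a ≠ 1 ∧ a ≠ b ∧ a * b ≠ 1 := by
    obtain ⟨b, hb0, hb⟩ := exists_not_pm h4
    have hS : ({0, 1, -1, b, b⁻¹} : Finset K).card < Fintype.card K := by
      by_cases h2 : (2 : K) = 0
      · have h := hn4 h2 hirr
        have hneg : (-1 : K) = 1 := by linear_combination -h2
        rw [hneg, show ({0, 1, 1, b, b⁻¹} : Finset K) = {0, 1, b, b⁻¹} by ext z; simp]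
        refine lt_of_le_of_lt Finset.card_le_four h
      · have h6 := six_le_card h4 h2 hdet fun r hr => hroot ⟨r, by
          have hs0 : s = 0 := by_contra fun h => hsN ⟨h, h2⟩
          rw [Polynomial.IsRoot, hAχ, hs0]
          simp
          linear_combination hr⟩
        refine lt_of_le_of_lt Finset.card_le_five (by omega)
    obtain ⟨a, ha⟩ := exists_notMem _ hS
    simp only [Finset.mem_insert, Finset.mem_singleton, not_or] at ha
    refine ⟨b, a, hb0, hb, ha.1, fun h => ?_, ha.2.2.2.1, fun h => ha.2.2.2.2 (eq_inv_of_mul_eq_one_left h)⟩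
    rcases mul_self_eq_one_iff.1 h with h' | h'
    · exact ha.2.1 h'
    · exact ha.2.2.1 h'
  have hgood : Good A ![b, b⁻¹] := Or.inl ⟨by
    simp only [Matrix.cons_val_zero, Matrix.cons_val_one]
    exact fun h => hb (by nth_rw 2 [h]; rw [mul_inv_cancel₀ hb0]), cyc_nonscalar le_rfl hA⟩
  obtain ⟨Y, -, hY, -, hpc, hYc, -⟩ := exists_piece h4 (k := 0) (β := ![b, b⁻¹]) hN0 hA hN0
    (fun i => by fin_cases i <;> simp [hb0]) (runs_two _) (by rw [Fin.prod_univ_two, hdet]; simp [hb0]) hgood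
  have hab' : a ≠ b⁻¹ := fun h => haib (by rw [h, inv_mul_cancel₀ hb0])
  refine covers_pairs h4 hx1 hx hW hWd (u := b) (v := b⁻¹) (fun r hr => ?_)
    (Or.inr (mul_inv_cancel₀ hb0)) ha0 ha hab hab' haib
  obtain ⟨P, h1, h2, h3⟩ := flex_of_surj hAs hY hpc r hr
  exact ⟨P, h1, h2, h3.trans (by rw [hYc, Fin.prod_univ_two]; simp)⟩

/-- A root of a cyclic matrix of size four. -/
theorem covers_root (h4 : 4 ≤ Fintype.card K) {x : Matrix (Fin 4) (Fin 4) K} (hx1 : x.det = 1)
    {X : Matrix (Fin 4) (Fin 4) K} (hX : Cyc X) (hs : Sim X x) {ρ : K} (hρ : X.charpoly.IsRoot ρ) : Covers x := by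
  classical
  have hxd : x.det ≠ 0 := by rw [hx1]; exact one_ne_zero
  set h := X.charpoly /ₘ (Polynomial.X - Polynomial.C ρ)
  have hfac : (Polynomial.X - Polynomial.C ρ) * h = X.charpoly := mul_divByMonic_eq_iff_isRoot.2 hρ
  have hhm : h.Monic := Monic.of_mul_monic_left (monic_X_sub_C ρ) (by rw [hfac]; exact charpoly_monic X)
  have hhd : h.natDegree = 3 := by
    have h' := charpoly_natDegree_eq_dim X
    rw [← hfac, (monic_X_sub_C ρ).natDegree_mul hhm, natDegree_X_sub_C, Fintype.card_fin] at h'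
    omega
  obtain ⟨X', H', E, -, hH', hX'χ, -, hXs⟩ := exists_quotient (s := 0) (t := 2) hX (monic_X_sub_C ρ) hhm
    (natDegree_X_sub_C ρ) hhd hfac.symm
  rw [one_by_one_eq hX'χ] at hXs
  have hx : Sim x (Matrix.fromBlocks (ρ • (1 : Matrix (Fin 1) (Fin 1) K)) E 0 H') := hs.symm.trans hXs
  have hdet : ρ * H'.det = 1 := by
    have h := hx.det_of_equiv (finSumFinEquiv : Fin 1 ⊕ Fin 3 ≃ Fin 4)
    rw [det_fromBlocks_zero₂₁, det_smul, det_one, hx1] at h
    simpa using h
  have hρ0 : ρ ≠ 0 := left_ne_zero_of_mul_eq_one hdet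
  have hH'd : H'.det ≠ 0 := right_ne_zero_of_mul_eq_one hdet
  obtain ⟨b, hbdef⟩ : ∃ b, b = ρ * ρ := ⟨_, rfl⟩
  have hb0 : b ≠ 0 := hbdef ▸ mul_ne_zero hρ0 hρ0
  have hHH : H'.det * H'.det = b⁻¹ := by
    refine (inv_eq_of_mul_eq_one_right ?_).symm
    rw [hbdef]; linear_combination (ρ * H'.det + 1) * hdet
  obtain ⟨γ, β, hr, hp, hb, hlist, h1, h2, h3, hinv⟩ : ∃ (γ : Fin 3 → K) (β : Fin 4 → K), Runs γ ∧
      ∏ i, γ i = b⁻¹ ∧ (b = γ 0 ∨ ∀ i, γ i ≠ b) ∧
      (Polynomial.X - Polynomial.C b) * ∏ i, (Polynomial.X - Polynomial.C (γ i)) =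
        ∏ i, (Polynomial.X - Polynomial.C (β i)) ∧
      β 1 ≠ β 0 ∧ β 2 ≠ β 0 ∧ β 3 ≠ β 0 ∧
      ∏ i, (Polynomial.X - Polynomial.C (β i)⁻¹) = ∏ i, (Polynomial.X - Polynomial.C (β i)) := by
    by_cases hbb : b * b = 1
    · obtain ⟨a, ha0, ha⟩ := exists_not_pm h4
      have hbi : b⁻¹ = b := inv_eq_of_mul_eq_one_right hbb
      have hne : a⁻¹ ≠ a := fun h => ha (by nth_rw 2 [← h]; rw [mul_inv_cancel₀ ha0])
      have hba : b ≠ a := fun h => ha (by rw [← h, hbb])
      have hbi' : b ≠ a⁻¹ := fun h => ha (by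
        rw [h, ← mul_inv, inv_eq_one] at hbb; exact hbb)
      refine ⟨![b, a, a⁻¹], ![a, a⁻¹, b, b], runs_three fun h => absurd h hbi', ?_, Or.inl rfl, ?_,
        by simpa using hne, by simpa using hba, by simpa using hba, ?_⟩
      · rw [Fin.prod_univ_three, hbi]; simp [ha0]
      · simp [Fin.prod_univ_three, Fin.prod_univ_four]; ring
      · simp only [Fin.prod_univ_four, Matrix.cons_val, inv_inv, hbi]; ring
    · have hb1 : b ≠ 1 := fun h => hbb (by rw [h, one_mul])
      have hne : b⁻¹ ≠ b := fun h => hbb (by nth_rw 2 [← h]; rw [mul_inv_cancel₀ hb0])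
      refine ⟨![1, 1, b⁻¹], ![b, b⁻¹, 1, 1], runs_three fun _ => rfl, ?_, Or.inr fun i => ?_, ?_,
        by simpa using hne, by simpa using Ne.symm hb1, by simpa using Ne.symm hb1, ?_⟩
      · simp [Fin.prod_univ_three]
      · fin_cases i <;> simp [Ne.symm hb1, hne]
      · simp [Fin.prod_univ_three, Fin.prod_univ_four]; ring
      · simp only [Fin.prod_univ_four, Matrix.cons_val, inv_inv, inv_one]; ring
  obtain ⟨W₁, W₂, w1, w2, wc, wχ, wv⟩ := piece_pair h4 (k := 1) hH' hH'd hr (by rw [hp, hHH]) (good_cyc hH' le_rfl γ)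
  have hsimple : ∀ R : Matrix (Fin 4) (Fin 4) K,
      R.charpoly = (Polynomial.X - Polynomial.C b) * (W₁ * W₂).charpoly → SimplePoly R := by
    intro R hR
    refine ⟨β, by rw [hR, wχ, hlist], fun i j hi hj => ?_⟩
    obtain rfl : i = 0 := Fin.ext (by simpa using hi)
    fin_cases j
    · exact absurd rfl hj
    · exact h1
    · exact h2
    · exact h3
  obtain ⟨R, hRc, hRχ, hRu⟩ := unif_couple h4 (show 1 + 3 = 4 from rfl) hxd hx
    (χ := Polynomial.X - Polynomial.C b) (b := b) (fun r hr => by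
      obtain ⟨P, p1, p2, p3⟩ := flex_of_surj (surj_one_by_one ρ) (Sim.refl _) (piece_one ρ) r hr
      refine ⟨P, p1, hbdef ▸ p2, p3.trans ?_⟩
      rw [smul_mul_smul_comm, Matrix.one_mul, Matrix.smul_one_eq_diagonal, charpoly_diagonal, Fin.prod_univ_one,
        hbdef]) w1 w2 wc (wv b hb) (fun R hR hRχ => surj_simple hR (hsimple R hRχ) (by norm_num))
  obtain ⟨hs1, hs2⟩ := four_spectrum hRc (hRu.simProd.det_ne hxd) (by rw [hRχ, wχ, hlist]) h1 h2 h3 hinv
  exact covers_four h4 hx1 hRu hRc hs1 hs2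

/-- A product of two Jordan blocks. -/
theorem jordan_prod (h4 : 4 ≤ Fintype.card K) {a b : K} (ha : a ≠ 0) (hb : b ≠ 0) {C : Matrix (Fin 2) (Fin 2) K}
    (hC : (∀ t : K, C ≠ t • 1) ∧ C.det = a * a * (b * b) ∧ Cyc C ∨ C = (a * b) • 1) :
    ∃ A B : Matrix (Fin 2) (Fin 2) K, Sim (!![a, 1; 0, a]) A ∧ Sim (!![b, 1; 0, b]) B ∧ C = A * B := by
  classical
  have upper : ∀ c z : K, z ≠ 0 → Sim (!![c, 1; 0, c]) (!![c, z; 0, c]) := by
    intro c z hz
    refine sim_of_cyc (jordan_two c).1 ⟨![0, 1], cycV_of_krylov ?_⟩ ?_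
    · simp [SLCommutator.krylov, det_fin_two, Matrix.mulVec, dotProduct, hz]
    · rw [Matrix.charpoly_fin_two, Matrix.charpoly_fin_two]; simp [trace_fin_two, det_fin_two]
  rcases hC with ⟨-, hdet, hc⟩ | rfl
  · obtain ⟨B, G, hB, hG, hGc, hGt⟩ : ∃ B G : Matrix (Fin 2) (Fin 2) K, Sim (!![b, 1; 0, b]) B ∧
        G = !![a, 1; 0, a] * B ∧ Cyc G ∧ G.trace = C.trace := by
      by_cases hs : C.trace - (a * b + a * b) = 0
      · obtain ⟨z, hz⟩ := exists_notMem ({0, -b / a} : Finset K) (by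
          refine lt_of_le_of_lt (Finset.card_insert_le _ _) ?_; rw [Finset.card_singleton]; omega)
        simp only [Finset.mem_insert, Finset.mem_singleton, not_or] at hz
        refine ⟨!![b, z; 0, b], _, upper b z hz.1, rfl, ⟨![0, 1], cycV_of_krylov ?_⟩, ?_⟩
        · simp [SLCommutator.krylov, det_fin_two, Matrix.mulVec, dotProduct, Matrix.mul_apply, Fin.sum_univ_two]
          exact fun h => hz.2 (by field_simp; linear_combination -h)
        · simp [trace_fin_two, Matrix.mul_apply, Fin.sum_univ_two]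
          rw [trace_fin_two] at hs
          linear_combination -hs
      · refine ⟨!![b, 0; C.trace - (a * b + a * b), b], _, ?_, rfl, ⟨![0, 1], cycV_of_krylov ?_⟩, ?_⟩
        · refine sim_of_cyc (jordan_two b).1 ⟨![1, 0], cycV_of_krylov ?_⟩ ?_
          · simp [SLCommutator.krylov, det_fin_two, Matrix.mulVec, dotProduct, hs]
          · rw [Matrix.charpoly_fin_two, Matrix.charpoly_fin_two]; simp [trace_fin_two, det_fin_two]
        · simp [SLCommutator.krylov, det_fin_two, Matrix.mulVec, dotProduct, Matrix.mul_apply, Fin.sum_univ_two, hb]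
        · simp [trace_fin_two, Matrix.mul_apply, Fin.sum_univ_two]; ring
    have hBd : B.det = b * b := by rw [hB.det_eq]; simp [det_fin_two]
    obtain ⟨P, P', p1, p2, hP⟩ := sim_of_cyc hGc hc (by
      rw [Matrix.charpoly_fin_two, Matrix.charpoly_fin_two, hGt, hdet, hG, det_mul, hBd]
      simp [det_fin_two])
    refine ⟨P * !![a, 1; 0, a] * P', P * B * P', ⟨P, P', p1, p2, rfl⟩, hB.trans ⟨P, P', p1, p2, rfl⟩, ?_⟩
    rw [hP, hG, show P * !![a, 1; 0, a] * P' * (P * B * P') = P * (!![a, 1; 0, a] * (P' * P) * B) * P' by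
      simp only [Matrix.mul_assoc], p2, Matrix.mul_one]
  · refine ⟨!![a, 1; 0, a], !![b, -b / a; 0, b], Sim.refl _, upper b _ (div_ne_zero (neg_ne_zero.2 hb) ha), ?_⟩
    ext i j
    fin_cases i <;> fin_cases j <;> simp [Matrix.mul_apply, Fin.sum_univ_two]
    field_simp
    ring

/-- The field with four elements, two equal irreducible quadratic blocks. -/
theorem covers_four_elements (hq : Fintype.card K = 4) {x : Matrix (Fin 4) (Fin 4) K} (hx1 : x.det = 1)
    {X X'' : Matrix (Fin 2) (Fin 2) K} (hX : Cyc X) (hX'' : Cyc X'') (he : X''.charpoly = X.charpoly)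
    (hsim : Sim (Matrix.fromBlocks X 0 0 X'') x) : Covers x := by
  classical
  have h4 : 4 ≤ Fintype.card K := hq.ge
  have hxd : x.det ≠ 0 := by rw [hx1]; exact one_ne_zero
  have h2 : (2 : K) = 0 := by
    have h0 : ((Fintype.card K : ℕ) : K) = 0 := FiniteField.cast_card_eq_zero K
    rw [hq] at h0
    push_cast at h0
    exact mul_self_eq_zero.1 (show (2 : K) * 2 = 0 by linear_combination h0)
  have hcube : ∀ z : K, z ≠ 0 → z * z * z = 1 := fun z hz => by
    have h := FiniteField.pow_card_sub_one_eq_one z hz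
    rw [hq] at h
    rw [← h]; ring
  have hsq1 : ∀ z : K, z * z = 1 → z = 1 := fun z hz => by
    have h := hcube z (fun h => by rw [h, mul_zero] at hz; exact zero_ne_one hz)
    rwa [hz, one_mul] at h
  have hne : ∀ z : K, z ≠ 0 → z ≠ 1 → z * z ≠ z ∧ z * z ≠ 1 := fun z h0 h1 =>
    ⟨fun h => h1 (mul_left_cancel₀ h0 (by rw [h, mul_one])), fun h => h1 (hsq1 z h)⟩
  have hSx : Surj x := surj_char_two h2 x (j := 2) rfl
  have hXd1 : X.det = 1 := by
    refine hsq1 _ ?_
    have h := hsim.symm.det_of_equiv (finSumFinEquiv : Fin 2 ⊕ Fin 2 ≃ Fin 4)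
    rw [det_fromBlocks_zero₂₁, det_two_of_charpoly (X := X''), he, ← det_two_of_charpoly, hx1] at h
    exact h
  set J : K → Matrix (Fin 2) (Fin 2) K := fun z => !![z, 1; 0, z]
  set Rw : K → Matrix (Fin 4) (Fin 4) K := fun z =>
    Matrix.reindex finSumFinEquiv finSumFinEquiv (Matrix.fromBlocks (J z) 0 0 (J (z * z))) with hRw
  have hRwfacts : ∀ w : K, w ≠ 0 → w ≠ 1 → Cyc (Rw w) ∧
      (Rw w).charpoly = ∏ i, (Polynomial.X - Polynomial.C ((![w, w, w * w, w * w] : Fin 4 → K) i)) ∧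
      SimProd x 2 (Rw w) := by
    intro w hw0 hw1
    have hww := hne w hw0 hw1
    have hUeq : Rw w = !![w, 1, 0, 0; 0, w, 0, 0; 0, 0, w * w, 1; 0, 0, 0, w * w] := by
      ext i j
      fin_cases i <;> fin_cases j <;> simp [hRw, J, finSumFinEquiv, Fin.addCases, Fin.castLT, Fin.subNat]
    have hc : Cyc (Rw w) := by
      rw [hUeq]
      refine cyc_of_isCyc (SLCommutator.isCyc_upper (fun i j h => ?_) (fun i j h he => ?_) fun i j l h1 h2 he => ?_)
      · fin_cases i <;> fin_cases j <;> simp at h ⊢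
      · fin_cases i <;> fin_cases j <;> simp [hww.1, Ne.symm hww.1] at h he ⊢
      · fin_cases i <;> fin_cases j <;> fin_cases l <;> simp [hww.1, Ne.symm hww.1] at h1 h2 he ⊢
    have hχ : (Rw w).charpoly = ∏ i, (Polynomial.X - Polynomial.C ((![w, w, w * w, w * w] : Fin 4 → K) i)) := by
      rw [hRw, Matrix.charpoly_reindex, Matrix.charpoly_fromBlocks_zero₂₁, (jordan_two w).2, (jordan_two (w * w)).2,
        Fin.prod_univ_four]
      simp
      ring
    refine ⟨hc, hχ, ?_⟩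
    have hw2 : w * (w * w) = 1 := by rw [← mul_assoc]; exact hcube w hw0
    obtain ⟨Y, -, hY, -, hpc, hYc, -⟩ := exists_piece h4 (k := 0) (A := X) (H₀ := X) (β := ![w, w * w])
      (by rw [hXd1]; exact one_ne_zero) hX (by rw [hXd1]; exact one_ne_zero)
      (fun i => by fin_cases i <;> simp [hw0]) (runs_two _) (by rw [Fin.prod_univ_two, hXd1]; simpa using hw2)
      (Or.inl ⟨by simpa using Ne.symm hww.1, cyc_nonscalar le_rfl hX⟩)
    have hX''d : X''.det = 1 := by rw [det_two_of_charpoly, he, ← det_two_of_charpoly, hXd1]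
    obtain ⟨W₁, W₂, w1, w2, wc, wχ, wv⟩ := piece_pair h4 (k := 0) hX'' (by rw [hX''d]; exact one_ne_zero)
      (β := ![w, w * w]) (runs_two _) (by rw [Fin.prod_univ_two, hX''d]; simpa using hw2)
      (Or.inl ⟨by simpa using Ne.symm hww.1, cyc_nonscalar le_rfl hX''⟩)
    obtain ⟨G₁, G₂, g1, g2, gc, gχ, -⟩ := stack_step h4 (show 2 + 2 = 4 from rfl) hsim hY hpc
      (by rw [hXd1]; exact one_ne_zero) (by rw [hX''d]; exact one_ne_zero) w1 w2 wc (wv _ (Or.inl rfl))
    refine ((SimProd.one g1).mul (SimProd.one g2)).of_sim (sim_of_cyc gc hc ?_)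
    rw [gχ, hYc, wχ, hχ, Fin.prod_univ_two, Fin.prod_univ_four]
    simp
    ring
  have prod_pairs : ∀ {w : K} {G₁ G₂ : Matrix (Fin 2) (Fin 2) K} {R' : Matrix (Fin 4) (Fin 4) K} {u v : K},
      SimProd x 2 (Rw w) → SimProd x 2 R' →
      Sim R' (Matrix.fromBlocks (J u) 0 0 (J v)) →
      (∃ A B, Sim (J w) A ∧ Sim (J u) B ∧ G₁ = A * B) → (∃ A B, Sim (J (w * w)) A ∧ Sim (J v) B ∧ G₂ = A * B) →
      SimProd x 4 (Matrix.reindex finSumFinEquiv finSumFinEquiv (Matrix.fromBlocks G₁ 0 0 G₂)) := by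
    rintro w G₁ G₂ R' u v h1 h2 hR' ⟨A, B, hA, hB, rfl⟩ ⟨A', B', hA', hB', rfl⟩
    have e1 := h1.of_sim ((sim_reindex _ _).symm.trans ((sim_blocks hA hA').trans (sim_reindex finSumFinEquiv _)))
    have e2 := h2.of_sim (hR'.trans ((sim_blocks hB hB').trans (sim_reindex finSumFinEquiv _)))
    have h := e1.mul e2
    rw [pair_blocks] at h
    exact h
  obtain ⟨w, hw⟩ := exists_notMem ({0, 1} : Finset K) (by
    refine lt_of_le_of_lt (Finset.card_insert_le _ _) ?_; rw [Finset.card_singleton]; omega)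
  simp only [Finset.mem_insert, Finset.mem_singleton, not_or] at hw
  obtain ⟨hRc, hRχ, hR⟩ := hRwfacts w hw.1 hw.2
  have hRd := hR.det_ne hxd
  have hwinv : w⁻¹ = w * w := inv_eq_of_mul_eq_one_right (by rw [← mul_assoc]; exact hcube w hw.1)
  refine covers_of_simProd hSx (fun g hg hgs => ?_) ⟨1, ?_⟩
  · have hgood : (∀ β : Fin 4 → K, Good g β) → SimProd x 4 g := fun hgood =>
      factor_split (k := 2) h4 hxd hR hRc hR hRc (β := ![w, w, w * w, w * w]) (by
          intro i j l h1 h2 he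
          fin_cases i <;> fin_cases j <;> fin_cases l <;>
            simp [(hne w hw.1 hw.2).1, Ne.symm (hne w hw.1 hw.2).1] at h1 h2 he ⊢)
        hRχ (hgood _) (by rw [hR.det_eq, hx1, one_pow, hg, one_mul])
    obtain ⟨d, m, a, G₁, Z, σ, f, hd, hn, hσ, hG₁, hgsim, -, hf, hst⟩ :=
      exists_stack 4 g (by rw [hg]; exact one_ne_zero) hgs
    rcases Nat.lt_or_ge d 3 with hd3 | hd3
    swap
    · exact hgood fun β => good_of_top (k := 2) hd3 hn hG₁ hgsim β
    obtain rfl : d = 2 := by omega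
    obtain rfl : m = 2 := by omega
    have hGd : G₁.det * Z.det = 1 := by
      have h := hgsim.symm.det_of_equiv (finSumFinEquiv : Fin 2 ⊕ Fin 2 ≃ Fin 4)
      rw [det_fromBlocks_zero₂₁, hg] at h
      exact h
    have hg' : Sim (Matrix.reindex finSumFinEquiv finSumFinEquiv (Matrix.fromBlocks G₁ 0 0 Z)) g :=
      (sim_reindex _ _).symm.trans hgsim
    refine SimProd.of_sim ?_ hg'
    have hG₁ns := cyc_nonscalar le_rfl hG₁
    have generic : ∀ (G₂ : Matrix (Fin 2) (Fin 2) K), G₁.det = 1 →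
        ((∀ t : K, G₂ ≠ t • 1) ∧ G₂.det = w * w * (w * w) * (w * w) ∧ Cyc G₂ ∨ G₂ = (w * w * w) • 1) →
        SimProd x 4 (Matrix.reindex finSumFinEquiv finSumFinEquiv (Matrix.fromBlocks G₁ 0 0 G₂)) := by
      intro G₂ h1 h2
      refine prod_pairs hR hR (u := w * w) (v := w) ((sim_reindex _ _).symm.trans (sim_comm _ _))
        (jordan_prod h4 hw.1 (mul_ne_zero hw.1 hw.1) (Or.inl ⟨hG₁ns, ?_, hG₁⟩))
        (jordan_prod h4 (mul_ne_zero hw.1 hw.1) hw.1 ?_)
      · rw [h1]; linear_combination -(w * w * w + 1) * hcube w hw.1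
      · rcases h2 with ⟨a1, a2, a3⟩ | a2
        · exact Or.inl ⟨a1, by rw [a2], a3⟩
        · exact Or.inr (by rw [a2])
    have hGG : ∀ t : K, t * t = 1 → t = w * w * (w * w) * (w * w) := fun t ht => by
      rw [hsq1 t ht]; linear_combination -(w * w * w + 1) * hcube w hw.1
    cases hst with
    | base =>
      rw [det_smul, det_one, mul_one, Fintype.card_fin] at hGd
      by_cases hσ1 : σ = 1
      · subst hσ1
        refine generic _ (by simpa using hGd) (Or.inr ?_)
        rw [hcube w hw.1]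
      · obtain ⟨-, -, hRσ⟩ := hRwfacts σ hσ hσ1
        refine prod_pairs hRσ hRσ (u := σ) (v := σ * σ) (sim_reindex _ _).symm
          (jordan_prod h4 hσ hσ (Or.inl ⟨hG₁ns, ?_, hG₁⟩))
          (jordan_prod h4 (mul_ne_zero hσ hσ) (mul_ne_zero hσ hσ) (Or.inr ?_))
        · linear_combination (-G₁.det - σ) * (hcube σ hσ) + σ * hGd
        · rw [show σ * σ * (σ * σ) = σ by linear_combination σ * hcube σ hσ]
    | @cons d' m' _ X₁ Z₁ g₁ hd' hn' hX₁ hP₁ hZ₁ hs₁ =>
      obtain rfl : d' = 2 := by omega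
      have hZc : Cyc Z := by
        obtain rfl : m' = 0 := by omega
        exact ((sim_empty X₁ Z₁).symm.trans hs₁).cyc hX₁
      have hm0 : m' = 0 := by omega
      subst hm0
      have hZX : Sim X₁ Z := (sim_empty X₁ Z₁).symm.trans hs₁
      have hfd : X₁.charpoly = G₁.charpoly := by
        rw [hP₁.2.2 (by rw [charpoly_natDegree_eq_dim, Fintype.card_fin]),
          hf (by rw [charpoly_natDegree_eq_dim, Fintype.card_fin])]
      have hdd : Z.det = G₁.det := by rw [hZX.det_eq, det_two_of_charpoly, hfd, ← det_two_of_charpoly]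
      rw [hdd] at hGd
      refine generic _ (hsq1 _ hGd) (Or.inl ⟨cyc_nonscalar le_rfl hZc, ?_, hZc⟩)
      rw [hdd]; exact hGG _ hGd
  · rw [one_smul]
    obtain ⟨-, hinv⟩ := charpoly_inv_split hRc hRd hRχ
    have hw2 : (w * w)⁻¹ = w := inv_eq_of_mul_eq_one_right (hcube w hw.1)
    have he' : (Rw w).charpoly = (Rw w)⁻¹.charpoly := by
      rw [hinv, hRχ, Fin.prod_univ_four, Fin.prod_univ_four]
      simp only [Matrix.cons_val, hw2, hwinv]
      ring
    have h := hR.mul (hR.of_sim (sim_of_cyc hRc (hRc.inv hRd) he'))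
    rwa [Matrix.mul_nonsing_inv _ (isUnit_iff_ne_zero.2 hRd)] at h

/-- Case A, size four. -/
theorem caseA_four (h4 : 4 ≤ Fintype.card K) {d m₀ : ℕ} {x : Matrix (Fin 4) (Fin 4) K}
    (hx1 : x.det = 1) {lam : K} {f₂ : K[X]} {X : Matrix (Fin d) (Fin d) K} {Z : Matrix (Fin m₀) (Fin m₀) K}
    (hd : 2 ≤ d) (hn : d + m₀ = 4) (hX : Cyc X) (hsim : Sim (Matrix.fromBlocks X 0 0 Z) x)
    (hf₂ : X.charpoly.natDegree = 2 → X.charpoly = f₂)
    (hst : Stack (fun f => f ∣ X.charpoly ∧ (f.natDegree = 2 → f = f₂))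
      (lam • (1 : Matrix (Fin 0) (Fin 0) K)) Z) : Covers x := by
  classical
  have hxd : x.det ≠ 0 := by rw [hx1]; exact one_ne_zero
  cases hst with
  | base =>
    obtain rfl : d = 4 := by omega
    have hXx : Sim X x := (sim_empty X _).symm.trans hsim
    have hxc : Cyc x := hXx.cyc hX
    by_cases hSx : Surj x
    · have hgood : ∀ β : Fin 4 → K, Good x β := fun β => good_cyc hxc (by norm_num) β
      have split2 : ∀ β : Fin 4 → K, Runs β → ∏ i, β i = 1 → ∃ R : Matrix (Fin 4) (Fin 4) K, Cyc R ∧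
          R.charpoly = ∏ i, (Polynomial.X - Polynomial.C (β i)) ∧ SimProd x 2 R := by
        intro β hr hp
        obtain ⟨R, hRc, hRχ⟩ := exists_split_class (β := β)
        exact ⟨R, hRc, hRχ, next_split (k := 2) h4 hxd (SimProd.one (Sim.refl x)) hxc hr (hgood β) hRc hRχ
          (by rw [det_of_prod hRχ, hp, hx1, one_mul])⟩
      refine covers_of_simProd hSx (fun g hg hgs => ?_) ⟨1, ?_⟩
      · obtain ⟨β, -, hb0, hbne, hbp, hr⟩ := exists_spectrum h4 (m := 3) (by norm_num) (b := (1 : K)) one_ne_zero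
          (D := 1) one_ne_zero
        obtain ⟨R, hRc, hRχ, hR⟩ := split2 β hr hbp
        exact factor_split (k := 2) h4 hxd hR hRc hR hRc hr hRχ (Or.inl ⟨by rw [hb0]; exact (hbne 0).symm, hgs⟩)
          (by rw [hR.det_eq, hx1, one_pow, hg, one_mul])
      · obtain ⟨R, hRc, hRχ, hR⟩ := split2 (fun _ => 1) (fun _ _ _ _ _ _ => rfl) (by simp)
        have hRd := hR.det_ne hxd
        have he : R.charpoly = R⁻¹.charpoly := by
          rw [(charpoly_inv_split hRc hRd hRχ).2, hRχ]; simp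
        have h := hR.mul (hR.of_sim (sim_of_cyc hRc (hRc.inv hRd) he))
        rw [Matrix.mul_nonsing_inv R (isUnit_iff_ne_zero.2 hRd)] at h
        rwa [one_smul]
    have hsq : Sq X.charpoly :=
      by_contra fun h => hSx (Surj.of_sim hXx (surj_of_not_sq h4 hX h) (Equiv.refl _))
    have h2 : (2 : K) ≠ 0 := fun h => hSx (surj_char_two h x (j := 2) rfl)
    by_cases hroot : ∃ ρ, X.charpoly.IsRoot ρ
    · obtain ⟨ρ, hρ⟩ := hroot
      exact covers_root h4 hx1 hX hXx hρ
    push Not at hroot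
    obtain ⟨p, hpm, hpi, h, hh⟩ := Polynomial.exists_monic_irreducible_factor X.charpoly (fun hu => by
      have h' := natDegree_eq_zero_of_isUnit hu
      rw [charpoly_natDegree_eq_dim, Fintype.card_fin] at h'; omega)
    have hhm : h.Monic := Monic.of_mul_monic_left hpm (hh ▸ charpoly_monic X)
    have hp2 : 2 ≤ p.natDegree := by
      by_contra hlt
      have h1 : p.natDegree = 1 := by have := hpi.natDegree_pos; omega
      refine hroot (-p.coeff 0) ?_
      rw [Polynomial.IsRoot, hh, eval_mul, hpm.eq_X_add_C h1]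
      simp
    have hph : p ∣ h := by
      have h' := hsq p hpm hpi ⟨h, hh⟩
      rw [hh] at h'
      exact (mul_dvd_mul_iff_left hpm.ne_zero).1 h'
    have hle := natDegree_le_of_dvd hph hhm.ne_zero
    have hdim := charpoly_natDegree_eq_dim X
    rw [hh, hpm.natDegree_mul hhm, Fintype.card_fin] at hdim
    have hpeq : h = p := eq_of_monic_of_dvd_of_natDegree_le hpm hhm hph (by omega)
    obtain ⟨X', H', E, hX', hH', hX'χ, hH'χ, hXs⟩ := exists_quotient (s := 1) (t := 1) hX hpm hhm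
      (by omega) (by omega) hh
    have hdet := (hXx.symm.trans hXs).det_of_equiv (finSumFinEquiv : Fin 2 ⊕ Fin 2 ≃ Fin 4)
    rw [det_fromBlocks_zero₂₁, det_two_of_charpoly (X := H'), hH'χ, hpeq, ← hX'χ, ← det_two_of_charpoly, hx1] at hdet
    exact covers_two h4 hx1 (hXx.symm.trans hXs) hX' hH' (by rw [hH'χ, hpeq, hX'χ]) hdet fun h => absurd h h2
  | @cons d₁ m₁ _ X₁ Z₁ g₁ hd₁ hn₁ hX₁ hP₁ hZ₁ hs₁ =>
    obtain rfl : d = 2 := by omega
    obtain rfl : d₁ = 2 := by
      have h := natDegree_le_of_dvd hP₁.1 (charpoly_monic X).ne_zero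
      rw [charpoly_natDegree_eq_dim, charpoly_natDegree_eq_dim, Fintype.card_fin, Fintype.card_fin] at h
      omega
    obtain rfl : m₀ = 2 := by omega
    obtain rfl : m₁ = 0 := by omega
    have he : X₁.charpoly = X.charpoly := by
      rw [hP₁.2 (by rw [charpoly_natDegree_eq_dim, Fintype.card_fin]),
        hf₂ (by rw [charpoly_natDegree_eq_dim, Fintype.card_fin])]
    have hZX : Sim X₁ Z := (sim_empty X₁ Z₁).symm.trans hs₁
    have hsim' : Sim (Matrix.fromBlocks X 0 0 X₁) x := (sim_blocks (Sim.refl X) hZX).trans hsim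
    have hdet := hsim'.symm.det_of_equiv (finSumFinEquiv : Fin 2 ⊕ Fin 2 ≃ Fin 4)
    rw [det_fromBlocks_zero₂₁, det_two_of_charpoly (X := X₁), he, ← det_two_of_charpoly, hx1] at hdet
    by_cases hq : Fintype.card K = 4
    · exact covers_four_elements hq hx1 hX hX₁ he hsim'
    · exact covers_two h4 hx1 hsim'.symm hX hX₁ he hdet fun _ _ => by omega

end CfsgLib.LevCover
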