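import Cfsg.Agent.LevCover.Base

/-!
A cyclic part of full odd size inside about half as many factors, when the matrix has a scalar summand.
-/

set_option autoImplicit false
set_option linter.unusedSectionVars false
set_option linter.unusedSimpArgs false

namespace CfsgLib.LevCover

open Matrix Polynomial

variable {K : Type*} [Field K]

theorem cyc_nonscalar {d : ℕ} {X : Matrix (Fin d) (Fin d) K} (hd : 2 ≤ d) (h : Cyc X) : ∀ t : K, X ≠ t • 1 := by
  rintro t rfl
  obtain ⟨e, he⟩ := h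
  have h0 := he (Polynomial.X - Polynomial.C t)
    (by rw [degree_X_sub_C, Fintype.card_fin]; exact_mod_cast (show 1 < d by omega))
    (by simp [Algebra.algebraMap_eq_smul_one])
  exact X_sub_C_ne_zero t h0

theorem nonscalar_left {ι κ : Type*} [Fintype ι] [DecidableEq ι] [Fintype κ] [DecidableEq κ]
    {A : Matrix ι ι K} (B : Matrix κ κ K) (hA : ∀ t : K, A ≠ t • 1) :
    ∀ t : K, Matrix.fromBlocks A 0 0 B ≠ t • 1 := by
  intro t h
  apply hA t
  rw [← Matrix.fromBlocks_one, Matrix.fromBlocks_smul] at h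
  exact congrArg Matrix.toBlocks₁₁ h |>.trans rfl

theorem nonscalar_of_sim {ι κ : Type*} [Fintype ι] [DecidableEq ι] [Fintype κ] [DecidableEq κ]
    {A : Matrix ι ι K} {B : Matrix κ κ K} (h : Sim A B) (hA : ∀ t : K, A ≠ t • 1) :
    ∀ t : K, B ≠ t • 1 := by
  rintro t rfl
  obtain ⟨P, P', h1, h2, hP⟩ := h.symm
  apply hA t
  rw [hP, Matrix.mul_smul, Matrix.smul_mul, Matrix.mul_one, h1]

theorem Stack.nonscalar {Pr : K[X] → Prop} {a n : ℕ} {W : Matrix (Fin a) (Fin a) K}
    {g : Matrix (Fin n) (Fin n) K} (hs : Stack Pr W g) (h : a < n) : ∀ t : K, g ≠ t • 1 := by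
  cases hs with
  | base => exact absurd h (lt_irrefl _)
  | cons X Z g hd hn hX hP _ hsim => exact nonscalar_of_sim hsim (nonscalar_left Z (cyc_nonscalar hd hX))

theorem Stack.three_le {Pr : K[X] → Prop} (hPr : ∀ f, Pr f → f.natDegree ≠ 2) {a n : ℕ}
    {W : Matrix (Fin a) (Fin a) K} {g : Matrix (Fin n) (Fin n) K} (hs : Stack Pr W g) (h : a < n) :
    a + 3 ≤ n := by
  cases hs with
  | base => exact absurd h (lt_irrefl _)
  | @cons d m _ X Z g hd hn hX hP hZ hsim =>
    have := hZ.le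
    have h2 := hPr _ hP
    rw [charpoly_natDegree_eq_dim, Fintype.card_fin] at h2
    omega

theorem eigen_root {ι : Type*} [Fintype ι] [DecidableEq ι] {C : Matrix ι ι K} {θ : K} {v : ι → K}
    (hv : v ≠ 0) (h : C *ᵥ v = θ • v) : C.charpoly.IsRoot θ := by
  rw [Polynomial.IsRoot, Matrix.eval_charpoly]
  refine Matrix.exists_mulVec_eq_zero_iff.1 ⟨v, hv, ?_⟩
  rw [Matrix.scalar_apply, ← Matrix.smul_one_eq_diagonal, sub_mulVec, smul_mulVec, one_mulVec, h, sub_self]

/-- Moving part of a scalar summand into the upper block. -/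
theorem sim_regroup {α γ : Type*} [Fintype α] [DecidableEq α] [Fintype γ] [DecidableEq γ]
    (A : Matrix α α K) (L : Matrix α γ K) (C : Matrix γ γ K) (c : K) {a p r : ℕ} (h : a = p + r) :
    Sim (Matrix.fromBlocks (Matrix.fromBlocks A L 0 C) 0 0 (c • (1 : Matrix (Fin a) (Fin a) K)))
      (Matrix.fromBlocks
        (Matrix.fromBlocks (Matrix.fromBlocks A 0 0 (c • (1 : Matrix (Fin p) (Fin p) K))) (Matrix.fromRows L 0) 0 C)
        0 0 (c • (1 : Matrix (Fin r) (Fin r) K))) := by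
  subst h
  refine (sim_blocks (Sim.refl _) (sim_smul_one c finSumFinEquiv.symm)).trans ?_
  rw [← blocks_smul_one c]
  let σ : (α ⊕ γ) ⊕ (Fin p ⊕ Fin r) ≃ ((α ⊕ Fin p) ⊕ γ) ⊕ Fin r :=
    { toFun := Sum.elim (Sum.elim (fun x => Sum.inl (Sum.inl (Sum.inl x))) fun x => Sum.inl (Sum.inr x))
        (Sum.elim (fun x => Sum.inl (Sum.inl (Sum.inr x))) fun x => Sum.inr x)
      invFun := Sum.elim (Sum.elim (Sum.elim (fun x => Sum.inl (Sum.inl x)) fun x => Sum.inr (Sum.inl x))
        fun x => Sum.inl (Sum.inr x)) fun x => Sum.inr (Sum.inr x)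
      left_inv := fun x => by rcases x with (x | x) | (x | x) <;> rfl
      right_inv := fun x => by rcases x with ((x | x) | x) | x <;> rfl }
  refine Sim.of_reindex σ ?_
  ext (((i | i) | i) | i) (((j | j) | j) | j) <;> simp [σ, Matrix.one_apply]

/-- A cyclic part of size `M` in `k` factors. -/
def Reach {n : ℕ} (x : Matrix (Fin n) (Fin n) K) (lam : K) (k M : ℕ) : Prop :=
  ∃ (r : ℕ) (H : Matrix (Fin M) (Fin M) K), M + r = n ∧ Cyc H ∧
    SimProd x k (Matrix.fromBlocks H 0 0 (lam ^ k • (1 : Matrix (Fin r) (Fin r) K)))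

/-- As `Reach`, with split part having a simple first eigenvalue. -/
def ReachS {n : ℕ} (x : Matrix (Fin n) (Fin n) K) (lam : K) (k M : ℕ) : Prop :=
  ∃ (r : ℕ) (H : Matrix (Fin M) (Fin M) K), M + r = n ∧ Cyc H ∧ SimplePoly H ∧
    SimProd x k (Matrix.fromBlocks H 0 0 (lam ^ k • (1 : Matrix (Fin r) (Fin r) K)))

theorem ReachS.reach {n : ℕ} {x : Matrix (Fin n) (Fin n) K} {lam : K} {k M : ℕ} (h : ReachS x lam k M) :
    Reach x lam k M := by
  obtain ⟨r, H, h1, h2, -, h3⟩ := h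
  exact ⟨r, H, h1, h2, h3⟩

/-- An upper block shape with bottom block of size `t` and few roots. -/
def Shape {n : ℕ} (x : Matrix (Fin n) (Fin n) K) (lam : K) (N' t : ℕ) (flag : Prop) : Prop :=
  ∃ (a : ℕ) (A : Matrix (Fin N') (Fin N') K) (L : Matrix (Fin N') (Fin t) K) (C : Matrix (Fin t) (Fin t) K)
    (S : Finset K), N' + t + a = n ∧ (∀ s : K, A ≠ s • 1) ∧ Cyc C ∧ S.card ≤ 2 ∧
      (∀ (θ : K) (v : Fin t → K), v ≠ 0 → C *ᵥ v = θ • v → θ ∈ S) ∧
      Sim x (Matrix.fromBlocks (Matrix.fromBlocks A L 0 C) 0 0 (lam • (1 : Matrix (Fin a) (Fin a) K))) ∧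
      (flag → ∃ γ : Fin t → K, C.charpoly = ∏ i, (Polynomial.X - Polynomial.C (γ i)) ∧ ∀ i, γ i ∈ S)

theorem Shape.core {n n0 a : ℕ} {x : Matrix (Fin n) (Fin n) K} {lam : K} (hn : n0 + a = n)
    {X0 : Matrix (Fin n0) (Fin n0) K} (hns : ∀ s : K, X0 ≠ s • 1)
    (hx : Sim x (Matrix.fromBlocks X0 0 0 (lam • (1 : Matrix (Fin a) (Fin a) K)))) {t : ℕ} (ht : t ≤ 1)
    (hta : t ≤ a) : Shape x lam n0 t True := by
  classical
  obtain ⟨b, rfl⟩ : ∃ b, a = t + b := ⟨a - t, by omega⟩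
  refine ⟨b, X0, 0, lam • 1, {lam}, by omega, hns, ?_, by simp, ?_, ?_, fun _ => ⟨fun _ => lam, ?_, fun _ => by simp⟩⟩
  · apply cyc_hess
    exact ⟨fun i j h => absurd h (by have := i.isLt; omega), fun i j h => absurd h (by have := i.isLt; omega)⟩
  · intro θ v hv h
    rw [smul_mulVec, one_mulVec] at h
    obtain ⟨i, hi⟩ := Function.ne_iff.1 hv
    have := congrFun h i
    simp only [Pi.smul_apply, smul_eq_mul] at this
    simp [mul_right_cancel₀ hi this]
  · refine hx.trans (Sim.trans ?_ (sim_assoc X0 _ _).symm)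
    refine sim_blocks (Sim.refl X0) ?_
    rw [blocks_smul_one]
    exact sim_smul_one lam finSumFinEquiv.symm
  · rw [Matrix.smul_one_eq_diagonal, charpoly_diagonal]

theorem Shape.mono {n N' t : ℕ} {x : Matrix (Fin n) (Fin n) K} {lam : K} {f f' : Prop}
    (h : Shape x lam N' t f) (hf : f' → f) : Shape x lam N' t f' := by
  obtain ⟨a, A, L, C, S, h1, h2, h3, h5, h6, h7, h8⟩ := h
  exact ⟨a, A, L, C, S, h1, h2, h3, h5, h6, h7, fun hh => h8 (hf hh)⟩

variable [Fintype K]

theorem step_shape (h4 : 4 ≤ Fintype.card K) {n k M N' t : ℕ} {x : Matrix (Fin n) (Fin n) K}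
    (hxd : x.det ≠ 0) {lam : K} (hlam : lam ≠ 0) {flag : Prop} (hs : Shape x lam N' t flag)
    (hR : Reach x lam k M) (hN : N' ≤ M) (hM : 3 ≤ M) (hMn : M + t ≤ n) :
    Reach x lam (k + 1) (M + t) ∧ (flag → ReachS x lam (k + 1) (M + t)) := by
  obtain ⟨a, A, L, C, S, hn, hA, hC, hS, hroot, hx, hflag⟩ := hs
  obtain ⟨r, H, hr, hH, hHs⟩ := hR
  obtain ⟨p, rfl⟩ : ∃ p, M = N' + p := ⟨M - N', by omega⟩
  obtain ⟨r', rfl⟩ : ∃ r', a = p + r' := ⟨a - p, by omega⟩
  set A' := Matrix.reindex finSumFinEquiv finSumFinEquiv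
    (Matrix.fromBlocks A 0 0 (lam • (1 : Matrix (Fin p) (Fin p) K))) with hA'
  set L' := (Matrix.fromRows L (0 : Matrix (Fin p) (Fin t) K)).submatrix finSumFinEquiv.symm id with hL'
  have hx' : Sim x (Matrix.fromBlocks (Matrix.fromBlocks A' L' 0 C) 0 0 (lam • (1 : Matrix (Fin r') (Fin r') K))) := by
    refine (hx.trans (sim_regroup A L C lam rfl)).trans (sim_blocks ?_ (Sim.refl _))
    refine Sim.of_reindex (Equiv.sumCongr finSumFinEquiv (Equiv.refl _)) ?_
    ext (i | i) (j | j) <;> simp [hA', hL']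
  have hA'ns : ∀ s : K, A' ≠ s • 1 := nonscalar_of_sim (sim_reindex _ _) (nonscalar_left _ hA)
  obtain ⟨G, hG, hGs, hGflag⟩ := step_product h4 hM hlam (show r = t + r' by omega) hH hHs hA'ns hC hxd hx' hS hroot
  exact ⟨⟨r', G, by omega, hG, hGs⟩, fun hf => ⟨r', G, by omega, hG, hGflag (hflag hf), hGs⟩⟩

theorem iterate_shape (h4 : 4 ≤ Fintype.card K) {n k M N' t : ℕ} {x : Matrix (Fin n) (Fin n) K}
    (hxd : x.det ≠ 0) {lam : K} (hlam : lam ≠ 0) {flag : Prop} (hs : Shape x lam N' t flag)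
    (hR : Reach x lam k M) (hN : N' ≤ M) (hM : 3 ≤ M) :
    ∀ s : ℕ, M + s * t ≤ n → Reach x lam (k + s) (M + s * t) ∧
      (0 < s → flag → ReachS x lam (k + s) (M + s * t)) := by
  intro s
  induction s with
  | zero => intro _; exact ⟨by simpa using hR, fun h => absurd h (lt_irrefl _)⟩
  | succ s ih =>
    intro hb
    rw [Nat.succ_mul] at hb ⊢
    obtain ⟨h1, -⟩ := ih (by omega)
    have h := step_shape h4 hxd hlam hs h1 (by omega) (by omega) (show M + s * t + t ≤ n by omega)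
    rw [← Nat.add_assoc, ← Nat.add_assoc]
    exact ⟨h.1, fun _ hf => h.2 hf⟩

theorem window_reach {n k m w : ℕ} {x : Matrix (Fin n) (Fin n) K} {lam : K} (hlam : lam ≠ 0) {a : ℕ}
    {W : Matrix (Fin (w + 1)) (Fin (w + 1)) K} (hW : Cyc W) (han : w + 1 + a = n)
    (hx : Sim x (Matrix.fromBlocks W 0 0 (lam • (1 : Matrix (Fin a) (Fin a) K))))
    (hR : Reach x lam k (m + 1)) (hb : m + 1 + w ≤ n) : Reach x lam (k + 1) (m + 1 + w) := by
  obtain ⟨r, H, hr, hH, hHs⟩ := hR
  obtain ⟨r', rfl⟩ : ∃ r', r = w + r' := ⟨r - w, by omega⟩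
  obtain ⟨G, hG, hGs⟩ := window_product (r' := r') hlam hH hHs hW (show a = m + r' by omega) hx
  exact ⟨r', G, by omega, hG, hGs⟩

theorem window_iterate {n k m w : ℕ} {x : Matrix (Fin n) (Fin n) K} {lam : K} (hlam : lam ≠ 0) {a : ℕ}
    {W : Matrix (Fin (w + 1)) (Fin (w + 1)) K} (hW : Cyc W) (han : w + 1 + a = n)
    (hx : Sim x (Matrix.fromBlocks W 0 0 (lam • (1 : Matrix (Fin a) (Fin a) K))))
    (hR : Reach x lam k (m + 1)) : ∀ s : ℕ, m + 1 + s * w ≤ n → Reach x lam (k + s) (m + 1 + s * w) := by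
  intro s
  induction s with
  | zero => intro _; simpa using hR
  | succ s ih =>
    intro hb
    rw [Nat.succ_mul] at hb ⊢
    have h1 := ih (by omega)
    rw [show m + 1 + s * w = m + s * w + 1 by omega] at h1
    have h2 := window_reach hlam hW han hx h1 (by omega)
    rw [show m + 1 + (s * w + w) = m + s * w + 1 + w by omega, ← Nat.add_assoc]
    exact h2

theorem exists_notMem_sq (h4 : 4 ≤ Fintype.card K) (u c : K) :
    ∃ a₀ : K, a₀ ≠ 0 ∧ a₀ ≠ c ∧ a₀ * a₀ ≠ u * u := by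
  classical
  obtain ⟨a₀, ha⟩ := exists_notMem ({0, c, u, -u} : Finset K) (by
    rcases lt_or_eq_of_le h4 with h | h
    · refine lt_of_le_of_lt (le_trans (Finset.card_insert_le _ _) (Nat.add_le_add_right
        (le_trans (Finset.card_insert_le _ _) (Nat.add_le_add_right (Finset.card_insert_le _ _) 1)) 1)) ?_
      rw [Finset.card_singleton]; omega
    · have h2 : (2 : K) = 0 := by
        have h0 : ((Fintype.card K : ℕ) : K) = 0 := FiniteField.cast_card_eq_zero K
        rw [← h] at h0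
        push_cast at h0
        have : (2 : K) * 2 = 0 := by linear_combination h0
        exact mul_self_eq_zero.1 this
      have hu : -u = u := by linear_combination -u * h2
      rw [hu, Finset.pair_eq_singleton]
      refine lt_of_le_of_lt (le_trans (Finset.card_insert_le _ _) (Nat.add_le_add_right (Finset.card_insert_le _ _) 1)) ?_
      rw [Finset.card_singleton]; omega)
  simp only [Finset.mem_insert, Finset.mem_singleton, not_or] at ha
  exact ⟨a₀, ha.1, ha.2.1, fun h => (mul_self_eq_mul_self_iff.1 h).elim ha.2.2.1 ha.2.2.2⟩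

/-- A cyclic part of the full odd size `m` in `(m - 1) / 2` factors, and mostly with split part. -/
theorem exists_reach (h4 : 4 ≤ Fintype.card K) {n d m₀ a : ℕ} {x : Matrix (Fin n) (Fin n) K}
    (hxd : x.det ≠ 0) {lam : K} (hlam : lam ≠ 0) {f₂ : K[X]}
    {X : Matrix (Fin d) (Fin d) K} {Z : Matrix (Fin m₀) (Fin m₀) K} (hd : 2 ≤ d) (hn : d + m₀ = n)
    (hX : Cyc X) (hsim : Sim (Matrix.fromBlocks X 0 0 Z) x) (ha : 0 < a) (hroot : X.charpoly.eval lam = 0)
    (hf₂ : X.charpoly.natDegree = 2 → X.charpoly = f₂)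
    (hst : Stack (fun f => f ∣ X.charpoly ∧ (0 < a → f.eval lam = 0) ∧ (f.natDegree = 2 → f = f₂))
      (lam • (1 : Matrix (Fin a) (Fin a) K)) Z)
    (hnp : ¬ (d = 2 ∧ m₀ = a)) {m : ℕ} (hm : m % 2 = 1) (hmn : m ≤ n) (hnm : n ≤ m + 1) :
    Reach x lam ((m - 1) / 2) m ∧
      (n = m → ReachS x lam ((m - 1) / 2) m ∨ (d = 3 ∧ m₀ = a) ∨ (m = 5 ∧ d = 2 ∧ m₀ = a + 2)) := by
  classical
  set P' : K[X] → Prop := fun f => f ∣ X.charpoly ∧ (0 < a → f.eval lam = 0) ∧ (f.natDegree = 2 → f = f₂)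
  obtain ⟨z, Z₀, hz, hZ₀, hsZ⟩ := hst.split (a' := 0) (b := a) (by omega)
  have htop : P' X.charpoly := ⟨dvd_rfl, fun _ => hroot, hf₂⟩
  set X₀ := Matrix.reindex finSumFinEquiv finSumFinEquiv (Matrix.fromBlocks X 0 0 Z₀) with hX₀
  have hx0 : Sim x (Matrix.fromBlocks X₀ 0 0 (lam • (1 : Matrix (Fin a) (Fin a) K))) := by
    refine hsim.symm.trans ((sim_blocks (Sim.refl X) hsZ.symm).trans ((sim_assoc X Z₀ _).symm.trans ?_))
    exact sim_blocks (sim_reindex finSumFinEquiv _) (Sim.refl _)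
  have hX₀ns : ∀ s : K, X₀ ≠ s • 1 :=
    nonscalar_of_sim (sim_reindex _ _) (nonscalar_left _ (cyc_nonscalar hd hX))
  have hn0 : d + z + a = n := by omega
  have hpad : Shape x lam (d + z) 0 True := Shape.core hn0 hX₀ns hx0 (by omega) (by omega)
  have hone : Shape x lam (d + z) 1 True := Shape.core hn0 hX₀ns hx0 le_rfl ha
  -- finishing by padding
  have finish : ∀ k : ℕ, k ≤ (m - 1) / 2 → d + z ≤ m → 3 ≤ m → Reach x lam k m →
      Reach x lam ((m - 1) / 2) m ∧ (k < (m - 1) / 2 → ReachS x lam ((m - 1) / 2) m) := by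
    intro k hk hdz h3 hR
    have h := iterate_shape h4 hxd hlam hpad hR hdz h3 ((m - 1) / 2 - k) (by omega)
    rw [Nat.mul_zero, Nat.add_zero, Nat.add_sub_cancel' hk] at h
    exact ⟨h.1, fun hlt => h.2 (by omega) trivial⟩
  rcases Nat.eq_zero_or_pos z with hz0 | hz0
  · -- one block
    subst hz0
    have hma : m₀ = a := by omega
    have hd3 : 3 ≤ d := by
      by_contra hlt
      exact hnp ⟨by omega, hma⟩
    obtain ⟨w, rfl⟩ : ∃ w, d = w + 1 := ⟨d - 1, by omega⟩
    have hW : Sim x (Matrix.fromBlocks X 0 0 (lam • (1 : Matrix (Fin a) (Fin a) K))) := by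
      refine hx0.trans (sim_blocks ?_ (Sim.refl _))
      refine (Sim.of_reindex (Equiv.sumEmpty (Fin (w + 1)) (Fin 0)) ?_)  |> fun h => (sim_reindex finSumFinEquiv _).symm.trans h
      ext i j; simp
    have h1 : Reach x lam 1 (w + 1) := ⟨a, X, by omega, hX, by
      rw [pow_one]; exact SimProd.one hW⟩
    set s := (m - (w + 1)) / w
    set ρ := (m - (w + 1)) % w
    have hdiv : w * s + ρ = m - (w + 1) := Nat.div_add_mod _ _
    have hρ : ρ < w := Nat.mod_lt _ (by omega)
    have hmw : w + 1 ≤ m := by omega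
    have h2 := window_iterate (m := w) hlam hX (by omega) hW h1 s (by rw [Nat.mul_comm]; omega)
    have h3 := iterate_shape h4 hxd hlam hone h2 (by omega) (by omega) ρ (by rw [Nat.mul_comm s w]; omega)
    rw [show w + 1 + s * w + ρ * 1 = m by rw [Nat.mul_comm s w]; omega] at h3
    have hcount : 1 + s + ρ ≤ (m - 1) / 2 ∧ (ρ = 0 → w + 1 ≠ 3 → 1 + s + ρ < (m - 1) / 2) := by
      rcases Nat.eq_zero_or_pos s with hs | hs
      · rw [hs, Nat.mul_zero] at hdiv
        constructor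
        · omega
        · intro h h'; omega
      · obtain ⟨s', hs'⟩ : ∃ s', s = s' + 1 := ⟨s - 1, by omega⟩
        rw [hs'] at hdiv ⊢
        rw [Nat.mul_succ] at hdiv
        have hge : 2 * s' ≤ w * s' := Nat.mul_le_mul_right s' (by omega)
        constructor
        · omega
        · intro h h'
          have hge3 : 3 * s' ≤ w * s' := Nat.mul_le_mul_right s' (by omega)
          omega
    obtain ⟨hF, hFS⟩ := finish (1 + s + ρ) hcount.1 (by omega) (by omega) h3.1
    refine ⟨hF, fun hnm' => ?_⟩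
    by_cases hw3 : w + 1 = 3
    · exact Or.inr (Or.inl ⟨hw3, hma⟩)
    rcases lt_or_eq_of_le hcount.1 with hlt | heq
    · exact Or.inl (hFS hlt)
    · refine Or.inl ?_
      rcases Nat.eq_zero_or_pos ρ with hρ0 | hρ0
      · exact absurd heq (ne_of_lt (hcount.2 hρ0 hw3))
      · rw [← heq]; exact h3.2 hρ0 trivial
  -- several blocks
  have hz2 : 2 ≤ z := by
    have h := hZ₀.nonscalar hz0
    by_contra hlt
    obtain rfl : z = 1 := by omega
    exact h (Z₀ 0 0) (by ext i j; fin_cases i; fin_cases j; simp)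
  have hn4 : d + z + a ≤ m + 1 := by omega
  have base : ∀ a' : ℕ, a' ≤ 1 → a' ≤ a → Reach x lam 2 (d + z + a') := by
    intro a' ha' haa
    obtain ⟨b, rfl⟩ : ∃ b, a = a' + b := ⟨a - a', by omega⟩
    have hst' := Stack.cons X Z x hd hn hX htop hst hsim
    obtain ⟨n', g', hn', hg', hsg⟩ := hst'.split (a' := a') (b := b) rfl
    obtain ⟨hg'd, -⟩ := det_blocks_ne (hsg.symm.det_ne hxd)
    obtain ⟨a₀, h0, hc, hu⟩ := exists_notMem_sq h4 (f₂.coeff 0) (lam * lam)
    obtain ⟨Z₁, Z₂, h1, h2, hc2, -, -⟩ := base_product h4 ha' h0 (fun _ => hc)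
      (fun f hf h2 => by rw [hf.2.2 h2]; exact hu) hg' hg'd
    have hn'' : n' = d + z + a' := by omega
    subst hn''
    refine ⟨b, Z₁ * Z₂, by omega, hc2, ?_⟩
    have hy : ∀ Y : Matrix (Fin (d + z + a')) (Fin (d + z + a')) K, Sim g' Y → Sim x (Matrix.fromBlocks Y 0 0 (lam • (1 : Matrix (Fin b) (Fin b) K))) :=
      fun Y hY => hsg.symm.trans (sim_blocks hY (Sim.refl _))
    have hp := (SimProd.one (hy _ h1)).mul (SimProd.one (hy _ h2))
    rw [Matrix.fromBlocks_multiply] at hp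
    simpa [Matrix.smul_mul, Matrix.mul_smul, smul_smul, pow_two] using hp
  set g0 := X.charpoly /ₘ (Polynomial.X - Polynomial.C lam) with hg0def
  have hfac : (Polynomial.X - Polynomial.C lam) * g0 = X.charpoly :=
    mul_divByMonic_eq_iff_isRoot.2 hroot
  have hcd : X.charpoly.natDegree = d := by rw [charpoly_natDegree_eq_dim, Fintype.card_fin]
  have hg0m : g0.Monic := Monic.of_mul_monic_left (monic_X_sub_C lam) (by rw [hfac]; exact charpoly_monic X)
  have hg0d : g0.natDegree + 1 = d := by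
    rw [← hcd, ← hfac, (monic_X_sub_C lam).natDegree_mul hg0m, natDegree_X_sub_C, add_comm]
  -- the shape from a quotient of the top block
  have shape_top : ∀ (h f : K[X]) (s t : ℕ) (S : Finset K) (flag : Prop), f.Monic → h.Monic →
      f.natDegree = s + 1 → h.natDegree = t + 1 → X.charpoly = f * h → S.card ≤ 2 →
      (∀ θ, h.IsRoot θ → θ ∈ S) →
      (flag → ∃ γ : Fin (t + 1) → K, h = ∏ i, (Polynomial.X - Polynomial.C (γ i)) ∧ ∀ i, γ i ∈ S) →
      Shape x lam (z + (s + 1)) (t + 1) flag := by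
    intro h f s t S flag hf hh hfs hht hfh hS hrt hflag
    obtain ⟨X', H', E, -, hH', -, hHχ, hXsim⟩ := exists_quotient hX hf hh hfs hht hfh
    have hd' : d = s + 1 + (t + 1) := by
      rw [← hcd, hfh, hf.natDegree_mul hh, hfs, hht]
    set A := Matrix.reindex finSumFinEquiv finSumFinEquiv (Matrix.fromBlocks Z₀ 0 0 X') with hA
    set L := (Matrix.fromRows (0 : Matrix (Fin z) (Fin (t + 1)) K) E).submatrix finSumFinEquiv.symm id with hL
    refine ⟨a, A, L, H', S, by omega, nonscalar_of_sim (sim_reindex _ _) (nonscalar_left _ (hZ₀.nonscalar hz0)),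
      hH', hS, fun θ v hv hθ => hrt θ (hHχ ▸ eigen_root hv hθ), ?_, fun hf => by rw [hHχ]; exact hflag hf⟩
    refine hx0.trans (sim_blocks ?_ (Sim.refl _))
    refine (sim_reindex _ _).symm.trans ((sim_blocks hXsim (Sim.refl Z₀)).trans ?_)
    let σ : (Fin (s + 1) ⊕ Fin (t + 1)) ⊕ Fin z ≃ (Fin (z + (s + 1))) ⊕ Fin (t + 1) :=
      ((Equiv.sumComm _ _).trans (Equiv.sumAssoc _ _ _).symm).trans (Equiv.sumCongr finSumFinEquiv (Equiv.refl _))
    refine Sim.of_reindex σ ?_
    ext (i | i) (j | j)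
    · obtain ⟨i, rfl⟩ := finSumFinEquiv.surjective i
      obtain ⟨j, rfl⟩ := finSumFinEquiv.surjective j
      rcases i with i | i <;> rcases j with j | j <;> simp [σ, hA]
    · obtain ⟨i, rfl⟩ := finSumFinEquiv.surjective i
      rcases i with i | i <;> simp [σ, hL]
    · obtain ⟨j, rfl⟩ := finSumFinEquiv.surjective j
      rcases j with j | j <;> simp [σ]
    · simp [σ]
  by_cases hρ : ∃ ρ, g0.IsRoot ρ
  · -- two roots
    obtain ⟨ρ, hρ⟩ := hρ
    set g1 := g0 /ₘ (Polynomial.X - Polynomial.C ρ) with hg1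
    have hfac1 : (Polynomial.X - Polynomial.C ρ) * g1 = g0 := mul_divByMonic_eq_iff_isRoot.2 hρ
    have hg1m : g1.Monic := Monic.of_mul_monic_left (monic_X_sub_C ρ) (by rw [hfac1]; exact hg0m)
    have hg1d : g1.natDegree + 2 = d := by
      rw [← hg0d, ← hfac1, (monic_X_sub_C ρ).natDegree_mul hg1m, natDegree_X_sub_C]; omega
    set h2 : K[X] := ∏ i : Fin 2, (Polynomial.X - Polynomial.C (![lam, ρ] i))
    have hh2 : h2 = (Polynomial.X - Polynomial.C lam) * (Polynomial.X - Polynomial.C ρ) := by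
      simp [h2, Fin.prod_univ_two]
    have hh2m : h2.Monic := monic_prod_of_monic _ _ fun i _ => monic_X_sub_C _
    have hh2d : h2.natDegree = 2 := by
      rw [hh2, (monic_X_sub_C lam).natDegree_mul (monic_X_sub_C ρ), natDegree_X_sub_C, natDegree_X_sub_C]
    have hfh : X.charpoly = g1 * h2 := by rw [← hfac, ← hfac1, hh2]; ring
    have hroots : ∀ θ, h2.IsRoot θ → θ ∈ ({lam, ρ} : Finset K) := by
      intro θ hθ
      rw [hh2, Polynomial.IsRoot, eval_mul, mul_eq_zero] at hθ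
      rcases hθ with hθ | hθ <;> simp only [eval_sub, eval_X, eval_C, sub_eq_zero] at hθ <;> simp [hθ]
    have hcard : ({lam, ρ} : Finset K).card ≤ 2 := Finset.card_le_two
    obtain ⟨N', hN', hsh⟩ : ∃ N', N' + 2 = d + z ∧ Shape x lam N' 2 True := by
      rcases Nat.lt_or_ge d 3 with hd3 | hd3
      · -- the top block itself
        obtain rfl : d = 2 := by omega
        refine ⟨z, by omega, a, Z₀, 0, X, {lam, ρ}, by omega, hZ₀.nonscalar hz0, hX, hcard, ?_, ?_, fun _ => ?_⟩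
        · intro θ v hv hθ
          refine hroots θ ?_
          have := eigen_root hv hθ
          rwa [hfh, hg1m.natDegree_eq_zero.1 (by omega), one_mul] at this
        · refine hx0.trans (sim_blocks ?_ (Sim.refl _))
          exact (sim_reindex _ _).symm.trans (sim_comm X Z₀)
        · refine ⟨![lam, ρ], ?_, fun i => by fin_cases i <;> simp⟩
          rw [hfh, hg1m.natDegree_eq_zero.1 (by omega), one_mul]
      · obtain ⟨s, hs⟩ : ∃ s, g1.natDegree = s + 1 := ⟨g1.natDegree - 1, by omega⟩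
        exact ⟨z + (s + 1), by omega, shape_top h2 g1 s 1 {lam, ρ} True hg1m hh2m hs hh2d hfh hcard hroots
          fun _ => ⟨![lam, ρ], rfl, fun i => by fin_cases i <;> simp⟩⟩
    set a' := (d + z + 1) % 2
    have ha' : a' ≤ 1 := by omega
    have hb := base a' ha' (by omega)
    set M₀ := d + z + a'
    have hM0 : M₀ ≤ m ∧ 5 ≤ M₀ ∧ (m - M₀) % 2 = 0 := by omega
    obtain ⟨h1, h1S⟩ := iterate_shape h4 hxd hlam hsh hb (by omega) (by omega) ((m - M₀) / 2) (by omega)
    rw [show M₀ + (m - M₀) / 2 * 2 = m by omega] at h1 h1S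
    obtain ⟨hF, hFS⟩ := finish (2 + (m - M₀) / 2) (by omega) (by omega) (by omega) h1
    refine ⟨hF, fun hnm' => ?_⟩
    rcases lt_or_eq_of_le (show 2 + (m - M₀) / 2 ≤ (m - 1) / 2 by omega) with hlt | heq
    · exact Or.inl (hFS hlt)
    · rcases Nat.eq_zero_or_pos ((m - M₀) / 2) with hs | hs
      · exact Or.inr (Or.inr ⟨by omega, by omega, by omega⟩)
      · exact Or.inl (heq ▸ h1S hs trivial)
  · -- no second root
    push Not at hρ
    have hd3 : 3 ≤ d := by
      by_contra hlt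
      have hg1 : g0.natDegree = 1 := by omega
      have he := hg0m.eq_X_add_C hg1
      exact hρ (-g0.coeff 0) (by rw [Polynomial.IsRoot, he]; simp)
    obtain ⟨e, he⟩ : ∃ e, g0.natDegree = e + 2 := ⟨g0.natDegree - 2, by omega⟩
    have hsh : Shape x lam (z + 1) (e + 2) False :=
      shape_top g0 (Polynomial.X - Polynomial.C lam) 0 (e + 1) ∅ False (monic_X_sub_C lam) hg0m
        (natDegree_X_sub_C lam) he hfac.symm (by simp) (fun θ hθ => absurd hθ (hρ θ)) (fun h => h.elim)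
    have hz3 : 3 ≤ z := by
      refine (Stack.three_le (fun f hf h2 => ?_) hZ₀ hz0).trans' (by omega)
      obtain ⟨hfX, hfl, -⟩ := hf
      obtain ⟨q, hq⟩ : (Polynomial.X - Polynomial.C lam) ∣ f := dvd_iff_isRoot.2 (hfl ha)
      have hq0 : q ≠ 0 := fun h => by rw [hq, h, mul_zero, natDegree_zero] at h2; omega
      have hq1 : q.natDegree = 1 := by
        rw [hq, natDegree_mul (X_sub_C_ne_zero lam) hq0, natDegree_X_sub_C] at h2; omega
      rw [hq, ← hfac, mul_dvd_mul_iff_left (X_sub_C_ne_zero lam)] at hfX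
      obtain ⟨θ, hθ⟩ : ∃ θ, q.IsRoot θ :=
        Polynomial.exists_root_of_degree_eq_one (by rw [degree_eq_natDegree hq0, hq1]; rfl)
      exact hρ θ (hθ.dvd hfX)
    have hb := base 0 (by omega) (by omega)
    set s := (m - (d + z)) / (e + 2)
    set ρ' := (m - (d + z)) % (e + 2)
    have hdiv : (e + 2) * s + ρ' = m - (d + z) := Nat.div_add_mod _ _
    have hρ' : ρ' < e + 2 := Nat.mod_lt _ (by omega)
    have hdz : d + z ≤ m := by omega
    have h2 := (iterate_shape h4 hxd hlam hsh hb (by omega) (by omega) s (by rw [Nat.mul_comm]; omega)).1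
    have h3 := iterate_shape h4 hxd hlam hone h2 (by omega) (by omega) ρ' (by rw [Nat.mul_comm s]; omega)
    rw [show d + z + 0 + s * (e + 2) + ρ' * 1 = m by rw [Nat.mul_comm s]; omega] at h3
    have hes : 2 * s ≤ (e + 2) * s := Nat.mul_le_mul_right s (by omega)
    have hcount : 2 + s + ρ' ≤ (m - 1) / 2 ∧ (ρ' = 0 → 2 + s + ρ' < (m - 1) / 2) := by omega
    obtain ⟨hF, hFS⟩ := finish (2 + s + ρ') hcount.1 hdz (by omega) h3.1
    refine ⟨hF, fun _ => Or.inl ?_⟩
    rcases lt_or_eq_of_le hcount.1 with hlt | heq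
    · exact hFS hlt
    · rcases Nat.eq_zero_or_pos ρ' with h0 | h0
      · exact absurd heq (ne_of_lt (hcount.2 h0))
      · exact heq ▸ h3.2 h0 trivial

end CfsgLib.LevCover
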