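import Mathlib

/-!
Irreducible polynomials over a finite field with prescribed constant coefficient, avoiding an
affine hyperplane in the middle coefficients.
-/

set_option autoImplicit false
set_option linter.unusedSectionVars false
set_option linter.unusedSimpArgs false

namespace CfsgLib.LevCover

open Polynomial Finset

variable {F : Type*} [Field F] [Fintype F]

theorem geom_bound {q : ℕ} (hq : 4 ≤ q) : ∀ m : ℕ, 2 * (∑ i ∈ range m, q ^ i) < q ^ m := by
  intro m
  induction m with
  | zero => simp
  | succ m ih =>
    rw [sum_range_succ, pow_succ]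
    nlinarith [Nat.pos_of_ne_zero (pow_ne_zero m (show q ≠ 0 by omega))]

theorem card_roots_norm_ge {K : Type*} [Field K] [Fintype K] [DecidableEq K] {Q m : ℕ} {b : K}
    (hQ : 0 < Q) (hcard : Fintype.card K - 1 = Q * (m + 1)) (hb : b ^ (m + 1) = 1) :
    Q ≤ #(univ.filter fun x : K => x ^ Q = b) := by
  set A := univ.filter fun x : K => x ^ Q = b
  obtain ⟨R, hR⟩ : (X ^ Q - C b : K[X]) ∣ X ^ (Q * (m + 1)) - 1 := by
    have h := sub_dvd_pow_sub_pow (X ^ Q : K[X]) (C b) (m + 1)
    rwa [← pow_mul, ← C_pow, hb, C_1] at h
  have hne : (X ^ (Q * (m + 1)) - 1 : K[X]) ≠ 0 := by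
    rw [← C_1]
    exact X_pow_sub_C_ne_zero (by positivity) 1
  have hR0 : R ≠ 0 := fun h => hne (by rw [hR, h, mul_zero])
  have hdeg : R.natDegree = Q * m := by
    have h := congrArg natDegree hR
    rw [natDegree_mul (X_pow_sub_C_ne_zero hQ b) hR0, natDegree_X_pow_sub_C, ← C_1,
      natDegree_X_pow_sub_C, Nat.mul_succ] at h
    omega
  have hsub : univ.erase (0 : K) ⊆ A ∪ R.roots.toFinset := by
    intro x hx
    have hx0 : x ≠ 0 := (mem_erase.1 hx).1
    have h1 : x ^ (Q * (m + 1)) = 1 := by
      rw [← hcard]; exact FiniteField.pow_card_sub_one_eq_one x hx0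
    have h := congrArg (Polynomial.eval x) hR
    simp only [eval_sub, eval_pow, eval_X, eval_one, eval_mul, eval_C, h1, sub_self] at h
    rcases mul_eq_zero.1 h.symm with h | h
    · exact mem_union_left _ (by simpa [A] using sub_eq_zero.1 h)
    · exact mem_union_right _ (by rw [Multiset.mem_toFinset, mem_roots hR0]; exact h)
  have h2 := (card_le_card hsub).trans (card_union_le _ _)
  rw [card_erase_of_mem (mem_univ _), card_univ, hcard, Nat.mul_succ] at h2
  have h3 := (Multiset.toFinset_card_le R.roots).trans (card_roots' R)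
  omega

/-- A monic irreducible polynomial of degree `j + 2` with constant coefficient `N`, whose middle
coefficients avoid a given affine hyperplane. -/
theorem exists_irreducible (h4 : 4 ≤ Fintype.card F) (j : ℕ) {N : F} (hN : N ≠ 0)
    {l : Fin (j + 1) → F} (hl : l ≠ 0) (v : F) :
    ∃ g : F[X], g.Monic ∧ g.natDegree = j + 2 ∧ Irreducible g ∧ g.coeff 0 = N ∧
      ∑ i : Fin (j + 1), l i * g.coeff (i.val + 1) ≠ v := by
  classical
  obtain ⟨p, hp⟩ := CharP.exists F
  haveI : Fact p.Prime := ⟨CharP.char_is_prime F p⟩
  let K := FiniteField.Extension F p (j + 2)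
  haveI : Finite K := Module.finite_of_finite F
  letI : Fintype K := Fintype.ofFinite K
  set q := Fintype.card F with hq
  have hcK : Fintype.card K = q ^ (j + 2) := by
    rw [Fintype.card_eq_nat_card, FiniteField.natCard_extension, Nat.card_eq_fintype_card]
  have hfr : ∀ x : F, x ^ q = x := FiniteField.pow_card
  set Q' := ∑ i ∈ range (j + 1), q ^ i with hQ'
  set Q := ∑ i ∈ range (j + 2), q ^ i with hQdef
  have hQsplit : Q = Q' + q ^ (j + 1) := sum_range_succ _ _
  have hQpos : 0 < Q := by
    rw [hQsplit]; have := Nat.pos_of_ne_zero (pow_ne_zero (j + 1) (show q ≠ 0 by omega)); omega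
  have hQmul : Fintype.card K - 1 = Q * (q - 2 + 1) := by
    rw [hcK, show q - 2 + 1 = q - 1 by omega, hQdef, geom_sum_mul_of_one_le (by omega)]
  set a : F := (-1) ^ (j + 2) * N with ha
  have ha0 : a ≠ 0 := mul_ne_zero (pow_ne_zero _ (neg_ne_zero.2 one_ne_zero)) hN
  let φ := algebraMap F K
  have hb : φ a ^ (q - 2 + 1) = 1 := by
    rw [← map_pow, show q - 2 + 1 = q - 1 by omega, FiniteField.pow_card_sub_one_eq_one a ha0, map_one]
  set Ω := univ.filter fun x : K => x ^ Q = φ a with hΩ
  have hΩcard : Q ≤ #Ω := card_roots_norm_ge hQpos hQmul hb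
  let pr : K → Prop := fun x => ∃ e ∈ Icc 1 ((j + 2) / 2), x ^ (q ^ e) = x
  set bad := Ω.filter pr with hbad
  have hbadcard : 2 * Q' + #bad < Q := by
    rcases Nat.eq_zero_or_pos j with hj | hj
    · subst hj
      have hsub : bad ⊆ (X ^ 2 - C (φ a) : K[X]).roots.toFinset := by
        intro x hx
        obtain ⟨hxΩ, e, he, hxe⟩ := mem_filter.1 hx
        have he1 : e = 1 := by simp only [mem_Icc] at he; omega
        subst he1
        have hxQ : x ^ Q = φ a := (mem_filter.1 hxΩ).2
        rw [pow_one] at hxe
        rw [hQsplit, hQ', sum_range_one, pow_zero, pow_one, pow_add, pow_one, hxe] at hxQ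
        rw [Multiset.mem_toFinset, mem_roots (X_pow_sub_C_ne_zero two_pos _)]
        simp [IsRoot, pow_two, hxQ]
      have h2 := (card_le_card hsub).trans ((Multiset.toFinset_card_le _).trans (card_roots' _))
      rw [natDegree_X_pow_sub_C] at h2
      rw [hQsplit, hQ', sum_range_one, pow_zero, pow_one]
      omega
    · have hsub : bad ⊆ (Icc 1 ((j + 2) / 2)).biUnion
          fun e => (X ^ (q ^ e) - X : K[X]).roots.toFinset := by
        intro x hx
        obtain ⟨-, e, he, hxe⟩ := (mem_filter.1 hx : x ∈ Ω ∧ pr x)
        refine mem_biUnion.2 ⟨e, he, ?_⟩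
        have hne : (X ^ (q ^ e) - X : K[X]) ≠ 0 :=
          FiniteField.X_pow_card_pow_sub_X_ne_zero K (by simp only [mem_Icc] at he; omega) (by omega)
        rw [Multiset.mem_toFinset, mem_roots hne]
        simp [IsRoot, hxe]
      have h2 : #bad ≤ ∑ e ∈ Icc 1 ((j + 2) / 2), q ^ e := by
        refine (card_le_card hsub).trans (card_biUnion_le.trans (sum_le_sum fun e he => ?_))
        refine (Multiset.toFinset_card_le _).trans ((card_roots' _).trans ?_)
        rw [FiniteField.X_pow_card_pow_sub_X_natDegree_eq K (by simp only [mem_Icc] at he; omega) (by omega)]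
      have h3 : ∑ e ∈ Icc 1 ((j + 2) / 2), q ^ e ≤ Q' :=
        sum_le_sum_of_subset fun e he => by simp only [mem_Icc, mem_range] at he ⊢; omega
      have h5 := geom_bound (q := q) h4 (j + 1)
      rw [← hQ'] at h5
      omega
  by_contra hcon
  push Not at hcon
  let E : Finset ℕ → ℕ := fun S => ∑ i ∈ S, q ^ i
  let c : Fin (j + 1) → K := fun i => φ (l i) * (-1) ^ (j + 1 - i.val)
  let tm : Finset ℕ → K[X] := fun S =>
    if j + 1 ∈ S then C (φ a) * X ^ (E S - q ^ (j + 1)) else X ^ (E S + Q')
  let P : K[X] := (∑ i : Fin (j + 1), C (c i) * ∑ S ∈ powersetCard (j + 1 - i.val) (range (j + 2)), tm S)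
    - C (φ v) * X ^ Q'
  have hEle : ∀ S, S ⊆ range (j + 2) → (j + 1 ∈ S → E S - q ^ (j + 1) ≤ Q') ∧
      (j + 1 ∉ S → E S ≤ Q') := by
    intro S hS
    refine ⟨fun _ => ?_, fun h => sum_le_sum_of_subset fun x hx => ?_⟩
    · have : E S ≤ Q := sum_le_sum_of_subset hS
      omega
    · have h1 := mem_range.1 (hS hx)
      have : x ≠ j + 1 := fun e => h (e ▸ hx)
      exact mem_range.2 (by omega)
  have hPdeg : P.natDegree ≤ 2 * Q' := by
    refine (natDegree_sub_le _ _).trans (max_le ?_ ((natDegree_C_mul_X_pow_le _ _).trans (by omega)))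
    refine natDegree_sum_le_of_forall_le _ _ fun i _ => (natDegree_C_mul_le _ _).trans ?_
    refine natDegree_sum_le_of_forall_le _ _ fun S hS => ?_
    have hS' := (mem_powersetCard.1 hS).1
    by_cases h : j + 1 ∈ S
    · simp only [tm, if_pos h]
      exact (natDegree_C_mul_X_pow_le _ _).trans (by have := (hEle S hS').1 h; omega)
    · simp only [tm, if_neg h]
      rw [natDegree_X_pow]
      have := (hEle S hS').2 h; omega
  have hroot : ∀ x ∈ Ω \ bad, P.eval x = 0 := by
    intro x hx
    rw [mem_sdiff] at hx
    obtain ⟨hxΩ, hxb⟩ := hx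
    have hxQ : x ^ Q = φ a := (mem_filter.1 hxΩ).2
    have hx0 : x ≠ 0 := by
      rintro rfl
      rw [zero_pow hQpos.ne'] at hxQ
      exact ha0 (φ.injective (by rw [map_zero]; exact hxQ.symm))
    have hper : ∀ d, 0 < d → d < j + 2 → x ^ (q ^ d) ≠ x := by
      intro d hd0 hd hxd
      apply hxb
      refine mem_filter.2 ⟨hxΩ, ?_⟩
      rcases le_or_gt d ((j + 2) / 2) with h | h
      · exact ⟨d, mem_Icc.2 ⟨hd0, h⟩, hxd⟩
      · refine ⟨j + 2 - d, mem_Icc.2 ⟨by omega, by omega⟩, ?_⟩
        calc x ^ (q ^ (j + 2 - d)) = (x ^ (q ^ d)) ^ (q ^ (j + 2 - d)) := by rw [hxd]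
          _ = x ^ Fintype.card K := by rw [← pow_mul, ← pow_add, hcK, Nat.add_sub_cancel' hd.le]
          _ = x := FiniteField.pow_card x
    let σ : ℕ → K := fun i => x ^ (q ^ i)
    have hσinj : Set.InjOn σ (range (j + 2) : Set ℕ) := by
      have key : ∀ i i', i < i' → i' < j + 2 → σ i ≠ σ i' := by
        intro i i' hlt hi' h
        refine hper (i' - i) (by omega) (by omega) ?_
        have hinj : Function.Injective fun y : K => y ^ (q ^ i) := fun y z hyz =>
          ((FiniteField.frobeniusAlgHom F K) ^ i).injective (by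
            simpa [AlgHom.coe_pow, FiniteField.coe_frobeniusAlgHom, pow_iterate] using hyz)
        apply hinj
        show (x ^ q ^ (i' - i)) ^ q ^ i = x ^ q ^ i
        rw [← pow_mul, ← pow_add, Nat.sub_add_cancel hlt.le]
        exact h.symm
      intro i hi i' hi' h
      simp only [coe_range, Set.mem_Iio] at hi hi'
      rcases lt_trichotomy i i' with hlt | hlt | hlt
      · exact absurd h (key i i' hlt hi')
      · exact hlt
      · exact absurd h.symm (key i' i hlt hi)
    set g := minpoly F x with hg
    have hgint : IsIntegral F x := IsIntegral.of_finite F x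
    have hgm : g.Monic := minpoly.monic hgint
    have hmapdeg : (g.map φ).natDegree = g.natDegree := natDegree_map _
    have hgroot : ∀ i ∈ range (j + 2), (g.map φ).IsRoot (σ i) := by
      intro i _
      have : aeval (((FiniteField.frobeniusAlgHom F K) ^ i) x) g = 0 := by
        rw [aeval_algHom_apply, minpoly.aeval, map_zero]
      rw [IsRoot, eval_map, ← aeval_def]
      simpa [σ, AlgHom.coe_pow, FiniteField.coe_frobeniusAlgHom, pow_iterate] using this
    have hgdeg : g.natDegree = j + 2 := by
      refine le_antisymm ((minpoly.natDegree_le (A := F) x).trans_eq (FiniteField.finrank_extension F p _)) ?_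
      have : ((range (j + 2)).image σ) ⊆ (g.map φ).roots.toFinset := by
        intro y hy
        obtain ⟨i, hi, rfl⟩ := mem_image.1 hy
        rw [Multiset.mem_toFinset, mem_roots (hgm.map φ).ne_zero]
        exact hgroot i hi
      have h := (card_le_card this).trans ((Multiset.toFinset_card_le _).trans (card_roots' _))
      rwa [card_image_of_injOn hσinj, card_range, hmapdeg] at h
    set PP := (((range (j + 2)).val.map σ).map fun y => X - C y).prod with hPP
    have hPPm : PP.Monic := monic_multiset_prod_of_monic _ _ fun y _ => monic_X_sub_C y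
    have hPPdeg : PP.natDegree = j + 2 := by
      rw [hPP, natDegree_multiset_prod_X_sub_C_eq_card, Multiset.card_map]
      exact card_range _
    have heq : g.map φ = PP := by
      refine sub_eq_zero.1 (eq_zero_of_natDegree_lt_card_of_eval_eq_zero' _ ((range (j + 2)).image σ)
        (fun y hy => ?_) ?_)
      · obtain ⟨i, hi, rfl⟩ := mem_image.1 hy
        have h1 : PP.eval (σ i) = 0 := by
          rw [hPP, eval_multiset_prod, Multiset.prod_eq_zero_iff]
          simp only [Multiset.mem_map, exists_exists_and_eq_and]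
          exact ⟨i, hi, by simp⟩
        rw [eval_sub, hgroot i hi, h1, sub_zero]
      · rw [card_image_of_injOn hσinj, card_range]
        have h1 := natDegree_sub_le (g.map φ) PP
        rw [hmapdeg, hgdeg, hPPdeg, max_self] at h1
        rcases lt_or_eq_of_le h1 with h | h
        · exact h
        · exfalso
          have h2 : (g.map φ - PP).coeff (j + 2) = 0 := by
            rw [coeff_sub]
            have e1 := (hgm.map φ).coeff_natDegree
            have e2 := hPPm.coeff_natDegree
            rw [hmapdeg, hgdeg] at e1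
            rw [hPPdeg] at e2
            rw [e1, e2, sub_self]
          have h3 : g.map φ - PP = 0 := leadingCoeff_eq_zero.1 (by rw [leadingCoeff, h]; exact h2)
          rw [h3, natDegree_zero] at h; omega
    have hcoef : ∀ m, m ≤ j + 2 → φ (g.coeff m) = (-1) ^ (j + 2 - m) *
        ∑ S ∈ powersetCard (j + 2 - m) (range (j + 2)), x ^ E S := by
      intro m hm
      have hcard : Multiset.card ((range (j + 2)).val.map σ) = j + 2 := by simp
      rw [← coeff_map, heq, hPP, Multiset.prod_X_sub_C_coeff _ (by rw [hcard]; exact hm),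
        Finset.esymm_map_val, hcard]
      congr 1
      exact sum_congr rfl fun S _ => by simp only [σ, E]; rw [prod_pow_eq_pow_sum]
    have h0 : g.coeff 0 = N := by
      apply φ.injective
      rw [hcoef 0 (by omega), Nat.sub_zero,
        show powersetCard (j + 2) (range (j + 2)) = {range (j + 2)} by
          conv_lhs => rw [← card_range (j + 2)]
          rw [card_range]; simpa using powersetCard_self (range (j + 2)),
        sum_singleton, show E (range (j + 2)) = Q from rfl, hxQ, ha, map_mul, ← mul_assoc,
        map_pow, map_neg, map_one, ← mul_pow]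
      rw [neg_one_mul, neg_neg, one_pow, one_mul]
    have hv := hcon g hgm hgdeg (minpoly.irreducible hgint) h0
    have heval : P.eval x = x ^ Q' * (φ (∑ i : Fin (j + 1), l i * g.coeff (i.val + 1)) - φ v) := by
      simp only [P, eval_sub, eval_mul, eval_C, eval_pow, eval_X, eval_finsetSum, map_sum,
        map_mul, mul_sub, mul_sum]
      congr 1
      · refine sum_congr rfl fun i _ => ?_
        rw [hcoef _ (by omega), show j + 2 - (i.val + 1) = j + 1 - i.val by omega, mul_sum, mul_sum,
          mul_sum]
        refine sum_congr rfl fun S hS => ?_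
        by_cases h : j + 1 ∈ S
        · simp only [tm, if_pos h, eval_mul, eval_C, eval_pow, eval_X]
          have hle : q ^ (j + 1) ≤ E S := single_le_sum (fun i _ => Nat.zero_le (q ^ i)) h
          have : x ^ Q' * x ^ E S = φ a * x ^ (E S - q ^ (j + 1)) := by
            rw [← hxQ, ← pow_add, ← pow_add]; congr 1; omega
          simp only [c]
          linear_combination (-(φ (l i) * (-1 : K) ^ (j + 1 - i.val))) * this
        · simp only [tm, if_neg h, eval_pow, eval_X, c, pow_add x]
          ring
      · ring
    rw [heval, hv, sub_self, mul_zero]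
  have hP0 : P = 0 := by
    refine eq_zero_of_natDegree_lt_card_of_eval_eq_zero' P (Ω \ bad) hroot ?_
    have : #Ω - #bad ≤ #(Ω \ bad) := le_card_sdiff _ _
    omega
  apply hl
  funext i
  have hm : j + 1 - i.val ≤ j + 1 := by omega
  set S0 := range (j + 1 - i.val) with hS0
  have hS0n : j + 1 ∉ S0 := by simp [hS0]
  have hE0 : 0 < E S0 := by
    have h1 : (0 : ℕ) ∈ S0 := by simp [hS0]; omega
    have := single_le_sum (f := fun i => q ^ i) (fun i _ => Nat.zero_le _) h1
    simp [E] at this ⊢; omega
  have h := congrArg (fun f : K[X] => f.coeff (E S0 + Q')) hP0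
  simp only [P, coeff_sub, finsetSum_coeff, coeff_C_mul, coeff_zero] at h
  rw [coeff_X_pow, if_neg (by omega), mul_zero, sub_zero, sum_eq_single i] at h
  · rw [sum_eq_single S0] at h
    · simp only [tm, if_neg hS0n, coeff_X_pow, if_pos, mul_one, c, mul_eq_zero] at h
      rcases h with h | h
      · exact φ.injective (by rw [h, Pi.zero_apply, map_zero])
      · exact absurd h (pow_ne_zero _ (neg_ne_zero.2 one_ne_zero))
    · intro S hS hne
      by_cases hh : j + 1 ∈ S
      · have := (hEle S (mem_powersetCard.1 hS).1).1 hh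
        simp only [tm, if_pos hh, coeff_C_mul, coeff_X_pow]
        rw [if_neg (by omega), mul_zero]
      · simp only [tm, if_neg hh, coeff_X_pow]
        rw [if_neg]
        intro he
        exact hne (geomSum_injective (show 2 ≤ q by omega) (show E S = E S0 by omega))
    · intro h'
      exact absurd (mem_powersetCard.2 ⟨range_subset_range.2 (by omega), card_range _⟩) h'
  · intro i' _ hne
    rw [sum_eq_zero, mul_zero]
    intro S hS
    by_cases hh : j + 1 ∈ S
    · have := (hEle S (mem_powersetCard.1 hS).1).1 hh
      simp only [tm, if_pos hh, coeff_C_mul, coeff_X_pow]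
      rw [if_neg (by omega), mul_zero]
    · simp only [tm, if_neg hh, coeff_X_pow]
      rw [if_neg]
      intro he
      have hS' := geomSum_injective (show 2 ≤ q by omega) (show E S = E S0 by omega)
      have hc := (mem_powersetCard.1 hS).2
      rw [hS', hS0, card_range] at hc
      exact hne (Fin.ext (by have := i.isLt; have := i'.isLt; omega))
  · exact fun h' => absurd (mem_univ _) h'

end CfsgLib.LevCover
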