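import Cfsg.Agent.LevCover.Pseudo

/-!
The covering number of the projective special linear group.
-/

set_option autoImplicit false
set_option linter.unusedSectionVars false
set_option linter.unusedSimpArgs false

namespace CfsgLib.LevCover

open Matrix Polynomial

variable {K : Type*} [Field K] [Fintype K]

/-- Every non-scalar matrix of determinant one covers in `n` factors. -/
theorem covers_all (h4 : 4 ≤ Fintype.card K) {n : ℕ} (hn3 : 3 ≤ n) {x : Matrix (Fin n) (Fin n) K}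
    (hx1 : x.det = 1) (hxs : ∀ t : K, x ≠ t • 1) : Covers x := by
  obtain ⟨d, m, a, X, Z, c, f₂, hd, hn, hc, hX, hsim, hroot, hf₂, hst⟩ :=
    exists_stack n x (by rw [hx1]; exact one_ne_zero) hxs
  rcases Nat.eq_zero_or_pos a with ha | ha
  · subst ha
    have hst' : Stack (fun f => f ∣ X.charpoly ∧ (f.natDegree = 2 → f = f₂))
        (c • (1 : Matrix (Fin 0) (Fin 0) K)) Z := hst.imp fun f hf => ⟨hf.1, hf.2.2⟩
    rcases (show n = 3 ∨ n = 4 ∨ 5 ≤ n by omega) with rfl | rfl | h5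
    · exact caseA_three h4 hx1 hd hn hX hsim hst'
    · exact caseA_four h4 hx1 hd hn hX hsim hf₂ hst'
    · exact caseA_five h4 h5 hx1 hd hn hX hsim hf₂ hst'
  · by_cases hp : d = 2 ∧ m = a
    · obtain ⟨rfl, hma⟩ := hp
      subst hma
      have hZ : Z = c • (1 : Matrix (Fin m) (Fin m) K) := by
        cases hst with
        | base => rfl
        | cons X' Z' g hd' hn' _ _ hZ' _ => exact absurd hn' (by have := hZ'.le; omega)
      subst hZ
      obtain ⟨h1, h2, h3⟩ := casePseudo h4 hn3 hn hx1 hc hX (hroot ha) hsim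
      exact covers_of_simProd h1 h2 h3
    · obtain ⟨h1, h2, h3⟩ := caseB h4 hn3 hx1 hc hd hn hX hsim ha (hroot ha) hf₂ hst hp
      exact covers_of_simProd h1 h2 h3

theorem coe_inv_eq {n : ℕ} (A : Matrix.SpecialLinearGroup (Fin n) K) :
    ((A⁻¹ : Matrix.SpecialLinearGroup (Fin n) K) : Matrix (Fin n) (Fin n) K) = (A : Matrix (Fin n) (Fin n) K)⁻¹ :=
  (Matrix.inv_eq_right_inv (by rw [← Matrix.SpecialLinearGroup.coe_mul, mul_inv_cancel,
    Matrix.SpecialLinearGroup.coe_one])).symm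

theorem coe_prod {n : ℕ} : ∀ L : List (Matrix.SpecialLinearGroup (Fin n) K),
    ((L.prod : Matrix.SpecialLinearGroup (Fin n) K) : Matrix (Fin n) (Fin n) K) =
      (L.map fun A : Matrix.SpecialLinearGroup (Fin n) K => (A : Matrix (Fin n) (Fin n) K)).prod
  | [] => by simp
  | A :: L => by rw [List.prod_cons, Matrix.SpecialLinearGroup.coe_mul, coe_prod L, List.map_cons, List.prod_cons]

theorem not_scalar_of_not_mem {n : ℕ} {x : Matrix.SpecialLinearGroup (Fin n) K}
    (hx : x ∉ Subgroup.center (Matrix.SpecialLinearGroup (Fin n) K)) :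
    ∀ t : K, (x : Matrix (Fin n) (Fin n) K) ≠ t • 1 := by
  intro t ht
  refine hx (Matrix.SpecialLinearGroup.mem_center_iff.2 ⟨t, ?_, ?_⟩)
  · have h := x.2
    rw [ht, det_smul, det_one, mul_one] at h
    exact h
  · rw [ht, Matrix.scalar_apply, Matrix.smul_one_eq_diagonal]

/-- The upper bound. -/
theorem covering_upper (h4 : 4 ≤ Fintype.card K) {n : ℕ} (hn : 3 ≤ n)
    (x : Matrix.ProjectiveSpecialLinearGroup (Fin n) K) (hx : x ≠ 1)
    (g : Matrix.ProjectiveSpecialLinearGroup (Fin n) K) :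
    ∃ f : Fin n → Matrix.ProjectiveSpecialLinearGroup (Fin n) K,
      g = (List.ofFn fun i => f i * x * (f i)⁻¹).prod := by
  obtain ⟨x, rfl⟩ := QuotientGroup.mk_surjective x
  obtain ⟨g, rfl⟩ := QuotientGroup.mk_surjective g
  have hxc : x ∉ Subgroup.center (Matrix.SpecialLinearGroup (Fin n) K) := fun h =>
    hx ((QuotientGroup.eq_one_iff x).2 h)
  obtain ⟨h1, h2⟩ := covers_all h4 hn x.2 (not_scalar_of_not_mem hxc)
  obtain ⟨c, P, hP, hprod⟩ : ∃ (c : K) (P : Fin n → Matrix (Fin n) (Fin n) K), (∀ i, (P i).det = 1) ∧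
      c • (g : Matrix (Fin n) (Fin n) K) =
        (List.ofFn fun i => P i * (x : Matrix (Fin n) (Fin n) K) * (P i)⁻¹).prod := by
    by_cases hg : ∀ t : K, (g : Matrix (Fin n) (Fin n) K) ≠ t • 1
    · obtain ⟨c, hc⟩ := h1 _ g.2 hg
      obtain ⟨P, hP, he⟩ := hc 1 one_ne_zero
      exact ⟨c, P, hP, he⟩
    · push Not at hg
      obtain ⟨t, ht⟩ := hg
      haveI : Nonempty (Fin n) := ⟨⟨0, by omega⟩⟩
      have ht0 : t ≠ 0 := fun h => by
        have h' := g.2
        rw [ht, h, zero_smul, det_zero] at h'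
        exact zero_ne_one h'
      obtain ⟨c, hc⟩ := h2
      obtain ⟨P, hP, he⟩ := hc 1 one_ne_zero
      refine ⟨c / t, P, hP, ?_⟩
      rw [ht, smul_smul, div_mul_cancel₀ _ ht0, he]
  set S : Fin n → Matrix.SpecialLinearGroup (Fin n) K := fun i => ⟨P i, hP i⟩
  set M := (List.ofFn fun i => S i * x * (S i)⁻¹).prod
  have hM : (M : Matrix (Fin n) (Fin n) K) = c • (g : Matrix (Fin n) (Fin n) K) := by
    rw [hprod, coe_prod, List.map_ofFn]
    congr 1
    refine congrArg List.ofFn (funext fun i => ?_)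
    simp only [Function.comp, Matrix.SpecialLinearGroup.coe_mul, coe_inv_eq]
    rfl
  refine ⟨fun i => (S i : Matrix.ProjectiveSpecialLinearGroup (Fin n) K), ?_⟩
  have hmk : (M : Matrix.ProjectiveSpecialLinearGroup (Fin n) K) =
      (List.ofFn fun i => (S i : Matrix.ProjectiveSpecialLinearGroup (Fin n) K) * (x : Matrix.ProjectiveSpecialLinearGroup (Fin n) K) * (S i : Matrix.ProjectiveSpecialLinearGroup (Fin n) K)⁻¹).prod := by
    show QuotientGroup.mk' _ M = _
    rw [map_list_prod, List.map_ofFn]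
    rfl
  rw [← hmk, QuotientGroup.eq, Matrix.SpecialLinearGroup.mem_center_iff]
  refine ⟨c, ?_, ?_⟩
  · have h := M.2
    rw [hM, det_smul, g.2, mul_one] at h
    exact h
  · rw [Matrix.SpecialLinearGroup.coe_mul, hM, coe_inv_eq, Matrix.mul_smul,
      Matrix.nonsing_inv_mul _ (by rw [g.2]; exact isUnit_one), Matrix.scalar_apply, Matrix.smul_one_eq_diagonal]

theorem exists_kernel {n : ℕ} (ψ : Fin n → Fin (n + 1) → K) : ∃ v : Fin (n + 1) → K, v ≠ 0 ∧ ∀ i, ψ i ⬝ᵥ v = 0 := by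
  set A : Matrix (Fin (n + 1)) (Fin (n + 1)) K := Matrix.of (Fin.snoc ψ 0 : Fin (n + 1) → Fin (n + 1) → K)
  have h : A.det = 0 := Matrix.det_eq_zero_of_row_eq_zero (Fin.last n) fun j => by simp [A]
  obtain ⟨v, hv, hv0⟩ := Matrix.exists_mulVec_eq_zero_iff.2 h
  refine ⟨v, hv, fun i => ?_⟩
  have := congrFun hv0 i.castSucc
  simpa [A, Matrix.mulVec] using this

/-- The lower bound. -/
theorem covering_lower (h4 : 4 ≤ Fintype.card K) {n : ℕ} (hn : 3 ≤ n) :
    ∃ x : Matrix.ProjectiveSpecialLinearGroup (Fin n) K, x ≠ 1 ∧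
      ∃ g : Matrix.ProjectiveSpecialLinearGroup (Fin n) K,
        ∀ f : Fin (n - 1) → Matrix.ProjectiveSpecialLinearGroup (Fin n) K,
          g ≠ (List.ofFn fun i => f i * x * (f i)⁻¹).prod := by
  classical
  obtain ⟨k, rfl⟩ : ∃ k, n = k + 2 := ⟨n - 2, by omega⟩
  have hlast : (Fin.last (k + 1) : Fin (k + 2)) ≠ 0 := fun h => by simpa using congrArg Fin.val h
  set w : Fin (k + 2) → K := Pi.single 0 1
  set φ : Fin (k + 2) → K := Pi.single (Fin.last (k + 1)) 1
  have hX : (1 + vecMulVec w φ).det = 1 := by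
    rw [vecMulVec_eq Unit, det_one_add_replicateCol_mul_replicateRow]
    simp [φ, w, hlast]
  set x : Matrix.SpecialLinearGroup (Fin (k + 2)) K := ⟨_, hX⟩
  obtain ⟨g₀, hg₀m, hg₀d, hg₀i, hg₀c, -⟩ := exists_irreducible h4 k (N := (-1 : K) ^ (k + 2))
    (pow_ne_zero _ (neg_ne_zero.2 one_ne_zero)) (l := fun _ => 1) (fun h => one_ne_zero (congrFun h 0)) (0 : K)
  obtain ⟨G, hGχ, -, -⟩ := exists_hess (k + 1) g₀ hg₀m hg₀d
  have hG : G.det = 1 := by
    rw [det_of_charpoly hGχ, hg₀c, ← pow_add, ← two_mul, pow_mul, neg_one_sq, one_pow]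
  obtain ⟨g', hg'⟩ : ∃ g' : Matrix.SpecialLinearGroup (Fin (k + 2)) K, g'.1 = G := ⟨⟨G, hG⟩, rfl⟩
  refine ⟨(x : Matrix.ProjectiveSpecialLinearGroup (Fin (k + 2)) K), fun h => ?_,
    (g' : Matrix.ProjectiveSpecialLinearGroup (Fin (k + 2)) K),
    fun f hf => ?_⟩
  · rw [QuotientGroup.eq_one_iff, Matrix.SpecialLinearGroup.mem_center_iff] at h
    obtain ⟨r, -, hr⟩ := h
    have h' := congrFun (congrFun hr 0) (Fin.last (k + 1))
    simp [x, w, φ, Matrix.scalar_apply, Matrix.diagonal, Ne.symm hlast, Matrix.one_apply, vecMulVec_apply] at h'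
  choose S hS using fun i => QuotientGroup.mk_surjective (f i)
  set L := List.ofFn fun i => S i * x * (S i)⁻¹
  have hmk : (L.prod : Matrix.ProjectiveSpecialLinearGroup (Fin (k + 2)) K) =
      (List.ofFn fun i => f i * (x : Matrix.ProjectiveSpecialLinearGroup (Fin (k + 2)) K) * (f i)⁻¹).prod := by
    show QuotientGroup.mk' _ L.prod = _
    rw [map_list_prod, List.map_ofFn]
    congr 1
    refine congrArg List.ofFn (funext fun i => ?_)
    rw [← hS i]
    rfl
  rw [← hmk, QuotientGroup.eq, Matrix.SpecialLinearGroup.mem_center_iff] at hf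
  obtain ⟨r, hr1, hr⟩ := hf
  rw [Matrix.SpecialLinearGroup.coe_mul, coe_inv_eq, hg'] at hr
  have hGr : (L.prod : Matrix (Fin (k + 2)) (Fin (k + 2)) K) = r • G := by
    have h := congrArg (G * ·) hr
    simp only [← Matrix.mul_assoc, Matrix.mul_nonsing_inv G (by rw [hG]; exact isUnit_one), Matrix.one_mul] at h
    rw [← h, Matrix.scalar_apply, ← Matrix.smul_one_eq_diagonal, Matrix.mul_smul, Matrix.mul_one]
  obtain ⟨v, hv, hψ⟩ := exists_kernel (n := k + 1)
    fun i => φ ᵥ* ((S i)⁻¹ : Matrix.SpecialLinearGroup (Fin (k + 2)) K).1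
  have hfix : ∀ i, ((S i * x * (S i)⁻¹ : Matrix.SpecialLinearGroup (Fin (k + 2)) K) :
      Matrix (Fin (k + 2)) (Fin (k + 2)) K) *ᵥ v = v := by
    intro i
    simp only [Matrix.SpecialLinearGroup.coe_mul]
    have e : ((S i).1 * (1 + vecMulVec w φ)) * (S i)⁻¹.1 = 1 + vecMulVec ((S i).1 *ᵥ w) (φ ᵥ* (S i)⁻¹.1) := by
      refine conj_one_add ?_ w φ
      rw [← Matrix.SpecialLinearGroup.coe_mul, mul_inv_cancel, Matrix.SpecialLinearGroup.coe_one]
    show ((S i).1 * (1 + vecMulVec w φ) * (S i)⁻¹.1) *ᵥ v = v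
    rw [e, add_mulVec, one_mulVec, vecMulVec_mulVec, hψ i, MulOpposite.op_zero, zero_smul, add_zero]
  have hP : ∀ L' : List (Matrix (Fin (k + 2)) (Fin (k + 2)) K), (∀ A ∈ L', A *ᵥ v = v) → L'.prod *ᵥ v = v := by
    intro L'
    induction L' with
    | nil => simp
    | cons A L' ih =>
      intro h
      rw [List.prod_cons, ← mulVec_mulVec, ih fun B hB => h B (List.mem_cons_of_mem _ hB), h A List.mem_cons_self]
  have hv1 : (r • G) *ᵥ v = v := by
    rw [← hGr, coe_prod, List.map_ofFn]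
    refine hP _ fun A hA => ?_
    obtain ⟨i, rfl⟩ := List.mem_ofFn.1 hA
    exact hfix i
  have hr0 : r ≠ 0 := fun h => by rw [h, zero_pow (by simp)] at hr1; exact zero_ne_one hr1
  have hroot : g₀.IsRoot r⁻¹ := by
    rw [← hGχ]
    refine eigen_root hv ?_
    have h := congrArg (r⁻¹ • ·) hv1
    rwa [smul_mulVec, smul_smul, inv_mul_cancel₀ hr0, one_smul] at h
  have h1 : g₀.natDegree = 1 := natDegree_eq_of_degree_eq_some (degree_eq_one_of_irreducible_of_root hg₀i hroot)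
  omega

end CfsgLib.LevCover
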