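import Cfsg.Agent.LevCover.Unif

/-!
Small pieces with one repeated eigenvalue, and orderings of spectra.
-/

set_option autoImplicit false
set_option linter.unusedSectionVars false
set_option linter.unusedSimpArgs false

namespace CfsgLib.LevCover

open Matrix Polynomial

variable {K : Type*} [Field K]

theorem piece_of_single {n : ℕ} {A Y : Matrix (Fin n) (Fin n) K} {b : K} (hc : Cyc (A * Y)) (ht : Tri (A * Y))
    (hroot : ∀ θ, (A * Y).charpoly.IsRoot θ → θ = b) : Piece A Y b := by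
  refine ⟨hc, ht, fun φ θ s hφ h _ => hroot θ ?_⟩
  have hdet : (A * Y - θ • 1).det = 0 :=
    Matrix.exists_vecMul_eq_zero_iff.1 ⟨φ, hφ, by rw [vecMul_sub, vecMul_smul, vecMul_one, h, sub_self]⟩
  obtain ⟨v, hv, hv0⟩ := Matrix.exists_mulVec_eq_zero_iff.2 hdet
  rw [sub_mulVec, smul_mulVec, one_mulVec, sub_eq_zero] at hv0
  exact eigen_root hv hv0

theorem piece_upper_two {A Y : Matrix (Fin 2) (Fin 2) K} {b u : K} (hu : u ≠ 0) (h : A * Y = !![b, u; 0, b]) :
    Piece A Y b ∧ (A * Y).charpoly = (Polynomial.X - Polynomial.C b) * (Polynomial.X - Polynomial.C b) := by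
  have hχ : (A * Y).charpoly = (Polynomial.X - Polynomial.C b) * (Polynomial.X - Polynomial.C b) := by
    rw [h, Matrix.charpoly_fin_two]; simp [trace_fin_two, det_fin_two]; ring
  refine ⟨piece_of_single ?_ ⟨1, 1, one_mul _, one_mul _, fun i j hij => ?_⟩ ?_, hχ⟩
  · rw [h]
    refine ⟨![0, 1], cycV_of_krylov ?_⟩
    simp [SLCommutator.krylov, det_fin_two, Matrix.mulVec, dotProduct, hu]
  · rw [Matrix.one_mul, Matrix.mul_one, h]
    fin_cases i <;> fin_cases j <;> simp at hij ⊢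
  · intro θ hθ
    rw [hχ, Polynomial.IsRoot, eval_mul, mul_self_eq_zero, eval_sub, eval_X, eval_C, sub_eq_zero] at hθ
    exact hθ

theorem piece_lower_two {A Y : Matrix (Fin 2) (Fin 2) K} {b u : K} (hu : u ≠ 0) (h : A * Y = !![b, 0; u, b]) :
    Piece A Y b ∧ (A * Y).charpoly = (Polynomial.X - Polynomial.C b) * (Polynomial.X - Polynomial.C b) := by
  have hχ : (A * Y).charpoly = (Polynomial.X - Polynomial.C b) * (Polynomial.X - Polynomial.C b) := by
    rw [h, Matrix.charpoly_fin_two]; simp [trace_fin_two, det_fin_two]; ring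
  refine ⟨piece_of_single ?_ ⟨!![0, 1; 1, 0], !![0, 1; 1, 0], ?_, ?_, fun i j hij => ?_⟩ ?_, hχ⟩
  · rw [h]
    refine ⟨![1, 0], cycV_of_krylov ?_⟩
    simp [SLCommutator.krylov, det_fin_two, Matrix.mulVec, dotProduct, hu]
  · simp [Matrix.one_fin_two]
  · simp [Matrix.one_fin_two]
  · rw [h]
    fin_cases i <;> fin_cases j <;> simp at hij ⊢
  · intro θ hθ
    rw [hχ, Polynomial.IsRoot, eval_mul, mul_self_eq_zero, eval_sub, eval_X, eval_C, sub_eq_zero] at hθ
    exact hθ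

variable [Fintype K]

/-- A double eigenvalue `-N` from a quadratic matrix with non-zero trace. -/
theorem piece_double {N s : K} (hN : N ≠ 0) (hs : s ≠ 0) (h2 : (2 : K) ≠ 0) :
    Sim (!![0, -N; 1, s]) (!![s, -N; 1, 0]) ∧ Piece (!![0, -N; 1, s]) (!![s, -N; 1, 0]) (-N) ∧
      ((!![0, -N; 1, s]) * (!![s, -N; 1, 0])).charpoly =
        (Polynomial.X - Polynomial.C (-N)) * (Polynomial.X - Polynomial.C (-N)) := by
  have hY : Cyc (!![s, -N; 1, 0]) := by
    refine ⟨![1, 0], cycV_of_krylov ?_⟩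
    simp [SLCommutator.krylov, det_fin_two, Matrix.mulVec, dotProduct]
  refine ⟨sim_of_cyc sim_fin_two.2 hY ?_, piece_lower_two (u := 2 * s) (mul_ne_zero h2 hs) ?_⟩
  · rw [Matrix.charpoly_fin_two, Matrix.charpoly_fin_two]
    simp [trace_fin_two, det_fin_two]
  · ext i j
    fin_cases i <;> fin_cases j <;> simp [Matrix.mul_apply, Fin.sum_univ_two]
    ring

/-- A double eigenvalue from a diagonal matrix. -/
theorem piece_diag {r₁ r₂ : K} (h1 : r₁ ≠ 0) (hne : r₁ ≠ r₂) :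
    Sim (Matrix.diagonal ![r₁, r₂]) (!![r₂, 1; 0, r₁]) ∧
      Piece (Matrix.diagonal ![r₁, r₂]) (!![r₂, 1; 0, r₁]) (r₁ * r₂) ∧
      (Matrix.diagonal ![r₁, r₂] * !![r₂, 1; 0, r₁]).charpoly =
        (Polynomial.X - Polynomial.C (r₁ * r₂)) * (Polynomial.X - Polynomial.C (r₁ * r₂)) := by
  have hD : Cyc (Matrix.diagonal ![r₁, r₂]) := by
    refine ⟨![1, 1], cycV_of_krylov ?_⟩
    simp [SLCommutator.krylov, det_fin_two, Matrix.mulVec_diagonal, sub_eq_zero, hne.symm]
  have hY : Cyc (!![r₂, 1; 0, r₁]) := by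
    refine ⟨![0, 1], cycV_of_krylov ?_⟩
    simp [SLCommutator.krylov, det_fin_two, Matrix.mulVec, dotProduct]
  refine ⟨sim_of_cyc hD hY ?_, piece_upper_two (u := r₁) h1 ?_⟩
  · rw [charpoly_diagonal, Matrix.charpoly_fin_two]
    simp [trace_fin_two, det_fin_two, Fin.prod_univ_two]
    ring
  · ext i j
    fin_cases i <;> fin_cases j <;> simp [Matrix.mul_apply, Fin.sum_univ_two, Matrix.diagonal]
    ring

theorem jordan_two (ρ : K) : Cyc (!![ρ, 1; 0, ρ]) ∧
    (!![ρ, 1; 0, ρ] : Matrix (Fin 2) (Fin 2) K).charpoly =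
      (Polynomial.X - Polynomial.C ρ) * (Polynomial.X - Polynomial.C ρ) := by
  refine ⟨⟨![0, 1], cycV_of_krylov ?_⟩, ?_⟩
  · simp [SLCommutator.krylov, det_fin_two, Matrix.mulVec, dotProduct]
  · rw [Matrix.charpoly_fin_two]; simp [trace_fin_two, det_fin_two]; ring

/-- A repeated eigenvalue from two conjugates of a Jordan block, of every determinant ratio. -/
theorem flex_jordan (h4 : 4 ≤ Fintype.card K) {ρ : K} (hρ : ρ ≠ 0) :
    ∀ r : K, r ≠ 0 → ∃ P : Matrix (Fin 2) (Fin 2) K, P.det = r ∧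
      Piece (!![ρ, 1; 0, ρ]) (P * !![ρ, 1; 0, ρ] * P⁻¹) (ρ * ρ) ∧
      (!![ρ, 1; 0, ρ] * (P * !![ρ, 1; 0, ρ] * P⁻¹)).charpoly =
        (Polynomial.X - Polynomial.C (ρ * ρ)) * (Polynomial.X - Polynomial.C (ρ * ρ)) := by
  classical
  intro r hr
  obtain ⟨w, hw0, hw⟩ : ∃ w : K, w ≠ 0 ∧ r / (w * w) ≠ -1 := by
    by_cases hr1 : r = -1
    · obtain ⟨u, hu⟩ := exists_notMem ({0, 1, -1} : Finset K) (by
        refine lt_of_le_of_lt (Finset.card_insert_le _ _) ?_
        refine lt_of_le_of_lt (Nat.add_le_add_right (Finset.card_insert_le _ _) 1) ?_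
        rw [Finset.card_singleton]; omega)
      simp only [Finset.mem_insert, Finset.mem_singleton, not_or] at hu
      refine ⟨u, hu.1, fun h => ?_⟩
      rw [hr1, div_eq_iff (mul_self_ne_zero.2 hu.1)] at h
      rcases mul_self_eq_one_iff.1 (show u * u = 1 by linear_combination h) with h' | h'
      · exact hu.2.1 h'
      · exact hu.2.2 h'
    · exact ⟨1, one_ne_zero, by simpa using hr1⟩
  set t := r / (w * w) with ht
  set P : Matrix (Fin 2) (Fin 2) K := !![w * t, 0; 0, w] with hP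
  have hPd : P.det = r := by
    rw [hP, det_fin_two, ht]; simp; field_simp
  have hinv : P * !![ρ, 1; 0, ρ] * P⁻¹ = !![ρ, t; 0, ρ] := by
    have u : IsUnit P.det := isUnit_iff_ne_zero.2 (by rw [hPd]; exact hr)
    have h : P * !![ρ, 1; 0, ρ] = !![ρ, t; 0, ρ] * P := by
      rw [hP]; ext i j
      fin_cases i <;> fin_cases j <;> simp [Matrix.mul_apply, Fin.sum_univ_two] <;> ring
    rw [h, Matrix.mul_nonsing_inv_cancel_right _ _ u]
  refine ⟨P, hPd, ?_⟩
  rw [hinv]
  refine piece_upper_two (u := ρ * (t + 1)) (mul_ne_zero hρ fun h => hw (by linear_combination h)) ?_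
  ext i j
  fin_cases i <;> fin_cases j <;> simp [Matrix.mul_apply, Fin.sum_univ_two]
  ring

/-- Contiguous ordering keeping the first value first. -/
theorem exists_runs_first {m : ℕ} (β : Fin (m + 1) → K) :
    ∃ σ : Equiv.Perm (Fin (m + 1)), Runs (β ∘ σ) ∧ β (σ 0) = β 0 := by
  classical
  obtain ⟨c, hc⟩ : ∃ c, Fintype.card K = c + 1 := ⟨Fintype.card K - 1, by have := Fintype.card_pos (α := K); omega⟩
  let e : K ≃ Fin (c + 1) := (Fintype.equivFinOfCardEq hc).trans
    (Equiv.swap 0 (Fintype.equivFinOfCardEq hc (β 0)))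
  have he : e (β 0) = 0 := by simp [e]
  let f : Fin (m + 1) → Fin (c + 1) := fun i => e (β i)
  have hm := Tuple.monotone_sort f
  refine ⟨Tuple.sort f, fun i j l hij hjl h => ?_, ?_⟩
  · have h3 : (f ∘ Tuple.sort f) i = (f ∘ Tuple.sort f) l := congrArg e h
    exact e.injective (le_antisymm (hm hij.le) ((hm hjl.le).trans h3.ge))
  · apply e.injective
    rw [he]
    have h0 : (f ∘ Tuple.sort f) 0 ≤ (f ∘ Tuple.sort f) ((Tuple.sort f).symm 0) := hm (Fin.zero_le _)
    simp only [Function.comp, Equiv.apply_symm_apply, f, he] at h0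
    exact Fin.le_zero_iff.1 h0

theorem good_cyc {k : ℕ} {X : Matrix (Fin (k + 2)) (Fin (k + 2)) K} (hX : Cyc X) (hk : 1 ≤ k)
    (β : Fin (k + 2) → K) : Good X β := by
  obtain ⟨m, rfl⟩ : ∃ m, k = m + 1 := ⟨k - 1, by omega⟩
  obtain ⟨e, he⟩ := hX
  exact Or.inr ⟨m, rfl, e, cycV_nonquad he⟩

/-- The polynomial is a product of linear factors none vanishing at `b`. -/
def Avoid (b : K) (p : K[X]) : Prop :=
  ∃ (m : ℕ) (γ : Fin m → K), p = ∏ i, (Polynomial.X - Polynomial.C (γ i)) ∧ ∀ i, γ i ≠ b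

theorem avoid_one (b : K) : Avoid b (1 : K[X]) := ⟨0, Fin.elim0, by simp, fun i => i.elim0⟩

theorem avoid_mul {b : K} {f g : K[X]} (hf : Avoid b f) (hg : Avoid b g) : Avoid b (f * g) := by
  obtain ⟨m, γ, rfl, h1⟩ := hf
  obtain ⟨j, δ, rfl, h2⟩ := hg
  refine ⟨m + j, Fin.append γ δ, (prod_append γ δ).symm, fun i => ?_⟩
  refine Fin.addCases (fun i => ?_) (fun i => ?_) i
  · rw [Fin.append_left]; exact h1 i
  · rw [Fin.append_right]; exact h2 i

theorem Avoid.eval {b : K} {p : K[X]} (h : Avoid b p) : p.eval b ≠ 0 := by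
  obtain ⟨m, γ, rfl, h⟩ := h
  rw [eval_prod]
  exact Finset.prod_ne_zero_iff.2 fun i _ => by simpa [sub_eq_zero] using (h i).symm

/-- A spectrum for a block, with first value `a`, avoiding `b`. -/
theorem exists_spec_avoid (h4 : 4 ≤ Fintype.card K) {k : ℕ} (hk : 1 ≤ k) {a b : K} (ha : a ≠ 0) (hab : a ≠ b)
    {P : K} (hP : P ≠ 0) :
    ∃ β : Fin (k + 2) → K, β 0 = a ∧ Runs β ∧ ∏ i, β i = P ∧ ∀ i, β i ≠ b := by
  obtain ⟨v, -, hv, hvp, -⟩ := exists_values h4 (m := k + 1) (by omega) b (div_ne_zero hP ha)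
  obtain ⟨σ, hσ, hσ0⟩ := exists_runs_first (Fin.cons a v : Fin (k + 2) → K)
  refine ⟨Fin.cons a v ∘ σ, by simpa using hσ0, hσ, ?_, fun i => ?_⟩
  · simp only [Function.comp]
    rw [Equiv.prod_comp σ (Fin.cons a v : Fin (k + 2) → K), Fin.prod_univ_succ]
    simp [hvp]
    field_simp
  · simp only [Function.comp]
    generalize σ i = l
    refine Fin.cases ?_ (fun l => ?_) l
    · simpa using hab
    · simpa using hv l

theorem runs_two (β : Fin 2 → K) : Runs β :=
  fun i j l hij hjl _ => absurd hjl (by have := i.isLt; have := l.isLt; omega)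

theorem runs_three {a b c : K} (h : a = c → a = b) : Runs ![a, b, c] := by
  intro i j l hij hjl he
  obtain ⟨rfl, rfl, rfl⟩ : i = 0 ∧ j = 1 ∧ l = 2 := by
    have := i.isLt; have := j.isLt; have := l.isLt
    refine ⟨Fin.ext ?_, Fin.ext ?_, Fin.ext ?_⟩ <;> simp <;> omega
  simpa using h (by simpa using he)

/-- The polynomial of a product with a simple value on top. -/
theorem simplePoly_cons {n : ℕ} {R : Matrix (Fin n) (Fin n) K} {b : K} {m : ℕ} {β : Fin m → K} {p : K[X]}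
    (hR : R.charpoly = (∏ i, (Polynomial.X - Polynomial.C (β i))) * p) (hm : 0 < m)
    (hb : ∀ i, i.val = 0 → β i = b) (hne : ∀ i, i.val ≠ 0 → β i ≠ b) (hp : Avoid b p) : SimplePoly R := by
  obtain ⟨j, γ, rfl, hγ⟩ := hp
  obtain rfl : m + j = n := by
    have h := charpoly_natDegree_eq_dim R
    rw [hR, ← prod_append, natDegree_prod _ _ fun i _ => X_sub_C_ne_zero _] at h
    simpa using h
  refine ⟨Fin.append β γ, by rw [hR, prod_append], fun i l hi hl => ?_⟩
  obtain rfl : i = Fin.castAdd j ⟨0, hm⟩ := Fin.ext (by simpa using hi)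
  rw [Fin.append_left, hb ⟨0, hm⟩ rfl]
  refine Fin.addCases (fun l hl => ?_) (fun l _ => ?_) l hl
  · rw [Fin.append_left]; exact hne l (by simpa using hl)
  · rw [Fin.append_right]; exact hγ l

end CfsgLib.LevCover
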