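import Cfsg.Agent.LevCover.Shapes

/-!
Products of conjugates: up to similarity, and with prescribed determinants of the conjugators.
-/

set_option autoImplicit false
set_option linter.unusedSectionVars false
set_option linter.unusedSimpArgs false

namespace CfsgLib.LevCover

open Matrix

variable {K : Type*} [Field K] {ι κ μ : Type*} [Fintype ι] [DecidableEq ι] [Fintype κ] [DecidableEq κ]
  [Fintype μ] [DecidableEq μ]

/-- `R` is a product of `m` matrices similar to `x`. -/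
def SimProd (x : Matrix ι ι K) (m : ℕ) (R : Matrix κ κ K) : Prop :=
  ∃ f : Fin m → Matrix κ κ K, (∀ i, Sim x (f i)) ∧ R = (List.ofFn f).prod

theorem SimProd.one {x : Matrix ι ι K} {y : Matrix κ κ K} (h : Sim x y) : SimProd x 1 y :=
  ⟨fun _ => y, fun _ => h, by simp⟩

theorem SimProd.mul {x : Matrix ι ι K} {m j : ℕ} {R S : Matrix κ κ K} (h : SimProd x m R)
    (h' : SimProd x j S) : SimProd x (m + j) (R * S) := by
  obtain ⟨f, hf, rfl⟩ := h
  obtain ⟨f', hf', rfl⟩ := h'
  refine ⟨Fin.append f f', fun i => ?_, by rw [List.ofFn_fin_append, List.prod_append]⟩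
  refine Fin.addCases (fun i => ?_) (fun i => ?_) i
  · simpa using hf i
  · simpa using hf' i

theorem prod_conj {P : Matrix μ κ K} {P' : Matrix κ μ K} (h1 : P * P' = 1) (h2 : P' * P = 1) :
    ∀ L : List (Matrix κ κ K), (L.map fun A => P * A * P').prod = P * L.prod * P' := by
  intro L
  induction L with
  | nil => simp [h1]
  | cons A L ih =>
    rw [List.map_cons, List.prod_cons, List.prod_cons, ih]
    simp only [Matrix.mul_assoc]
    rw [← Matrix.mul_assoc P' P, h2, Matrix.one_mul]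

theorem SimProd.of_sim {x : Matrix ι ι K} {m : ℕ} {R : Matrix κ κ K} {R' : Matrix μ μ K}
    (h : SimProd x m R) (hs : Sim R R') : SimProd x m R' := by
  obtain ⟨f, hf, rfl⟩ := h
  obtain ⟨P, P', h1, h2, rfl⟩ := hs
  refine ⟨fun i => P * f i * P', fun i => (hf i).trans ⟨P, P', h1, h2, rfl⟩, ?_⟩
  rw [← prod_conj h1 h2, List.map_ofFn]
  rfl

theorem SimProd.det_ne {x : Matrix ι ι K} (hx : x.det ≠ 0) {m : ℕ} {R : Matrix κ κ K} (h : SimProd x m R) :
    R.det ≠ 0 := by
  obtain ⟨f, hf, rfl⟩ := h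
  suffices ∀ L : List (Matrix κ κ K), (∀ A ∈ L, A.det ≠ 0) → L.prod.det ≠ 0 from
    this _ fun A hA => by
      obtain ⟨i, rfl⟩ := List.mem_ofFn.1 hA
      exact (hf i).det_ne hx
  intro L
  induction L with
  | nil => simp
  | cons A L ih =>
    intro h
    rw [List.prod_cons, det_mul]
    exact mul_ne_zero (h A List.mem_cons_self) (ih fun B hB => h B (List.mem_cons_of_mem _ hB))

theorem SimProd.det_eq {x : Matrix ι ι K} {m : ℕ} {R : Matrix ι ι K} (h : SimProd x m R) :
    R.det = x.det ^ m := by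
  obtain ⟨f, hf, rfl⟩ := h
  suffices ∀ L : List (Matrix ι ι K), (∀ A ∈ L, A.det = x.det) → L.prod.det = x.det ^ L.length by
    rw [this _ fun A hA => by
      obtain ⟨i, rfl⟩ := List.mem_ofFn.1 hA
      exact (hf i).det_eq]
    simp
  intro L
  induction L with
  | nil => simp
  | cons A L ih =>
    intro h
    rw [List.prod_cons, det_mul, h A List.mem_cons_self, ih fun B hB => h B (List.mem_cons_of_mem _ hB),
      List.length_cons, pow_succ']

theorem SimProd.congr_base {x : Matrix ι ι K} {x' : Matrix μ μ K} (hs : Sim x x') {m : ℕ}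
    {R : Matrix κ κ K} (h : SimProd x' m R) : SimProd x m R := by
  obtain ⟨f, hf, rfl⟩ := h
  exact ⟨f, fun i => hs.trans (hf i), rfl⟩

/-- The centraliser has every non-zero determinant. -/
def Surj (x : Matrix ι ι K) : Prop := ∀ d : K, d ≠ 0 → ∃ P : Matrix ι ι K, P.det = d ∧ P * x = x * P

/-- `R` is a product of `m` conjugates of `x`, with arbitrary determinants of the conjugators. -/
def Prods (x : Matrix ι ι K) (m : ℕ) (R : Matrix ι ι K) : Prop :=
  ∀ d : Fin m → K, (∀ i, d i ≠ 0) → ∃ P : Fin m → Matrix ι ι K, (∀ i, (P i).det = d i) ∧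
    R = (List.ofFn fun i => P i * x * (P i)⁻¹).prod

theorem Sim.det_left {A B : Matrix ι ι K} {P P' : Matrix ι ι K} (h1 : P * P' = 1) :
    P.det ≠ 0 ∧ P' = P⁻¹ := by
  refine ⟨fun h => ?_, (Matrix.inv_eq_right_inv h1).symm⟩
  have := congrArg det h1
  rw [det_mul, h, zero_mul, det_one] at this
  exact zero_ne_one this

theorem Prods.of_simProd {x : Matrix ι ι K} (hx : Surj x) {m : ℕ} {R : Matrix ι ι K} (h : SimProd x m R) :
    Prods x m R := by
  obtain ⟨f, hf, rfl⟩ := h
  intro d hd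
  choose P P' h1 h2 hP using hf
  have hdet : ∀ i, (P i).det ≠ 0 := fun i => (Sim.det_left (A := x) (B := f i) (h1 i)).1
  choose Z hZd hZc using fun i => hx (d i / (P i).det) (div_ne_zero (hd i) (hdet i))
  refine ⟨fun i => P i * Z i, fun i => by rw [det_mul, hZd, mul_div_cancel₀ _ (hdet i)], ?_⟩
  congr 1
  refine congrArg List.ofFn (funext fun i => ?_)
  have u : IsUnit (Z i).det := isUnit_iff_ne_zero.2 (by rw [hZd]; exact div_ne_zero (hd i) (hdet i))
  rw [hP i, (Sim.det_left (A := x) (B := f i) (h1 i)).2, Matrix.mul_inv_rev]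
  calc P i * x * (P i)⁻¹ = P i * (x * Z i * (Z i)⁻¹) * (P i)⁻¹ := by
        rw [Matrix.mul_assoc x, Matrix.mul_nonsing_inv _ u, Matrix.mul_one]
    _ = P i * (Z i * x * (Z i)⁻¹) * (P i)⁻¹ := by rw [hZc i]
    _ = P i * Z i * x * ((Z i)⁻¹ * (P i)⁻¹) := by simp only [Matrix.mul_assoc]

theorem Prods.mul {x : Matrix ι ι K} {m j : ℕ} {R S : Matrix ι ι K} (h : Prods x m R) (h' : Prods x j S) :
    Prods x (m + j) (R * S) := by
  intro d hd
  obtain ⟨P, hP, rfl⟩ := h (fun i => d (Fin.castAdd j i)) fun i => hd _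
  obtain ⟨Q, hQ, rfl⟩ := h' (fun i => d (Fin.natAdd m i)) fun i => hd _
  refine ⟨Fin.append P Q, fun i => ?_, ?_⟩
  · refine Fin.addCases (fun i => ?_) (fun i => ?_) i
    · simpa using hP i
    · simpa using hQ i
  · rw [← List.prod_append, ← List.ofFn_fin_append]
    congr 1
    refine congrArg List.ofFn (funext fun i => ?_)
    refine Fin.addCases (fun i => ?_) (fun i => ?_) i <;> simp

theorem Prods.of_sim {x : Matrix ι ι K} {m : ℕ} {R R' : Matrix ι ι K} (h : Prods x m R) (hs : Sim R R') :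
    Prods x m R' := by
  obtain ⟨Q, Q', h1, h2, rfl⟩ := hs
  obtain ⟨hQ, rfl⟩ := Sim.det_left (A := R) (B := Q * R * Q') h1
  intro d hd
  obtain ⟨P, hP, rfl⟩ := h (fun i => d i / Q.det) fun i => div_ne_zero (hd i) hQ
  refine ⟨fun i => Q * P i, fun i => by rw [det_mul, hP, mul_div_cancel₀ _ hQ], ?_⟩
  rw [← prod_conj h1 h2, List.map_ofFn]
  congr 1
  refine congrArg List.ofFn (funext fun i => ?_)
  simp only [Function.comp, Matrix.mul_inv_rev, Matrix.mul_assoc]

/-- Left multiplication by one more conjugate. -/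
theorem Prods.cons {x : Matrix ι ι K} {j : ℕ} {S y : Matrix ι ι K} (h : Prods x j S) (hy : Sim x y)
    (hR : Surj (y * S)) : Prods x (1 + j) (y * S) := by
  intro d hd
  obtain ⟨Q, Q', h1, h2, rfl⟩ := hy
  obtain ⟨hQ, rfl⟩ := Sim.det_left (A := x) (B := Q * x * Q') h1
  obtain ⟨Z, hZd, hZc⟩ := hR (d (Fin.castAdd j 0) / Q.det) (div_ne_zero (hd _) hQ)
  have hZ : Z.det ≠ 0 := by rw [hZd]; exact div_ne_zero (hd _) hQ
  have uZ : IsUnit Z.det := isUnit_iff_ne_zero.2 hZ
  obtain ⟨P, hP, hS⟩ := h.of_sim (R' := Z * S * Z⁻¹) ⟨Z, Z⁻¹, Matrix.mul_nonsing_inv Z uZ,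
    Matrix.nonsing_inv_mul Z uZ, rfl⟩ (fun i => d (Fin.natAdd 1 i)) fun i => hd _
  refine ⟨Fin.append (fun _ : Fin 1 => Z * Q) P, fun i => ?_, ?_⟩
  · refine Fin.addCases (fun i => ?_) (fun i => ?_) i
    · rw [Fin.append_left, det_mul, hZd, div_mul_cancel₀ _ hQ, Fin.fin_one_eq_zero i]
    · rw [Fin.append_right]; exact hP i
  · have e : (fun i => Fin.append (fun _ : Fin 1 => Z * Q) P i * x * (Fin.append (fun _ : Fin 1 => Z * Q) P i)⁻¹) =
        Fin.append (fun _ : Fin 1 => Z * Q * x * (Z * Q)⁻¹) fun i => P i * x * (P i)⁻¹ := by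
      funext i
      refine Fin.addCases (fun i => ?_) (fun i => ?_) i <;> simp
    rw [e, List.ofFn_fin_append, List.prod_append, ← hS, List.ofFn_succ, List.ofFn_zero, List.prod_singleton,
      Matrix.mul_inv_rev]
    calc Q * x * Q⁻¹ * S = Q * x * Q⁻¹ * S * (Z * Z⁻¹) := by rw [Matrix.mul_nonsing_inv Z uZ, Matrix.mul_one]
      _ = Q * x * Q⁻¹ * S * Z * Z⁻¹ := by simp only [Matrix.mul_assoc]
      _ = Z * (Q * x * Q⁻¹ * S) * Z⁻¹ := by rw [hZc]
      _ = Z * Q * x * (Q⁻¹ * (Z⁻¹ * Z)) * S * Z⁻¹ := by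
        rw [Matrix.nonsing_inv_mul Z uZ, Matrix.mul_one]; simp only [Matrix.mul_assoc]
      _ = Z * Q * x * (Q⁻¹ * Z⁻¹) * (Z * S * Z⁻¹) := by simp only [Matrix.mul_assoc]

theorem Surj.of_sim {A : Matrix ι ι K} {B : Matrix κ κ K} (hs : Sim A B) (h : Surj A)
    (σ : ι ≃ κ) : Surj B := by
  obtain ⟨P, P', h1, h2, rfl⟩ := hs
  intro d hd
  obtain ⟨Z, hZd, hZc⟩ := h d hd
  refine ⟨P * Z * P', ?_, ?_⟩
  · have e2 : (P.submatrix σ id * Z * P'.submatrix id σ).det = Z.det := by
      rw [det_mul, det_mul, mul_comm (P.submatrix σ id).det, mul_assoc, ← det_mul,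
        ← Matrix.submatrix_mul _ _ σ id σ Function.bijective_id, h1, Matrix.submatrix_one_equiv, det_one, mul_one]
    rw [← hZd, ← e2, ← Matrix.det_submatrix_equiv_self σ (P * Z * P'),
      Matrix.submatrix_mul _ _ σ id σ Function.bijective_id,
      Matrix.submatrix_mul _ _ σ id id Function.bijective_id, Matrix.submatrix_id_id]
  · rw [show P * Z * P' * (P * A * P') = P * (Z * (P' * P) * A) * P' by simp only [Matrix.mul_assoc],
      show P * A * P' * (P * Z * P') = P * (A * (P' * P) * Z) * P' by simp only [Matrix.mul_assoc], h2,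
      Matrix.mul_one, Matrix.mul_one, hZc]

theorem surj_blocks {A : Matrix ι ι K} {B : Matrix κ κ K} (hA : Surj A) :
    Surj (Matrix.fromBlocks A 0 0 B) := by
  intro d hd
  obtain ⟨P, hP, hc⟩ := hA d hd
  refine ⟨Matrix.fromBlocks P 0 0 1, ?_, by simp [Matrix.fromBlocks_multiply, hc]⟩
  rw [det_fromBlocks_zero₂₁, hP, det_one, mul_one]

theorem surj_one_by_one (c : K) : Surj (c • (1 : Matrix (Fin 1) (Fin 1) K)) := fun d _ =>
  ⟨Matrix.diagonal fun _ => d, by simp, by ext i j; fin_cases i; fin_cases j; simp [mul_comm]⟩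

end CfsgLib.LevCover
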