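import Cfsg.Agent.LevCover.Three
import Cfsg.Agent.SourourProduct.Main

/-!
Scalar multiples of pseudo-reflections.
-/

set_option autoImplicit false
set_option linter.unusedSectionVars false
set_option linter.unusedSimpArgs false

namespace CfsgLib.LevCover

open Matrix Polynomial

variable {K : Type*} [Field K]

theorem SimProd.smul {ι κ : Type*} [Fintype ι] [DecidableEq ι] [Fintype κ] [DecidableEq κ] {A : Matrix ι ι K}
    {m : ℕ} {R : Matrix κ κ K} (h : SimProd A m R) (c : K) : SimProd (c • A) m (c ^ m • R) := by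
  obtain ⟨f, hf, rfl⟩ := h
  refine ⟨fun i => c • f i, fun i => ?_, ?_⟩
  · obtain ⟨P, P', h1, h2, hP⟩ := hf i
    exact ⟨P, P', h1, h2, by simp only [hP, Matrix.mul_smul, Matrix.smul_mul]⟩
  · clear hf
    induction m with
    | zero => simp
    | succ m ih =>
      rw [List.ofFn_succ, List.prod_cons, List.ofFn_succ, List.prod_cons, ← ih (fun i => f i.succ),
        smul_mul_smul_comm, ← pow_succ']

theorem conj_one_add {n : ℕ} {P P' : Matrix (Fin n) (Fin n) K} (h : P * P' = 1) (w φ : Fin n → K) :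
    P * (1 + vecMulVec w φ) * P' = 1 + vecMulVec (P *ᵥ w) (φ ᵥ* P') := by
  rw [Matrix.mul_add, Matrix.mul_one, Matrix.add_mul, h, mul_vecMulVec, vecMulVec_mul]

/-- Rank one perturbations of the identity with equal invariant are similar. -/
theorem sim_rank_one {k : ℕ} {w φ w' φ' : Fin (k + 2) → K} (hw : w ≠ 0) (hφ : φ ≠ 0) (hw' : w' ≠ 0)
    (hφ' : φ' ≠ 0) (h : φ ⬝ᵥ w = φ' ⬝ᵥ w') : Sim (1 + vecMulVec w φ) (1 + vecMulVec w' φ') := by
  classical
  by_cases he : φ ⬝ᵥ w = 0
  · have canon : ∀ {w φ : Fin (k + 2) → K}, w ≠ 0 → φ ≠ 0 → φ ⬝ᵥ w = 0 → Sim (1 + vecMulVec w φ)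
        (1 + vecMulVec (Pi.single 0 1) (Pi.single (Fin.last (k + 1)) 1)) := by
      intro w φ hw hφ h0
      obtain ⟨X, hX, hX0, hXl⟩ := SourourProduct.exists_transvection_frame hw hφ h0
      have u : IsUnit X.det := isUnit_iff_ne_zero.2 hX
      refine ⟨X⁻¹, X, Matrix.nonsing_inv_mul X u, Matrix.mul_nonsing_inv X u, ?_⟩
      rw [conj_one_add (Matrix.nonsing_inv_mul X u), hXl, ← hX0, mulVec_mulVec, Matrix.nonsing_inv_mul X u,
        one_mulVec]
    exact (canon hw hφ he).trans (canon hw' hφ' (h ▸ he)).symm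
  · have canon : ∀ {w φ : Fin (k + 2) → K}, φ ⬝ᵥ w ≠ 0 → Sim (1 + vecMulVec w φ)
        (1 + vecMulVec (Pi.single (0 : Fin (k + 2)) (1 : K)) (Pi.single (0 : Fin (k + 2)) (φ ⬝ᵥ w))) := by
      intro w φ h0
      obtain ⟨T, T', t1, t2, hTv, hT'e, hT0⟩ := SourourProduct.exists_frame (k := k + 1) w ((φ ⬝ᵥ w)⁻¹ • φ)
        (by rw [smul_dotProduct, smul_eq_mul, inv_mul_cancel₀ h0])
      refine ⟨T, T', t1, t2, ?_⟩
      rw [conj_one_add t1, hTv]
      congr 2
      funext j
      have h2 := hT0 (T' *ᵥ Pi.single j 1)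
      rw [mulVec_mulVec, t1, one_mulVec, smul_dotProduct, dotProduct_mulVec, dotProduct_single, mul_one,
        smul_eq_mul] at h2
      rcases eq_or_ne j 0 with rfl | hj
      · rw [Pi.single_eq_same] at h2 ⊢
        field_simp at h2
        linear_combination h2
      · rw [Pi.single_eq_of_ne hj]
        rw [Pi.single_eq_of_ne (Ne.symm hj)] at h2
        exact ((mul_eq_zero.1 h2.symm).resolve_left (inv_ne_zero h0)).symm
    have h' := (canon (w := w') (φ := φ') (h ▸ he))
    rw [← h] at h'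
    exact (canon he).trans h'.symm

/-- Products of pseudo-reflections are upper times lower triangular. -/
theorem pseudo_prod {k : ℕ} {δ : K} {w φ : Fin (k + 2) → K} (hw : w ≠ 0) (hφ : φ ≠ 0) (hwφ : φ ⬝ᵥ w = δ - 1)
    {U V L : Matrix (Fin (k + 2)) (Fin (k + 2)) K} (hUV : V * U = 1) (hU : ∀ i, V i i = 1)
    (hUl : ∀ i j, j < i → V i j = 0) (hL : ∀ i, L i i = δ) (hLu : ∀ i j, i < j → L i j = 0)
    (hrow : ∀ i, ∃ j, L i j ≠ V i j) : SimProd (1 + vecMulVec w φ) (k + 2) (U * L) := by
  classical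
  set T : Fin (k + 2) → Matrix (Fin (k + 2)) (Fin (k + 2)) K :=
    fun i => 1 + vecMulVec (Pi.single i 1) (L i - V i)
  refine ⟨T, fun i => sim_rank_one hw hφ (fun h => by simpa using congrFun h i) (fun h => ?_) ?_, ?_⟩
  · obtain ⟨j, hj⟩ := hrow i
    exact hj (sub_eq_zero.1 (congrFun h j))
  · rw [hwφ, dotProduct_single, mul_one, Pi.sub_apply, hL, hU]
  refine Matrix.ext_iff_mulVec.2 fun v => ?_
  set u := (U * L) *ᵥ v with hu
  have hVu : V *ᵥ u = L *ᵥ v := by rw [hu, mulVec_mulVec, ← Matrix.mul_assoc, hUV, Matrix.one_mul]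
  have key : ∀ s j : ℕ, j + s = k + 2 →
      ((List.ofFn T).drop j).prod *ᵥ v = fun i : Fin (k + 2) => if j ≤ i.val then u i else v i := by
    intro s
    induction s with
    | zero =>
      intro j hj
      rw [List.drop_of_length_le (by simp; omega), List.prod_nil, one_mulVec]
      funext i
      rw [if_neg (by have := i.isLt; omega)]
    | succ s ih =>
      intro j hj
      have hjn : j < k + 2 := by omega
      rw [List.drop_eq_getElem_cons (by rw [List.length_ofFn]; exact hjn), List.prod_cons, List.getElem_ofFn, ← mulVec_mulVec,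
        ih (j + 1) (by omega)]
      set i₀ : Fin (k + 2) := ⟨j, hjn⟩
      simp only [T]
      rw [add_mulVec, one_mulVec, vecMulVec_mulVec, op_smul_eq_smul]
      funext i
      rcases eq_or_ne i i₀ with hi | hi
      · subst hi
        simp only [Pi.add_apply, Pi.smul_apply, Pi.single_eq_same, smul_eq_mul, mul_one, i₀, le_refl, if_true]
        rw [if_neg (by omega)]
        have hsum : (L i₀ - V i₀) ⬝ᵥ (fun i : Fin (k + 2) => if j + 1 ≤ i.val then u i else v i) =
            (L *ᵥ v) i₀ - (V *ᵥ u) i₀ + (u i₀ - v i₀) := by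
          simp only [Matrix.mulVec, dotProduct, Pi.sub_apply]
          have h1 : u i₀ - v i₀ = ∑ l, if l = i₀ then u l - v l else 0 := by
            rw [Finset.sum_ite_eq' Finset.univ i₀ fun l => u l - v l]; simp
          rw [h1, ← Finset.sum_sub_distrib, ← Finset.sum_add_distrib]
          refine Finset.sum_congr rfl fun l _ => ?_
          rcases lt_trichotomy l.val j with hl | hl | hl
          · rw [if_neg (by omega), if_neg (fun h => by rw [h] at hl; exact lt_irrefl _ hl),
              hUl i₀ l hl]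
            ring
          · obtain rfl : l = i₀ := Fin.ext hl
            rw [if_neg (by omega), if_pos rfl, hL, hU]
            ring
          · rw [if_pos (by omega), if_neg (fun h => by rw [h] at hl; exact lt_irrefl _ hl), hLu i₀ l hl]
            ring
        rw [hsum, hVu]
        ring
      · have hne : i.val ≠ j := fun h => hi (Fin.ext h)
        simp only [Pi.add_apply, Pi.smul_apply, Pi.single_eq_of_ne hi, smul_zero, add_zero]
        by_cases h : j + 1 ≤ i.val
        · rw [if_pos h, if_pos (by omega)]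
        · rw [if_neg h, if_neg (by omega)]
  have := key (k + 2) 0 (by omega)
  rw [List.drop_zero] at this
  rw [this]
  funext i
  simp

theorem inv_upper {n : ℕ} {U : Matrix (Fin n) (Fin n) K} (hU : SourourProduct.IsUpper U) :
    U⁻¹ * U = 1 ∧ (∀ i, U⁻¹ i i = 1) ∧ (∀ i j, j < i → U⁻¹ i j = 0) ∧
      ∀ i j : Fin n, j.val = i.val + 1 → U⁻¹ i j ≠ 0 := by
  classical
  obtain ⟨hd, hl, hs⟩ := hU
  have htri : U.BlockTriangular id := fun i j h => hl i j h
  have hdet : U.det = 1 := by
    rw [Matrix.det_of_upperTriangular htri]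
    exact Finset.prod_eq_one fun i _ => hd i
  have u : IsUnit U.det := by rw [hdet]; exact isUnit_one
  haveI := U.invertibleOfIsUnitDet u
  have htri' : U⁻¹.BlockTriangular id := blockTriangular_inv_of_blockTriangular htri
  have hdiag : ∀ i, U⁻¹ i i = 1 := fun i => by
    have h1 : (U * U⁻¹) i i = 1 := by rw [Matrix.mul_nonsing_inv U u, Matrix.one_apply_eq]
    rw [Matrix.mul_apply, Finset.sum_eq_single i, hd, one_mul] at h1
    · exact h1
    · intro l _ hl'
      rcases lt_or_gt_of_ne hl' with h | h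
      · rw [hl i l h, zero_mul]
      · rw [htri' h, mul_zero]
    · exact fun h => absurd (Finset.mem_univ _) h
  refine ⟨Matrix.nonsing_inv_mul U u, hdiag, fun i j h => htri' h, fun i j hij h0 => ?_⟩
  have hne : i ≠ j := fun h => by rw [h] at hij; omega
  have h1 : (U * U⁻¹) i j = 0 := by rw [Matrix.mul_nonsing_inv U u, Matrix.one_apply_ne hne]
  rw [Matrix.mul_apply, Finset.sum_eq_single j, hdiag, mul_one] at h1
  · exact hs i j hij h1
  · intro l _ hl'
    rcases lt_trichotomy l i with h | h | h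
    · rw [hl i l h, zero_mul]
    · rw [h, h0, mul_zero]
    · have hjl : j < l := by
        refine lt_of_le_of_ne ?_ (Ne.symm hl')
        show j.val ≤ l.val
        have : i.val < l.val := h
        omega
      rw [htri' hjl, mul_zero]
  · exact fun h => absurd (Finset.mem_univ _) h

variable [Fintype K]

theorem exists_sum_units (h4 : 4 ≤ Fintype.card K) : ∀ (k : ℕ) (s : K),
    ∃ a : Fin (k + 2) → K, (∀ i, a i ≠ 0) ∧ ∑ i, a i = s := by
  classical
  intro k
  induction k with
  | zero =>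
    intro s
    obtain ⟨a, ha⟩ := exists_notMem ({0, s} : Finset K) (by
      refine lt_of_le_of_lt (Finset.card_insert_le _ _) ?_; rw [Finset.card_singleton]; omega)
    simp only [Finset.mem_insert, Finset.mem_singleton, not_or] at ha
    refine ⟨![a, s - a], fun i => ?_, by simp⟩
    fin_cases i
    · simpa using ha.1
    · simpa [sub_eq_zero] using Ne.symm ha.2
  | succ k ih =>
    intro s
    obtain ⟨a, ha, hs⟩ := ih (s - 1)
    refine ⟨Fin.cons 1 a, fun i => ?_, by rw [Fin.sum_univ_succ]; simp [hs]⟩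
    refine Fin.cases ?_ (fun i => ?_) i
    · simp
    · simpa using ha i

/-- Pseudo-reflections. -/
theorem casePseudo (h4 : 4 ≤ Fintype.card K) {n a : ℕ} (hn3 : 3 ≤ n) (hn : 2 + a = n)
    {x : Matrix (Fin n) (Fin n) K} (hx1 : x.det = 1) {lam : K} (hlam : lam ≠ 0)
    {X : Matrix (Fin 2) (Fin 2) K} (hX : Cyc X) (hroot : X.charpoly.eval lam = 0)
    (hsim : Sim (Matrix.fromBlocks X 0 0 (lam • (1 : Matrix (Fin a) (Fin a) K))) x) :
    Surj x ∧ (∀ g : Matrix (Fin n) (Fin n) K, g.det = 1 → (∀ t : K, g ≠ t • 1) → SimProd x n g) ∧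
      ∃ c : K, SimProd x n (c • (1 : Matrix (Fin n) (Fin n) K)) := by
  classical
  obtain ⟨k, rfl⟩ : ∃ k, n = k + 2 := ⟨n - 2, by omega⟩
  refine ⟨?_, ?_⟩
  · obtain ⟨b, rfl⟩ : ∃ b, a = 1 + b := ⟨a - 1, by omega⟩
    refine surj_summand hn hsim (Or.inr ?_)
    have h := Surj.of_sim (A := Matrix.fromBlocks (lam • (1 : Matrix (Fin 1) (Fin 1) K)) 0 0
      (lam • (1 : Matrix (Fin b) (Fin b) K)))
      (by rw [blocks_smul_one]; exact sim_smul_one lam finSumFinEquiv) (surj_blocks (surj_one_by_one lam))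
      finSumFinEquiv
    exact h
  set g0 := X.charpoly /ₘ (Polynomial.X - Polynomial.C lam)
  have hfac : (Polynomial.X - Polynomial.C lam) * g0 = X.charpoly := mul_divByMonic_eq_iff_isRoot.2 hroot
  have hg0m : g0.Monic := Monic.of_mul_monic_left (monic_X_sub_C lam) (by rw [hfac]; exact charpoly_monic X)
  have hg0d : g0.natDegree = 1 := by
    have h := charpoly_natDegree_eq_dim X
    rw [← hfac, (monic_X_sub_C lam).natDegree_mul hg0m, natDegree_X_sub_C, Fintype.card_fin] at h
    omega
  obtain ⟨μ, hμ⟩ : ∃ μ, g0 = Polynomial.X - Polynomial.C μ :=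
    ⟨-g0.coeff 0, by rw [map_neg, sub_neg_eq_add, ← hg0m.eq_X_add_C hg0d]⟩
  obtain ⟨δ, hδ⟩ : ∃ δ, δ = μ / lam := ⟨_, rfl⟩
  set X₂ : Matrix (Fin 2) (Fin 2) K := !![lam, 1; 0, μ]
  have hX₂ : Cyc X₂ := by
    refine ⟨![0, 1], cycV_of_krylov ?_⟩
    simp [X₂, SLCommutator.krylov, det_fin_two, Matrix.mulVec, dotProduct]
  have hX₂χ : X₂.charpoly = X.charpoly := by
    rw [← hfac, hμ, Matrix.charpoly_fin_two]; simp [X₂, trace_fin_two, det_fin_two]; ring
  set σ : Fin 2 ⊕ Fin a ≃ Fin (k + 2) := finSumFinEquiv.trans (finCongr hn)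
  set w : Fin (k + 2) → K := Sum.elim ![1 / lam, δ - 1] (0 : Fin a → K) ∘ σ.symm
  set φ : Fin (k + 2) → K := Sum.elim ![(0 : K), 1] (0 : Fin a → K) ∘ σ.symm
  have hB : Sim x (lam • (1 + vecMulVec w φ)) := by
    refine hsim.symm.trans ((sim_blocks (sim_of_cyc hX hX₂ hX₂χ.symm) (Sim.refl _)).trans (Sim.of_reindex σ ?_))
    ext i j
    obtain ⟨i, rfl⟩ := σ.surjective i
    obtain ⟨j, rfl⟩ := σ.surjective j
    rcases i with i | i <;> rcases j with j | j
    · fin_cases i <;> fin_cases j <;>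
        simp [w, φ, X₂, Matrix.one_apply, vecMulVec_apply, hδ] <;> field_simp <;> ring
    · simp [w, φ, Matrix.one_apply, vecMulVec_apply]
    · simp [w, φ, Matrix.one_apply, vecMulVec_apply]
    · simp [w, φ, Matrix.one_apply, vecMulVec_apply]
  have hw : w ≠ 0 := fun h => by
    have := congrFun h (σ (Sum.inl 0))
    simp [w, hlam] at this
  have hφ : φ ≠ 0 := fun h => by
    have := congrFun h (σ (Sum.inl 1))
    simp [φ] at this
  have hwφ : φ ⬝ᵥ w = δ - 1 := by
    rw [dotProduct, ← Equiv.sum_comp σ, Fintype.sum_sum_type, Fin.sum_univ_two]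
    simp [w, φ]
  have hdet : lam ^ (k + 2) * δ = 1 := by
    have h := hB.det_eq
    rw [det_smul, Fintype.card_fin, hx1] at h
    rw [← h]
    congr 1
    rw [vecMulVec_eq Unit, det_one_add_replicateCol_mul_replicateRow, hwφ]
    ring
  have hδ0 : δ ≠ 0 := right_ne_zero_of_mul_eq_one hdet
  have main : ∀ M : Matrix (Fin (k + 2)) (Fin (k + 2)) K,
      SimProd (1 + vecMulVec w φ) (k + 2) M → SimProd x (k + 2) (lam ^ (k + 2) • M) :=
    fun M h => (h.smul lam).congr_base hB
  -- upper times lower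
  have tri : ∀ (g U L : Matrix (Fin (k + 2)) (Fin (k + 2)) K), Sim (U * L) g → SourourProduct.IsUpper U ∨ (U = 1) →
      (∀ i, L i i = 1) → (∀ i j, i < j → L i j = 0) →
      (δ ≠ 1 ∨ (SourourProduct.IsUpper U ∧ L (Fin.last (k + 1)) ⟨k, by omega⟩ ≠ 0)) → SimProd x (k + 2) g := by
    intro g U L hsg hU hL hLu hrow
    obtain ⟨V, hVU, hVd, hVl, hVs⟩ : ∃ V : Matrix (Fin (k + 2)) (Fin (k + 2)) K, V * U = 1 ∧ (∀ i, V i i = 1) ∧
        (∀ i j, j < i → V i j = 0) ∧ (SourourProduct.IsUpper U → ∀ i j : Fin (k + 2), j.val = i.val + 1 → V i j ≠ 0) := by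
      rcases hU with hU | rfl
      · obtain ⟨h1, h2, h3, h5⟩ := inv_upper hU
        exact ⟨U⁻¹, h1, h2, h3, fun _ => h5⟩
      · refine ⟨1, one_mul _, fun i => Matrix.one_apply_eq i, fun i j h => Matrix.one_apply_ne (ne_of_gt h),
          fun hU => ?_⟩
        exact absurd (hU.2.2 0 1 (by simp)) (by simp)
    have h := main _ (pseudo_prod hw hφ hwφ (L := δ • L) hVU hVd hVl (fun i => by simp [hL])
      (fun i j hij => by simp [hLu i j hij]) fun i => ?_)
    · rw [Matrix.mul_smul, smul_smul, hdet, one_smul] at h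
      exact h.of_sim hsg
    · rcases hrow with hδ1 | ⟨hUu, hlast⟩
      · exact ⟨i, by simp [hL, hVd, hδ1]⟩
      · by_cases hi : i.val + 1 < k + 2
        · refine ⟨⟨i.val + 1, hi⟩, ?_⟩
          rw [Matrix.smul_apply, hLu i _ (Fin.lt_def.2 (Nat.lt_succ_self _)), smul_zero]
          exact (hVs hUu i _ rfl).symm
        · obtain rfl : i = Fin.last (k + 1) := Fin.ext (by simp; have := i.isLt; omega)
          refine ⟨⟨k, by omega⟩, ?_⟩
          rw [hVl _ _ (Fin.lt_def.2 (by simp)), Matrix.smul_apply, smul_eq_mul]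
          exact mul_ne_zero hδ0 hlast
  -- transvections on one line
  set E : Matrix (Fin (k + 2)) (Fin (k + 2)) K :=
    vecMulVec (Pi.single 0 1) (Pi.single (Fin.last (k + 1)) 1)
  have hlast0 : (Fin.last (k + 1) : Fin (k + 2)) ≠ 0 := fun h => by simpa using congrArg Fin.val h
  have line : δ = 1 → ∀ s : K, SimProd x (k + 2) (1 + s • E) := by
    intro hδ1 s
    have hlamn : lam ^ (k + 2) = 1 := by rw [← hdet, hδ1, mul_one]
    obtain ⟨c, hc, hcs⟩ := exists_sum_units h4 k s
    have hEE : E * E = 0 := by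
      rw [vecMulVec_mul_vecMulVec, single_dotProduct, Pi.single_eq_of_ne hlast0, mul_zero, zero_smul, vecMulVec_zero]
    have hprod : ∀ (m : ℕ) (c : Fin m → K),
        (List.ofFn fun i => (1 : Matrix (Fin (k + 2)) (Fin (k + 2)) K) + c i • E).prod = 1 + (∑ i, c i) • E := by
      intro m
      induction m with
      | zero => intro c; simp
      | succ m ih =>
        intro c
        rw [List.ofFn_succ, List.prod_cons, ih (fun i => c i.succ), Fin.sum_univ_succ, Matrix.add_mul, Matrix.one_mul,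
          Matrix.mul_add, Matrix.mul_one, smul_mul_smul_comm, hEE, smul_zero, add_zero, add_smul]
        abel
    have h : SimProd (1 + vecMulVec w φ) (k + 2) (1 + s • E) := by
      refine ⟨fun i => 1 + c i • E, fun i => ?_, by rw [hprod, hcs]⟩
      show Sim _ (1 + c i • vecMulVec _ _)
      rw [← smul_vecMulVec]
      refine sim_rank_one hw hφ (smul_ne_zero (hc i) fun h => by simpa using congrFun h 0)
        (fun h => by simpa using congrFun h (Fin.last (k + 1))) ?_
      rw [hwφ, hδ1, sub_self, dotProduct_smul, single_dotProduct, Pi.single_eq_of_ne hlast0, mul_zero, smul_zero]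
    have h' := main _ h
    rwa [hlamn, one_smul] at h'
  refine ⟨fun g hg hgs => ?_, ?_⟩
  · by_cases hsm : SourourProduct.Small (g - 1)
    · obtain ⟨w', φ', hwφ'⟩ := hsm
      have hw' : w' ≠ 0 := fun e => hgs 1 (by rw [one_smul]; exact sub_eq_zero.1 (by rw [hwφ', e, zero_vecMulVec]))
      have hφ' : φ' ≠ 0 := fun e => hgs 1 (by rw [one_smul]; exact sub_eq_zero.1 (by rw [hwφ', e, vecMulVec_zero]))
      have hg' : g = 1 + vecMulVec w' φ' := by rw [← hwφ']; abel
      have horth : φ' ⬝ᵥ w' = 0 := by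
        have h := hg
        rw [hg', vecMulVec_eq Unit, det_one_add_replicateCol_mul_replicateRow] at h
        linear_combination h
      have hE : Sim (1 + E) g := by
        rw [hg']
        refine sim_rank_one (fun h => by simpa using congrFun h 0)
          (fun h => by simpa using congrFun h (Fin.last (k + 1))) hw' hφ' ?_
        rw [horth, single_dotProduct, Pi.single_eq_of_ne hlast0, mul_zero]
      by_cases hδ1 : δ = 1
      · have h := line hδ1 1
        rw [one_smul] at h
        exact h.of_sim hE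
      · obtain ⟨V, U, L, hVU, hVd, hVl, hLeq, hUL⟩ :
            ∃ V U L : Matrix (Fin (k + 2)) (Fin (k + 2)) K, V * U = 1 ∧ (∀ i, V i i = 1) ∧
              (∀ i j, j < i → V i j = 0) ∧ L = 1 ∧ U * L = 1 + E := by
          refine ⟨1 - E, 1 + E, 1, ?_, fun i => ?_, fun i j h => ?_, rfl, Matrix.mul_one _⟩
          · have hEE : E * E = 0 := by
              rw [vecMulVec_mul_vecMulVec, single_dotProduct, Pi.single_eq_of_ne hlast0, mul_zero, zero_smul,
                vecMulVec_zero]
            rw [Matrix.sub_mul, Matrix.one_mul, Matrix.mul_add, Matrix.mul_one, hEE]; abel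
          · simp only [E, Matrix.sub_apply, Matrix.one_apply_eq, vecMulVec_apply]
            rcases eq_or_ne i 0 with rfl | hi
            · rw [Pi.single_eq_of_ne (Ne.symm hlast0)]; simp
            · rw [Pi.single_eq_of_ne hi]; simp
          · simp only [E, Matrix.sub_apply, Matrix.one_apply_ne (ne_of_gt h), vecMulVec_apply]
            rcases eq_or_ne i 0 with rfl | hi
            · exact absurd h (Fin.not_lt_zero j)
            · rw [Pi.single_eq_of_ne hi]; simp
        subst hLeq
        have h := main _ (pseudo_prod hw hφ hwφ (L := δ • (1 : Matrix (Fin (k + 2)) (Fin (k + 2)) K)) hVU hVd hVl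
          (fun i => by simp) (fun i j hij => by simp [ne_of_lt hij]) fun i => ⟨i, by simp [hVd, hδ1]⟩)
        rw [Matrix.mul_smul, hUL, smul_smul, hdet, one_smul] at h
        exact h.of_sim hE
    · have hK : 4 ≤ Cardinal.mk K := by rw [Cardinal.mk_fintype]; exact_mod_cast h4
      have h1 : (Pi.single 0 1 : Fin (k + 2) → K) ≠ 0 := fun e => by simpa using congrFun e 0
      obtain ⟨S, S', L, U, hS, hS', h, hL, hU, -, -⟩ := SourourProduct.exists_regular_factorisation hK (k + 1) g _ _ hg
        (fun _ => ⟨fun ⟨c, hc⟩ => hgs c hc, hsm⟩) h1 h1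
      obtain ⟨hi1, -, -, -⟩ := inv_upper hU
      have hsim' : Sim (U * L) g := by
        refine Sim.trans ⟨U⁻¹, U, hi1, mul_eq_one_comm.1 hi1, rfl⟩ ?_
        rw [← Matrix.mul_assoc, hi1, Matrix.one_mul, ← h]
        exact Sim.symm (A := g) (B := S * g * S') ⟨S, S', hS, hS', rfl⟩
      refine tri g U L hsim' (Or.inl hU) (fun i => hL.1 i) (fun i j hij => hL.2.1 j i hij) (Or.inr ⟨hU, ?_⟩)
      exact hL.2.2 ⟨k, by omega⟩ (Fin.last (k + 1)) (by simp)
  · by_cases hδ1 : δ = 1
    · exact ⟨1, by rw [one_smul]; simpa using line hδ1 0⟩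
    · refine ⟨1, ?_⟩
      rw [one_smul]
      exact tri 1 1 1 (by rw [Matrix.one_mul]; exact Sim.refl _) (Or.inr rfl) (fun i => Matrix.one_apply_eq i)
        (fun i j hij => Matrix.one_apply_ne (ne_of_lt hij)) (Or.inl hδ1)

end CfsgLib.LevCover
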