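import Cfsg.Agent.LevCover.Pieces

/-!
Seeds: without a scalar summand, some cyclic matrix is a product of two conjugates with equal determinants.
-/

set_option autoImplicit false
set_option linter.unusedSectionVars false
set_option linter.unusedSimpArgs false

namespace CfsgLib.LevCover

open Matrix Polynomial

variable {K : Type*} [Field K]

/-- Every irreducible factor occurs at least twice. -/
def Sq (f : K[X]) : Prop := ∀ h : K[X], h.Monic → Irreducible h → h ∣ f → h * h ∣ f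

theorem sq_quadratic {f : K[X]} (hf : f.Monic) (hd : f.natDegree = 2) (hs : Sq f) :
    ∃ σ : K, f = (Polynomial.X - Polynomial.C σ) * (Polynomial.X - Polynomial.C σ) := by
  obtain ⟨h, hm, hi, hdvd⟩ := Polynomial.exists_monic_irreducible_factor f (fun hu => by
    rw [natDegree_eq_zero_of_isUnit hu] at hd; omega)
  have h2 := hs h hm hi hdvd
  have hle := natDegree_le_of_dvd h2 hf.ne_zero
  rw [hm.natDegree_mul hm, hd] at hle
  have h1 : h.natDegree = 1 := by have := hi.natDegree_pos; omega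
  refine ⟨-h.coeff 0, ?_⟩
  rw [map_neg, sub_neg_eq_add, ← hm.eq_X_add_C h1]
  exact (eq_of_monic_of_dvd_of_natDegree_le (hm.mul hm) hf h2 (by rw [hm.natDegree_mul hm, hd, h1]))

theorem sq_cubic {h : K[X]} {ρ : K} (hh : h.Monic) (hd : h.natDegree = 2)
    (hs : Sq ((Polynomial.X - Polynomial.C ρ) * h)) :
    h = (Polynomial.X - Polynomial.C ρ) * (Polynomial.X - Polynomial.C ρ) := by
  have h1 := hs _ (monic_X_sub_C ρ) (irreducible_X_sub_C ρ) (dvd_mul_right _ _)
  rw [mul_dvd_mul_iff_left (X_sub_C_ne_zero ρ)] at h1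
  obtain ⟨q, hq⟩ := h1
  have hqm : q.Monic := Monic.of_mul_monic_left (monic_X_sub_C ρ) (hq ▸ hh)
  have hq1 : q.natDegree = 1 := by
    rw [hq, (monic_X_sub_C ρ).natDegree_mul hqm, natDegree_X_sub_C] at hd; omega
  obtain ⟨τ, hτ⟩ : ∃ τ, q = Polynomial.X - Polynomial.C τ :=
    ⟨-q.coeff 0, by rw [map_neg, sub_neg_eq_add, ← hqm.eq_X_add_C hq1]⟩
  rw [hτ] at hq
  have h2 := hs _ (monic_X_sub_C τ) (irreducible_X_sub_C τ)
    (Dvd.dvd.mul_left ⟨Polynomial.X - Polynomial.C ρ, by rw [hq]; ring⟩ _)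
  rw [hq, show (Polynomial.X - Polynomial.C ρ) * ((Polynomial.X - Polynomial.C ρ) * (Polynomial.X - Polynomial.C τ)) =
    (Polynomial.X - Polynomial.C τ) * ((Polynomial.X - Polynomial.C ρ) * (Polynomial.X - Polynomial.C ρ)) by ring,
    mul_dvd_mul_iff_left (X_sub_C_ne_zero τ), dvd_iff_isRoot, Polynomial.IsRoot, eval_mul, mul_self_eq_zero,
    eval_sub, eval_X, eval_C, sub_eq_zero] at h2
  rw [hq, h2]

/-- The top block split as an upper triangular quotient over the remaining summand. -/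
theorem sim_top {α β γ δ : Type*} [Fintype α] [DecidableEq α] [Fintype β] [DecidableEq β] [Fintype γ]
    [DecidableEq γ] [Fintype δ] [DecidableEq δ] (A : Matrix α α K) (E : Matrix α β K) (B : Matrix β β K)
    (Z : Matrix γ γ K) (σ : β ⊕ γ ≃ δ) :
    Sim (Matrix.fromBlocks (Matrix.fromBlocks A E 0 B) 0 0 Z)
      (Matrix.fromBlocks A ((Matrix.fromCols E (0 : Matrix α γ K)).submatrix id σ.symm) 0
        (Matrix.reindex σ σ (Matrix.fromBlocks B 0 0 Z))) := by
  refine Sim.of_reindex ((Equiv.sumAssoc α β γ).trans (Equiv.sumCongr (Equiv.refl α) σ)) ?_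
  ext (i | i) (j | j)
  · simp
  · obtain ⟨j, rfl⟩ := σ.surjective j
    rcases j with j | j <;> simp
  · obtain ⟨i, rfl⟩ := σ.surjective i
    rcases i with i | i <;> simp
  · obtain ⟨i, rfl⟩ := σ.surjective i
    obtain ⟨j, rfl⟩ := σ.surjective j
    rcases i with i | i <;> rcases j with j | j <;> simp

theorem one_by_one_eq {A : Matrix (Fin 1) (Fin 1) K} {ρ : K} (h : A.charpoly = Polynomial.X - Polynomial.C ρ) :
    A = ρ • (1 : Matrix (Fin 1) (Fin 1) K) := by
  have h1 : A.det = ρ := by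
    rw [det_of_prod (β := fun _ : Fin 1 => ρ) (by rw [h, Fin.prod_univ_one]), Fin.prod_univ_one]
  rw [det_fin_one] at h1
  ext i j
  rw [Fin.fin_one_eq_zero i, Fin.fin_one_eq_zero j]
  simpa using h1

theorem piece_one (ρ : K) : Piece (ρ • (1 : Matrix (Fin 1) (Fin 1) K)) (ρ • (1 : Matrix (Fin 1) (Fin 1) K)) (ρ * ρ) := by
  have h : (ρ • (1 : Matrix (Fin 1) (Fin 1) K)) * (ρ • (1 : Matrix (Fin 1) (Fin 1) K)) = (ρ * ρ) • 1 := by
    rw [smul_mul_smul_comm, Matrix.one_mul]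
  refine piece_of_single ?_ ⟨1, 1, one_mul _, one_mul _, fun i j hij => absurd hij (by omega)⟩ ?_
  · rw [h]; exact cyc_scalar_one _
  · intro θ hθ
    rw [h, Matrix.smul_one_eq_diagonal, charpoly_diagonal, Fin.prod_univ_one, root_X_sub_C] at hθ
    exact hθ.symm

variable [Fintype K]

theorem surj_of_not_sq (h4 : 4 ≤ Fintype.card K) {d : ℕ} {X : Matrix (Fin d) (Fin d) K} (hX : Cyc X)
    (hn : ¬ Sq X.charpoly) : Surj X := by
  unfold Sq at hn
  push Not at hn
  obtain ⟨h, hm, hi, ⟨f, hf⟩, hnd⟩ := hn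
  refine surj_simple_factor h4 hX (Monic.of_mul_monic_left hm (hf ▸ charpoly_monic X)) hm hi
    (hf.trans (mul_comm _ _)) fun hdvd => hnd ?_
  rw [hf]; exact mul_dvd_mul_left h hdvd

theorem surj_split_cast {n m : ℕ} {R : Matrix (Fin n) (Fin n) K} (hR : Cyc R) {β : Fin m → K}
    (hχ : R.charpoly = ∏ i, (Polynomial.X - Polynomial.C (β i)))
    (h : ∀ d : K, d ≠ 0 → ∃ f : K → K, ∏ i, f (β i) = d) : Surj R := by
  obtain rfl : m = n := by
    have h' := charpoly_natDegree_eq_dim R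
    rw [hχ, natDegree_prod _ _ fun i _ => X_sub_C_ne_zero _] at h'
    simpa using h'
  exact surj_split hR hχ h

/-- A single block as a pair of factors. -/
theorem piece_pair (h4 : 4 ≤ Fintype.card K) {k : ℕ} {H : Matrix (Fin (k + 2)) (Fin (k + 2)) K} (hH : Cyc H)
    (hd : H.det ≠ 0) {β : Fin (k + 2) → K} (hr : Runs β) (hp : ∏ i, β i = H.det * H.det) (hg : Good H β) :
    ∃ W₁ W₂ : Matrix (Fin (k + 2)) (Fin (k + 2)) K, Sim H W₁ ∧ Sim H W₂ ∧ Cyc (W₁ * W₂) ∧
      (W₁ * W₂).charpoly = ∏ i, (Polynomial.X - Polynomial.C (β i)) ∧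
      ∀ b : K, (b = β 0 ∨ ∀ i, β i ≠ b) →
        ∀ (v : Fin (k + 2) → K) (t : K), v ≠ 0 → (W₁ * W₂) *ᵥ v = b • v → W₂ *ᵥ v ≠ t • v := by
  have hβ0 : ∀ i, β i ≠ 0 := fun i => Finset.prod_ne_zero_iff.1
    (by rw [hp]; exact mul_ne_zero hd hd) i (Finset.mem_univ i)
  obtain ⟨Y, e, hY, hYd, hpc, hYc, he0, hRe, hYe⟩ := exists_piece h4 hd hH hd hβ0 hr hp hg
  refine ⟨H, Y, Sim.refl H, hY, hpc.cyc, hYc, fun b hb v t hv hGv hYv => ?_⟩
  rcases hb with rfl | hb
  · obtain ⟨s, rfl⟩ := eigen_unique hpc.cyc hRe he0 hGv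
    have hs : s ≠ 0 := fun h => hv (by rw [h, zero_smul])
    rw [mulVec_smul, smul_comm] at hYv
    exact hYe t (smul_right_injective (Fin (k + 2) → K) hs hYv)
  · have h := eigen_root hv hGv
    rw [hYc, Polynomial.IsRoot, eval_prod, Finset.prod_eq_zero_iff] at h
    obtain ⟨i, -, hi⟩ := h
    rw [eval_sub, eval_X, eval_C, sub_eq_zero] at hi
    exact hb i hi.symm

/-- A flexible piece with a simple value over blocks avoiding it. -/
theorem seed_avoid (h4 : 4 ≤ Fintype.card K) {n s t : ℕ} (hn : s + t = n) {x : Matrix (Fin n) (Fin n) K}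
    (hxd : x.det ≠ 0) {A : Matrix (Fin s) (Fin s) K} {E : Matrix (Fin s) (Fin t) K}
    {W : Matrix (Fin t) (Fin t) K} (hx : Sim x (Matrix.fromBlocks A E 0 W)) {Pr : K[X] → Prop} {c : K}
    (hW : Stack Pr (c • (1 : Matrix (Fin 0) (Fin 0) K)) W) {b : K} {β : Fin s → K} (hs : 0 < s)
    (hb : ∀ i, i.val = 0 → β i = b) (hne : ∀ i, i.val ≠ 0 → β i ≠ b)
    (hflex : ∀ r : K, r ≠ 0 → ∃ P : Matrix (Fin s) (Fin s) K, P.det = r ∧ Piece A (P * A * P⁻¹) b ∧
      (A * (P * A * P⁻¹)).charpoly = ∏ i, (Polynomial.X - Polynomial.C (β i)))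
    {a : K} (ha0 : a ≠ 0) (hab : a ≠ b)
    (hquad : ∀ f, Pr f → f.natDegree = 2 → a * a ≠ f.coeff 0 * f.coeff 0 ∧ f.coeff 0 * f.coeff 0 ≠ a * b) :
    ∃ R : Matrix (Fin n) (Fin n) K, Cyc R ∧ Unif x 2 R ∧ SimplePoly R := by
  have hWd : W.det ≠ 0 := by
    have h := hx.det_ne hxd
    rw [det_fromBlocks_zero₂₁] at h
    exact right_ne_zero_of_mul h
  obtain ⟨Z₁, Z₂, h1, h2, hc, hQ, -⟩ := base_spec h4 (Q := Avoid b) (avoid_one b) (fun f g _ _ => avoid_mul)
    (a₀ := a) (Pr := Pr) (fun k X hX hP hXd => by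
      rcases Nat.eq_zero_or_pos k with hk | hk
      · subst hk
        obtain ⟨h1, h2⟩ := hquad _ hP (by rw [charpoly_natDegree_eq_dim, Fintype.card_fin])
        rw [← det_two_of_charpoly] at h1 h2
        refine ⟨![a, X.det * X.det / a], rfl, runs_two _, ?_, Or.inl ⟨?_, cyc_nonscalar le_rfl hX⟩, 2,
          ![a, X.det * X.det / a], rfl, fun i => ?_⟩
        · simp [Fin.prod_univ_two]; field_simp
        · intro h
          simp only [Matrix.cons_val_zero, Matrix.cons_val_one] at h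
          rw [eq_div_iff ha0] at h
          exact h1 h
        · fin_cases i
          · simpa using hab
          · simp only [Fin.mk_one, Matrix.cons_val_one, Matrix.cons_val_zero]
            rw [ne_eq, div_eq_iff ha0, mul_comm b a]
            exact h2
      · obtain ⟨γ, h1, h2, h3, h5⟩ := exists_spec_avoid h4 hk ha0 hab (mul_ne_zero hXd hXd)
        exact ⟨γ, h1, h2, h3, good_cyc hX hk γ, k + 2, γ, rfl, h5⟩) hW hWd
  obtain ⟨R, hRc, hRχ, hRu⟩ := unif_couple h4 hn hxd hx hflex h1 h2 hc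
    (fun v t hv hGv _ => hQ.eval (eigen_root hv hGv))
    (fun R hR hRχ => surj_simple hR (simplePoly_cons hRχ hs hb hne hQ) (by omega))
  exact ⟨R, hRc, hRu, simplePoly_cons hRχ hs hb hne hQ⟩

/-- A root of the top block. -/
theorem seed_root (h4 : 4 ≤ Fintype.card K) {n d m : ℕ} (hd : 3 ≤ d) (hn : d + m = n)
    {x : Matrix (Fin n) (Fin n) K} (hxd : x.det ≠ 0) {X : Matrix (Fin d) (Fin d) K}
    {Z : Matrix (Fin m) (Fin m) K} (hX : Cyc X) (hsim : Sim (Matrix.fromBlocks X 0 0 Z) x)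
    (hsq : Sq X.charpoly) {ρ : K} (hρ : X.charpoly.IsRoot ρ) {Pr : K[X] → Prop} {c : K}
    (hst : Stack Pr (c • (1 : Matrix (Fin 0) (Fin 0) K)) Z)
    (hquad : ∀ f, Pr f → f.natDegree = 2 →
      f = (Polynomial.X - Polynomial.C ρ) * (Polynomial.X - Polynomial.C ρ)) :
    ∃ R : Matrix (Fin n) (Fin n) K, Cyc R ∧ Unif x 2 R ∧ SimplePoly R := by
  classical
  set h := X.charpoly /ₘ (Polynomial.X - Polynomial.C ρ)
  have hfac : (Polynomial.X - Polynomial.C ρ) * h = X.charpoly := mul_divByMonic_eq_iff_isRoot.2 hρ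
  have hhm : h.Monic := Monic.of_mul_monic_left (monic_X_sub_C ρ) (by rw [hfac]; exact charpoly_monic X)
  obtain ⟨t, rfl⟩ : ∃ t, d = t + 2 := ⟨d - 2, by omega⟩
  have hhd : h.natDegree = t + 1 := by
    have h' := charpoly_natDegree_eq_dim X
    rw [← hfac, (monic_X_sub_C ρ).natDegree_mul hhm, natDegree_X_sub_C, Fintype.card_fin] at h'
    omega
  obtain ⟨X', H', E, -, hH', hX'χ, hH'χ, hXs⟩ := exists_quotient (s := 0) hX (monic_X_sub_C ρ) hhm
    (natDegree_X_sub_C ρ) hhd hfac.symm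
  rw [one_by_one_eq hX'χ] at hXs
  set W := Matrix.reindex finSumFinEquiv finSumFinEquiv (Matrix.fromBlocks H' 0 0 Z)
  have hx : Sim x (Matrix.fromBlocks (ρ • (1 : Matrix (Fin 1) (Fin 1) K))
      ((Matrix.fromCols E (0 : Matrix (Fin 1) (Fin m) K)).submatrix id finSumFinEquiv.symm) 0 W) :=
    hsim.symm.trans ((sim_blocks hXs (Sim.refl Z)).trans (sim_top _ E H' Z finSumFinEquiv))
  have hρ0 : ρ ≠ 0 := by
    intro h0
    have h' := hx.det_ne hxd
    rw [det_fromBlocks_zero₂₁, h0, zero_smul, det_zero] at h'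
    exact h' (zero_mul _)
  obtain ⟨a, ha⟩ := exists_notMem ({0, ρ * ρ, -(ρ * ρ)} : Finset K) (by
    refine lt_of_le_of_lt (Finset.card_insert_le _ _) ?_
    refine lt_of_le_of_lt (Nat.add_le_add_right (Finset.card_insert_le _ _) 1) ?_
    rw [Finset.card_singleton]; omega)
  simp only [Finset.mem_insert, Finset.mem_singleton, not_or] at ha
  have hWst : Stack (fun f => f.natDegree = 2 → f = (Polynomial.X - Polynomial.C ρ) * (Polynomial.X - Polynomial.C ρ))
      (c • (1 : Matrix (Fin 0) (Fin 0) K)) W := by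
    refine Stack.cons H' Z W (by omega) rfl hH' (fun h2 => ?_) (hst.imp fun f hf => hquad f hf) (sim_reindex _ _)
    rw [hH'χ] at h2 ⊢
    exact sq_cubic hhm h2 (by rw [hfac]; exact hsq)
  refine seed_avoid h4 (show 1 + (t + 1 + m) = n by omega) hxd hx hWst (b := ρ * ρ) (β := fun _ => ρ * ρ)
    one_pos (fun _ _ => rfl) (fun i hi => absurd hi (by have := i.isLt; omega)) ?_ ha.1 ha.2.1 ?_
  · intro r hr
    obtain ⟨P, hPd, hp, hχ⟩ := flex_of_surj (surj_one_by_one ρ) (Sim.refl _) (piece_one ρ) r hr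
    refine ⟨P, hPd, hp, hχ.trans ?_⟩
    rw [smul_mul_smul_comm, Matrix.one_mul, Matrix.smul_one_eq_diagonal, charpoly_diagonal]
  · intro f hf h2
    have hf' := hf h2
    have hc0 : f.coeff 0 = ρ * ρ := by rw [hf', coeff_zero_eq_eval_zero]; simp
    rw [hc0]
    refine ⟨fun h => ?_, fun h => ha.2.1 ?_⟩
    · rcases mul_self_eq_mul_self_iff.1 h with h' | h'
      · exact ha.2.1 h'
      · exact ha.2.2 h'
    · exact (mul_right_cancel₀ (mul_ne_zero hρ0 hρ0) h).symm

theorem cyc_of_irreducible_factor (h4 : 4 ≤ Fintype.card K) {d : ℕ} {X : Matrix (Fin d) (Fin d) K}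
    (hX : Cyc X) (hi : Irreducible X.charpoly) : Surj X :=
  surj_simple_factor h4 hX monic_one (charpoly_monic X) hi (one_mul _).symm
    fun h => hi.not_isUnit (isUnit_of_dvd_one h)

/-- No root in the top block. -/
theorem seed_noroot (h4 : 4 ≤ Fintype.card K) {n d m : ℕ} (hd : 3 ≤ d) (hn : d + m = n)
    {x : Matrix (Fin n) (Fin n) K} (hxd : x.det ≠ 0) {X : Matrix (Fin d) (Fin d) K}
    {Z : Matrix (Fin m) (Fin m) K} (hX : Cyc X) (hsim : Sim (Matrix.fromBlocks X 0 0 Z) x)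
    (hsq : Sq X.charpoly) (hnr : ∀ ρ, ¬ X.charpoly.IsRoot ρ) {Pr : K[X] → Prop} {c : K}
    (hst : Stack Pr (c • (1 : Matrix (Fin 0) (Fin 0) K)) Z) (hnq : ∀ f, Pr f → f.natDegree ≠ 2)
    (hdvd : ∀ f, Pr f → f ∣ X.charpoly) (hm : d = 4 → 0 < m) :
    ∃ R : Matrix (Fin n) (Fin n) K, Cyc R ∧ Unif x 2 R ∧ SimplePoly R := by
  classical
  obtain ⟨p, hpm, hpi, h, hh⟩ := Polynomial.exists_monic_irreducible_factor X.charpoly (fun hu => by
    have h' := natDegree_eq_zero_of_isUnit hu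
    rw [charpoly_natDegree_eq_dim, Fintype.card_fin] at h'; omega)
  have hhm : h.Monic := Monic.of_mul_monic_left hpm (hh ▸ charpoly_monic X)
  have hp2 : 2 ≤ p.natDegree := by
    by_contra hlt
    have h1 : p.natDegree = 1 := by have := hpi.natDegree_pos; omega
    refine hnr (-p.coeff 0) ?_
    rw [Polynomial.IsRoot, hh, eval_mul, hpm.eq_X_add_C h1]
    simp
  have hph : p ∣ h := by
    have h' := hsq p hpm hpi ⟨h, hh⟩
    rw [hh] at h'
    exact (mul_dvd_mul_iff_left hpm.ne_zero).1 h'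
  have hhp : p.natDegree ≤ h.natDegree := natDegree_le_of_dvd hph hhm.ne_zero
  obtain ⟨k, hk⟩ : ∃ k, p.natDegree = k + 2 := ⟨p.natDegree - 2, by omega⟩
  obtain ⟨l, hl⟩ : ∃ l, h.natDegree = l + 2 := ⟨h.natDegree - 2, by omega⟩
  have hdim : d = k + 2 + (l + 2) := by
    have h' := charpoly_natDegree_eq_dim X
    rw [hh, hpm.natDegree_mul hhm, hk, hl, Fintype.card_fin] at h'; omega
  obtain ⟨X', H', E, hX', hH', hX'χ, hH'χ, hXs⟩ := exists_quotient (s := k + 1) (t := l + 1) hX hpm hhm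
    (by omega) (by omega) hh
  obtain ⟨hXd, hZd⟩ := det_blocks_ne (hsim.symm.det_ne hxd)
  have hdets := hXs.det_ne hXd
  rw [det_fromBlocks_zero₂₁] at hdets
  obtain ⟨hX'd, hH'd⟩ := mul_ne_zero_iff.1 hdets
  have hX's : Surj X' := cyc_of_irreducible_factor h4 hX' (hX'χ ▸ hpi)
  set W := Matrix.reindex finSumFinEquiv finSumFinEquiv (Matrix.fromBlocks H' 0 0 Z)
  have hx : Sim x (Matrix.fromBlocks X'
      ((Matrix.fromCols E (0 : Matrix (Fin (k + 2)) (Fin m) K)).submatrix id finSumFinEquiv.symm) 0 W) :=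
    hsim.symm.trans ((sim_blocks hXs (Sim.refl Z)).trans (sim_top _ E H' Z finSumFinEquiv))
  set N := X'.det
  obtain ⟨b, hb⟩ := exists_notMem ({0, N, -N} : Finset K) (by
    refine lt_of_le_of_lt (Finset.card_insert_le _ _) ?_
    refine lt_of_le_of_lt (Nat.add_le_add_right (Finset.card_insert_le _ _) 1) ?_
    rw [Finset.card_singleton]; omega)
  simp only [Finset.mem_insert, Finset.mem_singleton, not_or] at hb
  obtain ⟨β, hβ0, hβr, hβp, hβne⟩ : ∃ β : Fin (k + 2) → K, β 0 = b ∧ Runs β ∧ ∏ i, β i = N * N ∧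
      ∀ i : Fin (k + 1), β i.succ ≠ b := by
    rcases Nat.eq_zero_or_pos k with hk0 | hk0
    · subst hk0
      refine ⟨![b, N * N / b], rfl, runs_two _, ?_, fun i => ?_⟩
      · simp [Fin.prod_univ_two]; field_simp [hb.1]
      · fin_cases i
        simp only [Fin.zero_eta, Fin.succ_zero_eq_one, Matrix.cons_val_one, Matrix.cons_val_zero]
        rw [ne_eq, div_eq_iff hb.1]
        intro h'
        rcases mul_self_eq_mul_self_iff.1 h'.symm with e | e
        · exact hb.2.1 e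
        · exact hb.2.2 e
    · obtain ⟨β, -, h2, h3, h5, h6⟩ := exists_spectrum h4 (m := k + 1) (by omega) hb.1 (mul_ne_zero hX'd hX'd)
      exact ⟨β, h2, h6, h5, h3⟩
  have hgood : Good X' β := Or.inl ⟨by rw [hβ0]; exact (hβne 0).symm, cyc_nonscalar (by omega) hX'⟩
  have hβnz : ∀ i, β i ≠ 0 := fun i => Finset.prod_ne_zero_iff.1
    (by rw [hβp]; exact mul_ne_zero hX'd hX'd) i (Finset.mem_univ i)
  obtain ⟨Y, -, hY, -, hpc, hYc, -⟩ := exists_piece h4 hX'd hX' hX'd hβnz hβr hβp hgood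
  rw [hβ0] at hpc
  have hflex : ∀ r : K, r ≠ 0 → ∃ P : Matrix (Fin (k + 2)) (Fin (k + 2)) K, P.det = r ∧
      Piece X' (P * X' * P⁻¹) b ∧
      (X' * (P * X' * P⁻¹)).charpoly = ∏ i, (Polynomial.X - Polynomial.C (β i)) := by
    intro r hr
    obtain ⟨P, h1, h2, h3⟩ := flex_of_surj hX's hY hpc r hr
    exact ⟨P, h1, h2, h3.trans hYc⟩
  by_cases hl3 : 1 ≤ l
  · obtain ⟨a, ha⟩ := exists_notMem ({0, b} : Finset K) (by
      refine lt_of_le_of_lt (Finset.card_insert_le _ _) ?_; rw [Finset.card_singleton]; omega)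
    simp only [Finset.mem_insert, Finset.mem_singleton, not_or] at ha
    refine seed_avoid h4 (show k + 2 + (l + 2 + m) = n by omega) hxd hx (Pr := fun f => f.natDegree ≠ 2) (c := c)
      (Stack.cons H' Z W (by omega) rfl hH' (by rw [hH'χ]; omega) (hst.imp fun f hf => hnq f hf) (sim_reindex _ _))
      (β := β) (by omega) ?_ ?_ hflex ha.1 ha.2 (fun f hf h2 => absurd h2 hf)
    · intro i hi
      obtain rfl : i = 0 := Fin.ext (by simpa using hi)
      exact hβ0
    · intro i hi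
      obtain ⟨i', rfl⟩ := Fin.exists_succ_eq.2 (show i ≠ 0 from fun h' => hi (by simp [h']))
      exact hβne i'
  -- the top block is the square of an irreducible quadratic
  obtain rfl : l = 0 := by omega
  obtain rfl : k = 0 := by omega
  have hpeq : h = p := eq_of_monic_of_dvd_of_natDegree_le hpm hhm hph (by omega)
  have hH'N : H'.det = N := by
    rw [det_of_charpoly (G := H') rfl, hH'χ, hpeq, ← hX'χ, ← det_of_charpoly (G := X') rfl]
  set b' := N * N / b
  have hb' : β 1 = b' := by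
    rw [eq_div_iff hb.1, ← hβp, Fin.prod_univ_two, hβ0, mul_comm]
  have hb'ne : b' ≠ b := by rw [← hb']; exact hβne 0
  obtain ⟨τ, hτ⟩ := exists_notMem ({0, b, b'} : Finset K) (by
    refine lt_of_le_of_lt (Finset.card_insert_le _ _) ?_
    refine lt_of_le_of_lt (Nat.add_le_add_right (Finset.card_insert_le _ _) 1) ?_
    rw [Finset.card_singleton]; omega)
  simp only [Finset.mem_insert, Finset.mem_singleton, not_or] at hτ
  cases hst with
  | base => exact absurd (hm (by omega)) (lt_irrefl _)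
  | @cons d₁ m₁ _ X₁ Z₁ g₁ hd₁ hn₁ hX₁ hP₁ hZ₁ hs₁ =>
    obtain ⟨hX₁d, hZ₁d⟩ := det_blocks_ne (hs₁.symm.det_ne hZd)
    have hd₁4 : 4 ≤ d₁ := by
      have hf : X₁.charpoly.natDegree = d₁ := by rw [charpoly_natDegree_eq_dim, Fintype.card_fin]
      have h2 := hnq _ hP₁
      by_contra hlt
      have h3 : X₁.charpoly.natDegree = 3 := by omega
      have hir : Irreducible X₁.charpoly := by
        refine ((charpoly_monic X₁).irreducible_iff_roots_eq_zero_of_degree_le_three (by omega) (by omega)).2 ?_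
        refine Multiset.eq_zero_of_forall_notMem fun θ hθ => hnr θ ?_
        exact ((mem_roots (charpoly_monic X₁).ne_zero).1 hθ).dvd (hdvd _ hP₁)
      have h4' := hdvd _ hP₁
      rw [hh, hpeq] at h4'
      have h5 : X₁.charpoly ∣ p := (hir.prime.dvd_or_dvd h4').elim id id
      have := natDegree_le_of_dvd h5 hpm.ne_zero
      omega
    obtain ⟨j, rfl⟩ : ∃ j, d₁ = j + 4 := ⟨d₁ - 4, by omega⟩
    -- lower blocks avoid the new simple value
    obtain ⟨U₁, U₂, hU1, hU2, hUc, hUQ, hUv⟩ := base_spec h4 (Q := Avoid τ) (avoid_one τ) (fun f g _ _ => avoid_mul)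
      (a₀ := b) (fun i M hM hP hMd => by
        have hi : 1 ≤ i := by
          have h2 := hnq _ hP
          rw [charpoly_natDegree_eq_dim, Fintype.card_fin] at h2
          omega
        obtain ⟨γ, h1, h2, h3, h5⟩ := exists_spec_avoid h4 hi hb.1 (Ne.symm hτ.2.1) (mul_ne_zero hMd hMd)
        exact ⟨γ, h1, h2, h3, good_cyc hM hi γ, i + 2, γ, rfl, h5⟩) hZ₁ hZ₁d
    -- the block carrying it
    obtain ⟨w, -, hwτ, hwp, -⟩ := exists_values h4 (m := j + 2) (by omega) τ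
      (div_ne_zero (div_ne_zero (mul_ne_zero hX₁d hX₁d) hb.1) hτ.1)
    obtain ⟨σ, hσ, hσ0⟩ := exists_runs_first (Fin.cons b (Fin.cons τ w) : Fin (j + 4) → K)
    set γ : Fin (j + 4) → K := (Fin.cons b (Fin.cons τ w) : Fin (j + 4) → K) ∘ σ with hγ
    have hγprod : ∀ f : K → K, ∏ i, f (γ i) = f b * (f τ * ∏ i, f (w i)) := by
      intro f
      rw [hγ]
      simp only [Function.comp]
      rw [Equiv.prod_comp σ fun i => f ((Fin.cons b (Fin.cons τ w) : Fin (j + 4) → K) i), Fin.prod_univ_succ,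
        Fin.prod_univ_succ]
      simp
    have hγ0 : γ 0 = b := by simpa [hγ] using hσ0
    have hγp : ∏ i, γ i = X₁.det * X₁.det := by
      have h' := hγprod id
      simp only [id, hwp] at h'
      rw [h']
      field_simp [hb.1, hτ.1]
    have hγnz : ∀ i, γ i ≠ 0 := fun i => Finset.prod_ne_zero_iff.1
      (by rw [hγp]; exact mul_ne_zero hX₁d hX₁d) i (Finset.mem_univ i)
    obtain ⟨Y₁, e₁, hY₁, -, hp₁, hY₁c, he₁, hRe₁, hYe₁⟩ :=
      exists_piece h4 hX₁d hX₁ hX₁d hγnz hσ hγp (good_cyc hX₁ (by omega) γ)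
    rw [hγ0] at hp₁ hRe₁
    obtain ⟨G₁, G₂, g1, g2, gc, gχ, gv⟩ := stack_step h4 hn₁ hs₁ hY₁ hp₁ hX₁d hZ₁d hU1 hU2 hUc hUv
    -- the lower quadratic block
    obtain ⟨Y₂, e₂, hY₂, -, hp₂, hY₂c, he₂, hRe₂, hYe₂⟩ := exists_piece h4 hH'd hH' hH'd hβnz hβr
      (by rw [hβp, hH'N]) (Or.inl ⟨by rw [hβ0, hb']; exact hb'ne.symm, cyc_nonscalar le_rfl hH'⟩)
    rw [hβ0] at hp₂ hRe₂
    obtain ⟨V₁, V₂, v1, v2, vc, vχ, vv⟩ := stack_step h4 (show 2 + m = 2 + m from rfl)
      (sim_reindex (finSumFinEquiv : Fin 2 ⊕ Fin m ≃ Fin (2 + m)) (Matrix.fromBlocks H' 0 0 Z)) hY₂ hp₂ hH'd hZd g1 g2 gc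
      (gv e₁ he₁ hRe₁ hYe₁)
    have hγc : ∏ i, (Polynomial.X - Polynomial.C (γ i)) = (Polynomial.X - Polynomial.C b) *
        ((Polynomial.X - Polynomial.C τ) * ∏ i, (Polynomial.X - Polynomial.C (w i))) := by
      rw [hγ]
      simp only [Function.comp]
      rw [Equiv.prod_comp σ fun i => Polynomial.X - Polynomial.C ((Fin.cons b (Fin.cons τ w) : Fin (j + 4) → K) i),
        Fin.prod_univ_succ, Fin.prod_univ_succ]
      simp
    have hβτ : Avoid τ (∏ i, (Polynomial.X - Polynomial.C (β i))) := ⟨2, β, rfl, fun i => by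
      fin_cases i
      · simpa [hβ0] using Ne.symm hτ.2.1
      · simpa [hb'] using Ne.symm hτ.2.2⟩
    have hbτ : Avoid τ (Polynomial.X - Polynomial.C b) :=
      ⟨1, fun _ => b, by rw [Fin.prod_univ_one], fun _ => Ne.symm hτ.2.1⟩
    have hrest : Avoid τ ((∏ i, (Polynomial.X - Polynomial.C (β i))) * ((∏ i, (Polynomial.X - Polynomial.C (β i))) *
        ((Polynomial.X - Polynomial.C b) * ((∏ i, (Polynomial.X - Polynomial.C (w i))) * (U₁ * U₂).charpoly)))) :=
      avoid_mul hβτ (avoid_mul hβτ (avoid_mul hbτ (avoid_mul ⟨_, w, rfl, hwτ⟩ hUQ)))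
    have hsimple : ∀ R : Matrix (Fin n) (Fin n) K,
        R.charpoly = (∏ i, (Polynomial.X - Polynomial.C (β i))) * (V₁ * V₂).charpoly → SimplePoly R := by
      intro R hR
      refine simplePoly_cons (b := τ) (β := fun _ : Fin 1 => τ) ?_ one_pos (fun _ _ => rfl)
        (fun i hi => absurd hi (by have := i.isLt; omega)) hrest
      rw [hR, vχ, hY₂c, gχ, hY₁c, hγc, Fin.prod_univ_one]
      ring
    obtain ⟨R, hRc, hRχ, hRu⟩ := unif_couple h4 (show 2 + (2 + m) = n by omega) hxd hx hflex v1 v2 vc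
      (vv e₂ he₂ hRe₂ hYe₂) (fun R hR hRχ => surj_simple hR (hsimple R hRχ) (by omega))
    exact ⟨R, hRc, hRu, hsimple R hRχ⟩

end CfsgLib.LevCover
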