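import Cfsg.Agent.LevCover.Seed

/-!
Seeds for a sum of Jordan blocks of size two.
-/

set_option autoImplicit false
set_option linter.unusedSectionVars false
set_option linter.unusedSimpArgs false

namespace CfsgLib.LevCover

open Matrix Polynomial

variable {K : Type*} [Field K] [Fintype K]

theorem sim_two_right {α β : Type*} [Fintype α] [DecidableEq α] [Fintype β] [DecidableEq β] {A A' : Matrix α α K}
    {Z : Matrix β β K} (h : Sim A A') : Sim (Matrix.fromBlocks A 0 0 Z) (Matrix.fromBlocks A' 0 0 Z) :=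
  sim_blocks h (Sim.refl Z)

/-- All blocks are `J₂(ρ)`, at least three of them, odd characteristic. -/
theorem seed_jordan (h4 : 4 ≤ Fintype.card K) (h2 : (2 : K) ≠ 0) {n m : ℕ} (hn : 2 + m = n)
    {x : Matrix (Fin n) (Fin n) K} (hxd : x.det ≠ 0) {ρ : K} (hρ : ρ ≠ 0)
    {X : Matrix (Fin 2) (Fin 2) K} {Z : Matrix (Fin m) (Fin m) K} (hX : Cyc X)
    (hXχ : X.charpoly = (Polynomial.X - Polynomial.C ρ) * (Polynomial.X - Polynomial.C ρ))
    (hsim : Sim (Matrix.fromBlocks X 0 0 Z) x) {c : K}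
    (hst : Stack (fun f => f = (Polynomial.X - Polynomial.C ρ) * (Polynomial.X - Polynomial.C ρ))
      (c • (1 : Matrix (Fin 0) (Fin 0) K)) Z) (hm : 0 < m) :
    ∃ R : Matrix (Fin n) (Fin n) K, Cyc R ∧ Unif x 2 R := by
  classical
  obtain ⟨b, hbdef⟩ : ∃ b, b = ρ * ρ := ⟨_, rfl⟩
  have hb : b ≠ 0 := hbdef ▸ mul_ne_zero hρ hρ
  obtain ⟨a, ha⟩ := exists_notMem ({0, b, -b} : Finset K) (by
    refine lt_of_le_of_lt (Finset.card_insert_le _ _) ?_
    refine lt_of_le_of_lt (Nat.add_le_add_right (Finset.card_insert_le _ _) 1) ?_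
    rw [Finset.card_singleton]; omega)
  simp only [Finset.mem_insert, Finset.mem_singleton, not_or] at ha
  obtain ⟨a', ha'⟩ : ∃ a', a' = b * b / a := ⟨_, rfl⟩
  have haa : a' ≠ a := by
    rw [ha', ne_eq, div_eq_iff ha.1]
    intro h
    rcases mul_self_eq_mul_self_iff.1 h.symm with h' | h'
    · exact ha.2.1 h'
    · exact ha.2.2 h'
  have ha'b : a' ≠ b := by
    rw [ha', ne_eq, div_eq_iff ha.1]
    exact fun h => ha.2.1 (mul_left_cancel₀ hb h).symm
  have ha'n : a' ≠ -b := by
    rw [ha', ne_eq, div_eq_iff ha.1]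
    exact fun h => ha.2.2 (mul_left_cancel₀ hb (by linear_combination h))
  have hbb : -b ≠ b := fun h => hb (by
    have : (2 : K) * b = 0 := by linear_combination -h
    exact (mul_eq_zero.1 this).resolve_left h2)
  obtain ⟨hJ, hJχ⟩ := jordan_two ρ
  set J : Matrix (Fin 2) (Fin 2) K := !![ρ, 1; 0, ρ]
  have hspec : ∀ (k : ℕ) (M : Matrix (Fin (k + 2)) (Fin (k + 2)) K), Cyc M →
      M.charpoly = (Polynomial.X - Polynomial.C ρ) * (Polynomial.X - Polynomial.C ρ) → M.det ≠ 0 →
      ∃ β : Fin (k + 2) → K, β 0 = a ∧ Runs β ∧ ∏ i, β i = M.det * M.det ∧ Good M β ∧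
        ∃ j : ℕ, ∏ i, (Polynomial.X - Polynomial.C (β i)) =
          ((Polynomial.X - Polynomial.C a) * (Polynomial.X - Polynomial.C a')) ^ j := by
    intro k M hM hP _
    obtain rfl : k = 0 := by
      have h := charpoly_natDegree_eq_dim M
      rw [hP, natDegree_mul (X_sub_C_ne_zero ρ) (X_sub_C_ne_zero ρ), natDegree_X_sub_C, Fintype.card_fin] at h
      omega
    have hd : M.det = b := by
      rw [det_of_prod (β := fun _ : Fin 2 => ρ) (by rw [hP, Fin.prod_univ_two]), Fin.prod_univ_two, hbdef]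
    refine ⟨![a, a'], rfl, runs_two _, ?_, Or.inl ⟨Ne.symm haa, cyc_nonscalar le_rfl hM⟩, 1, ?_⟩
    · rw [Fin.prod_univ_two, hd, ha']
      simp only [Matrix.cons_val_zero, Matrix.cons_val_one]
      field_simp [ha.1]
    · simp [Fin.prod_univ_two]
  have hQ1 : ∃ j : ℕ, (1 : K[X]) = ((Polynomial.X - Polynomial.C a) * (Polynomial.X - Polynomial.C a')) ^ j :=
    ⟨0, (pow_zero _).symm⟩
  have hQm : ∀ f g : K[X], f.Monic → g.Monic →
      (∃ j : ℕ, f = ((Polynomial.X - Polynomial.C a) * (Polynomial.X - Polynomial.C a')) ^ j) →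
      (∃ j : ℕ, g = ((Polynomial.X - Polynomial.C a) * (Polynomial.X - Polynomial.C a')) ^ j) →
      ∃ j : ℕ, f * g = ((Polynomial.X - Polynomial.C a) * (Polynomial.X - Polynomial.C a')) ^ j :=
    fun f g _ _ ⟨i, hi⟩ ⟨j, hj⟩ => ⟨i + j, by rw [hi, hj, pow_add]⟩
  have hZd : Z.det ≠ 0 := (det_blocks_ne (hsim.symm.det_ne hxd)).2
  -- the factors below the repeated value
  have key : ∃ (W₁ W₂ : Matrix (Fin m) (Fin m) K) (M : ℕ) (δ : Fin M → K), Sim Z W₁ ∧ Sim Z W₂ ∧
      Cyc (W₁ * W₂) ∧ (W₁ * W₂).charpoly = ∏ i, (Polynomial.X - Polynomial.C (δ i)) ∧ (∀ i, δ i ≠ b) ∧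
      ∀ d : K, d ≠ 0 → ∃ f : K → K, f b * f b * ∏ i, f (δ i) = d := by
    obtain ⟨Z₁, Z₂, h1, h2', hc, ⟨j, hj⟩, -⟩ := base_spec h4 hQ1 hQm hspec hst hZd
    have hjm : m = 2 * j := by
      have h := charpoly_natDegree_eq_dim (Z₁ * Z₂)
      rw [hj, natDegree_pow, natDegree_mul (X_sub_C_ne_zero a) (X_sub_C_ne_zero a'), natDegree_X_sub_C,
        natDegree_X_sub_C, Fintype.card_fin] at h
      omega
    rcases Nat.even_or_odd' j with ⟨i, hi | hi⟩
    · -- one more repeated value
      cases hst with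
      | base => exact absurd hm (lt_irrefl _)
      | @cons d₁ m₁ _ X₁ Z₁' g₁ hd₁ hn₁ hX₁ hP₁ hZ₁ hs₁ =>
        obtain rfl : d₁ = 2 := by
          have h := charpoly_natDegree_eq_dim X₁
          rw [hP₁, natDegree_mul (X_sub_C_ne_zero ρ) (X_sub_C_ne_zero ρ), natDegree_X_sub_C, Fintype.card_fin] at h
          omega
        obtain ⟨hX₁d, hZ₁d⟩ := det_blocks_ne (hs₁.symm.det_ne hZd)
        obtain ⟨U₁, U₂, u1, u2, uc, ⟨l, hl⟩, -⟩ := base_spec h4 hQ1 hQm hspec hZ₁ hZ₁d
        have hlm : m₁ = 2 * l := by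
          have h := charpoly_natDegree_eq_dim (U₁ * U₂)
          rw [hl, natDegree_pow, natDegree_mul (X_sub_C_ne_zero a) (X_sub_C_ne_zero a'), natDegree_X_sub_C,
            natDegree_X_sub_C, Fintype.card_fin] at h
          omega
        obtain ⟨q, hq⟩ : ∃ q, l = 2 * q + 1 := ⟨i - 1, by omega⟩
        set C : Matrix (Fin 2) (Fin 2) K := !![0, -b; 1, ρ + ρ]
        have hρρ : ρ + ρ ≠ 0 := by rw [← two_mul]; exact mul_ne_zero h2 hρ
        obtain ⟨hCY, hCp, hCχ⟩ := piece_double hb hρρ h2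
        have hC : Sim X₁ C := sim_of_cyc hX₁ sim_fin_two.2 (by
          rw [hP₁, Matrix.charpoly_fin_two]
          simp [C, trace_fin_two, det_fin_two, hbdef]
          ring)
        have hv : ∀ (v : Fin m₁ → K) (t : K), v ≠ 0 → (U₁ * U₂) *ᵥ v = -b • v → U₂ *ᵥ v ≠ t • v := by
          intro v t hv hGv _
          have h := eigen_root hv hGv
          rw [hl, Polynomial.IsRoot, eval_pow] at h
          have h' := eq_zero_of_pow_eq_zero h
          simp only [eval_mul, eval_sub, eval_X, eval_C, mul_eq_zero, sub_eq_zero] at h'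
          rcases h' with h' | h'
          · exact ha.2.2 h'.symm
          · exact ha'n h'.symm
        obtain ⟨G₁, G₂, g1, g2, gc, gχ, -⟩ := stack_step h4 hn₁ ((sim_two_right hC.symm).trans hs₁) hCY hCp
          (hC.det_ne hX₁d) hZ₁d u1 u2 uc hv
        refine ⟨G₁, G₂, 2 + (l + l), Fin.append ![-b, -b] (Fin.append (fun _ : Fin l => a) fun _ : Fin l => a'),
          g1, g2, gc, ?_, ?_, ?_⟩
        · rw [gχ, hCχ, hl, prod_append, prod_append, Fin.prod_univ_two, Fin.prod_const, Fin.prod_const, mul_pow]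
          simp
        · intro i
          refine Fin.addCases (fun i => ?_) (fun i => ?_) i
          · rw [Fin.append_left]; fin_cases i <;> simpa using hbb
          · rw [Fin.append_right]
            refine Fin.addCases (fun i => ?_) (fun i => ?_) i
            · rw [Fin.append_left]; exact ha.2.1
            · rw [Fin.append_right]; exact ha'b
        · intro d hd
          refine ⟨fun z => if z = a then d else if z = -b then (d ^ q)⁻¹ else 1, ?_⟩
          simp only [if_neg (Ne.symm ha.2.1), if_neg (Ne.symm hbb), one_mul]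
          rw [Fin.prod_univ_add, Fin.prod_univ_add, Fin.prod_univ_two]
          simp only [Fin.append_left, Fin.append_right, Matrix.cons_val_zero, Matrix.cons_val_one,
            if_neg (Ne.symm ha.2.2), if_true, Fin.prod_const]
          rw [if_neg haa, if_neg ha'n, one_pow, mul_one, hq, pow_succ, pow_mul, pow_two d]
          have hdq : d ^ q ≠ 0 := pow_ne_zero q hd
          field_simp
          ring
    · refine ⟨Z₁, Z₂, j + j, Fin.append (fun _ : Fin j => a) fun _ : Fin j => a', h1, h2', hc, ?_, ?_, ?_⟩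
      · rw [hj, prod_append, Fin.prod_const, Fin.prod_const, mul_pow]
      · intro l
        refine Fin.addCases (fun l => ?_) (fun l => ?_) l
        · rw [Fin.append_left]; exact ha.2.1
        · rw [Fin.append_right]; exact ha'b
      · intro d hd
        refine ⟨fun z => if z = a then d else if z = b then (d ^ i)⁻¹ else 1, ?_⟩
        simp only [if_neg (Ne.symm ha.2.1), if_true, Fin.prod_univ_add, Fin.append_left, Fin.append_right,
          Fin.prod_const, if_neg haa, if_neg ha'b, one_pow, mul_one]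
        rw [hi, pow_succ, pow_mul, pow_two d]
        have hdi : d ^ i ≠ 0 := pow_ne_zero i hd
        field_simp
        ring
  obtain ⟨W₁, W₂, M, δ, w1, w2, wc, wχ, wb, wf⟩ := key
  have hXJ : Sim X J := sim_of_cyc hX hJ (hXχ.trans hJχ.symm)
  have hx : Sim x (Matrix.fromBlocks J 0 0 Z) := hsim.symm.trans (sim_two_right hXJ)
  obtain ⟨R, hRc, -, hRu⟩ := unif_couple h4 hn hxd hx (χ := (Polynomial.X - Polynomial.C b) * (Polynomial.X - Polynomial.C b))
    (b := b) (fun r hr => by rw [hbdef]; exact flex_jordan h4 hρ r hr) w1 w2 wc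
    (fun v t hv hGv _ => by
      have h := eigen_root hv hGv
      rw [wχ, Polynomial.IsRoot, eval_prod, Finset.prod_eq_zero_iff] at h
      obtain ⟨i, -, hi⟩ := h
      rw [eval_sub, eval_X, eval_C, sub_eq_zero] at hi
      exact wb i hi.symm)
    (fun R hR hRχ => surj_split_cast hR (β := Fin.append (fun _ : Fin 2 => b) δ)
      (by rw [hRχ, wχ, prod_append, Fin.prod_univ_two]) fun d hd => by
        obtain ⟨f, hf⟩ := wf d hd
        refine ⟨f, ?_⟩
        rw [Fin.prod_univ_add, Fin.prod_univ_two]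
        simpa using hf)
  exact ⟨R, hRc, hRu⟩

end CfsgLib.LevCover
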