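import Cfsg.Agent.LevCover.Blocks

/-!
Hessenberg matrices, quotient shapes of cyclic matrices, spectra, and the pieces coming from the
factorisation theorem.
-/

set_option autoImplicit false
set_option linter.unusedSectionVars false
set_option linter.unusedSimpArgs false

namespace CfsgLib.LevCover

open Matrix Polynomial
open CfsgLib.SourourProduct (blk e₀)

variable {K : Type*} [Field K]

/-- Upper Hessenberg with no zero on the subdiagonal. -/
def Hess {n : ℕ} (G : Matrix (Fin n) (Fin n) K) : Prop :=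
  (∀ i j : Fin n, j.val + 1 < i.val → G i j = 0) ∧ ∀ i j : Fin n, i.val = j.val + 1 → G i j ≠ 0

theorem cyc_hess {n : ℕ} {G : Matrix (Fin n) (Fin n) K} (h : Hess G) : Cyc G := by
  rcases Nat.eq_zero_or_pos n with hn | hn
  · subst hn
    refine ⟨0, fun p hp _ => ?_⟩
    by_contra hp0
    have := (natDegree_lt_iff_degree_lt hp0).2 hp
    simp at this
  set z : Fin n := ⟨0, hn⟩
  set e : Fin n → K := Pi.single z 1
  have key : ∀ j : ℕ, (∀ i : Fin n, j < i.val → (G ^ j *ᵥ e) i = 0) ∧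
      ∀ i : Fin n, i.val = j → (G ^ j *ᵥ e) i ≠ 0 := by
    intro j
    induction j with
    | zero =>
      refine ⟨fun i hi => ?_, fun i hi => ?_⟩
      · have : i ≠ z := fun h => by rw [h] at hi; exact absurd hi (lt_irrefl _)
        simp [e, this]
      · have : i = z := Fin.ext hi
        simp [e, this]
    | succ j ih =>
      obtain ⟨ih0, ih1⟩ := ih
      refine ⟨fun i hi => ?_, fun i hi => ?_⟩
      · rw [pow_succ', ← mulVec_mulVec, Matrix.mulVec, dotProduct]
        refine Finset.sum_eq_zero fun l _ => ?_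
        rcases le_or_gt l.val j with hl | hl
        · rw [h.1 i l (by omega), zero_mul]
        · rw [ih0 l hl, mul_zero]
      · have hj : j < n := by have := i.isLt; omega
        rw [pow_succ', ← mulVec_mulVec, Matrix.mulVec, dotProduct, Finset.sum_eq_single (⟨j, hj⟩ : Fin n)]
        · exact mul_ne_zero (h.2 i _ hi) (ih1 _ rfl)
        · intro l _ hl
          have : l.val ≠ j := fun h => hl (Fin.ext h)
          rcases lt_or_ge j l.val with hl' | hl'
          · rw [ih0 l hl', mul_zero]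
          · rw [h.1 i l (by omega), zero_mul]
        · exact fun h => absurd (Finset.mem_univ _) h
  refine ⟨e, cycV_of_krylov ?_⟩
  rw [Matrix.det_of_upperTriangular (M := SLCommutator.krylov G e) (fun i j hij => (key j.val).1 i hij)]
  exact Finset.prod_ne_zero_iff.2 fun i _ => (key i.val).2 i rfl

theorem exists_hess : ∀ (n : ℕ) (g : K[X]), g.Monic → g.natDegree = n + 1 →
    ∃ G : Matrix (Fin (n + 1)) (Fin (n + 1)) K, G.charpoly = g ∧ Hess G ∧ CycAt G e₀ := by
  intro n
  induction n with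
  | zero =>
    intro g hg hd
    refine ⟨Matrix.diagonal fun _ => -g.coeff 0, ?_, ⟨fun i j h => ?_, fun i j h => ?_⟩, ?_⟩
    · rw [charpoly_diagonal, Fin.prod_univ_one, map_neg, sub_neg_eq_add]
      conv_rhs => rw [hg.eq_X_add_C hd]
    · exact absurd h (by omega)
    · exact absurd h (by omega)
    · rw [CycAt, det_fin_one]; simp [SLCommutator.krylov, e₀]
  | succ n ih =>
    intro g hg hd
    obtain ⟨H, -, hH, hc⟩ := ih (X ^ (n + 1)) (monic_X_pow _) (natDegree_X_pow _)
    obtain ⟨L, b, hL⟩ := border_bij hc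
    set x := L.symm ((fun i : Fin (n + 2) => g.coeff i.val) - b)
    refine ⟨border e₀ H x, eq_of_coeffs hg hd (by rw [hL, LinearEquiv.apply_symm_apply]; abel), ⟨?_, ?_⟩,
      cycAt_blk hc _ _⟩
    · intro i j
      refine Fin.cases ?_ (fun i => ?_) i <;> refine Fin.cases ?_ (fun j => ?_) j
      · intro h; simp at h
      · intro h; simp at h
      · intro h
        have : i ≠ 0 := fun h0 => by rw [h0] at h; simp at h
        simp only [border, SourourProduct.blk_s0]
        simp [e₀, this]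
      · intro h; simpa [border] using hH.1 i j (by simpa using h)
    · intro i j
      refine Fin.cases ?_ (fun i => ?_) i <;> refine Fin.cases ?_ (fun j => ?_) j
      · intro h; simp at h
      · intro h; simp at h
      · intro h
        have : i = 0 := Fin.ext (by simpa using h)
        simp only [border, SourourProduct.blk_s0]
        simp [e₀, this]
      · intro h; simpa [border] using hH.2 i j (by simpa using h)

theorem sim_of_cyc {n : ℕ} {M N : Matrix (Fin n) (Fin n) K} (hM : Cyc M) (hN : Cyc N)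
    (h : M.charpoly = N.charpoly) : Sim M N := by
  obtain ⟨P, hP, hPM⟩ := SLCommutator.exists_conj_of_cyc (isCyc_of_cyc hM) (isCyc_of_cyc hN) h
  have u : IsUnit P.det := isUnit_iff_ne_zero.2 hP
  refine ⟨P, P⁻¹, Matrix.mul_nonsing_inv P u, Matrix.nonsing_inv_mul P u, ?_⟩
  rw [hPM, Matrix.mul_assoc, Matrix.mul_nonsing_inv P u, Matrix.mul_one]

theorem sim_hess {n : ℕ} {M : Matrix (Fin n) (Fin n) K} (hM : Cyc M) : ∃ G : Matrix (Fin n) (Fin n) K, Hess G ∧ Sim M G := by
  rcases Nat.eq_zero_or_pos n with hn | hn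
  · subst hn; exact ⟨M, ⟨fun i => i.elim0, fun i => i.elim0⟩, Sim.refl M⟩
  obtain ⟨m, rfl⟩ : ∃ m, n = m + 1 := ⟨n - 1, by omega⟩
  obtain ⟨G, hG, hh, -⟩ := exists_hess m M.charpoly (charpoly_monic M)
    (by rw [charpoly_natDegree_eq_dim, Fintype.card_fin])
  exact ⟨G, hh, sim_of_cyc hM (cyc_hess hh) hG.symm⟩

/-- A cyclic matrix whose characteristic polynomial factors has the corresponding quotient shape. -/
theorem exists_quotient {d s t : ℕ} {M : Matrix (Fin d) (Fin d) K} (hM : Cyc M) {f h : K[X]}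
    (hf : f.Monic) (hh : h.Monic) (hfs : f.natDegree = s + 1) (hht : h.natDegree = t + 1)
    (hχ : M.charpoly = f * h) :
    ∃ (X' : Matrix (Fin (s + 1)) (Fin (s + 1)) K) (H' : Matrix (Fin (t + 1)) (Fin (t + 1)) K)
      (E : Matrix (Fin (s + 1)) (Fin (t + 1)) K), Cyc X' ∧ Cyc H' ∧ X'.charpoly = f ∧ H'.charpoly = h ∧
      Sim M (Matrix.fromBlocks X' E 0 H') := by
  obtain ⟨X', hX', hXh, -⟩ := exists_hess s f hf hfs
  obtain ⟨H', hH', hHh, -⟩ := exists_hess t h hh hht
  set E : Matrix (Fin (s + 1)) (Fin (t + 1)) K := Matrix.single 0 (Fin.last t) 1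
  have hd : d = t + 1 + (s + 1) := by
    have := charpoly_natDegree_eq_dim M
    rw [hχ, hf.natDegree_mul hh, Fintype.card_fin, hfs, hht] at this
    omega
  subst hd
  set U := Matrix.reindex finSumFinEquiv finSumFinEquiv (Matrix.fromBlocks H' 0 E X') with hU
  have hess : Hess U := by
    constructor
    · intro i j
      obtain ⟨a, rfl⟩ := finSumFinEquiv.surjective i
      obtain ⟨b, rfl⟩ := finSumFinEquiv.surjective j
      rcases a with a | a <;> rcases b with b | b <;>
        rw [hU, Matrix.reindex_apply, Matrix.submatrix_apply, Equiv.symm_apply_apply, Equiv.symm_apply_apply] <;>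
        simp only [Matrix.fromBlocks_apply₁₁, Matrix.fromBlocks_apply₁₂, Matrix.fromBlocks_apply₂₁,
          Matrix.fromBlocks_apply₂₂, finSumFinEquiv_apply_left, finSumFinEquiv_apply_right,
          Fin.val_castAdd, Fin.val_natAdd, Matrix.zero_apply] <;> intro hlt
      · exact hHh.1 a b hlt
      · trivial
      · have := b.isLt
        simp only [E, Matrix.single_apply]
        rw [if_neg]
        rintro ⟨rfl, rfl⟩
        simp at hlt
      · exact hXh.1 a b (by omega)
    · intro i j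
      obtain ⟨a, rfl⟩ := finSumFinEquiv.surjective i
      obtain ⟨b, rfl⟩ := finSumFinEquiv.surjective j
      rcases a with a | a <;> rcases b with b | b <;>
        rw [hU, Matrix.reindex_apply, Matrix.submatrix_apply, Equiv.symm_apply_apply, Equiv.symm_apply_apply] <;>
        simp only [Matrix.fromBlocks_apply₁₁, Matrix.fromBlocks_apply₁₂, Matrix.fromBlocks_apply₂₁,
          Matrix.fromBlocks_apply₂₂, finSumFinEquiv_apply_left, finSumFinEquiv_apply_right,
          Fin.val_castAdd, Fin.val_natAdd, Matrix.zero_apply] <;> intro heq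
      · exact hHh.2 a b heq
      · have := a.isLt; omega
      · have := b.isLt
        have ha : a = 0 := Fin.ext (by simp only [Fin.val_zero]; omega)
        have hb : b = Fin.last t := Fin.ext (by simp only [Fin.val_last]; omega)
        simp [E, ha, hb]
      · exact hXh.2 a b (by omega)
  have hchar : U.charpoly = M.charpoly := by
    rw [hU, Matrix.charpoly_reindex, Matrix.charpoly_fromBlocks_zero₁₂, hX', hH', hχ, mul_comm]
  refine ⟨X', H', E, cyc_hess hXh, cyc_hess hHh, hX', hH', ?_⟩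
  refine (sim_of_cyc hM (cyc_hess hess) hchar.symm).trans ?_
  refine (sim_reindex _ _).symm.trans (Sim.of_reindex (Equiv.sumComm _ _) ?_)
  ext (i | i) (j | j) <;> simp

theorem runs_cons {m : ℕ} {β : Fin m → K} (hβ : Runs β) {b : K} (hb : ∀ i, β i ≠ b) :
    Runs (Fin.cons b β : Fin (m + 1) → K) := by
  intro i j l hij hjl
  obtain ⟨j', rfl⟩ := Fin.exists_succ_eq.2 (show j ≠ 0 from fun h => by rw [h] at hij; exact absurd hij (Fin.not_lt_zero i))
  obtain ⟨l', rfl⟩ := Fin.exists_succ_eq.2 (show l ≠ 0 from fun h => by rw [h] at hjl; exact absurd hjl (Fin.not_lt_zero _))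
  revert hij
  refine Fin.cases ?_ (fun i => ?_) i
  · intro _ h
    simp only [Fin.cons_zero, Fin.cons_succ] at h
    exact absurd h.symm (hb l')
  · intro hij h
    simp only [Fin.cons_succ] at h ⊢
    exact hβ i j' l' (Fin.succ_lt_succ_iff.1 hij) (Fin.succ_lt_succ_iff.1 hjl) h

theorem exists_runs_perm {m : ℕ} [Fintype K] (β : Fin m → K) :
    ∃ σ : Equiv.Perm (Fin m), Runs (β ∘ σ) := by
  let f : Fin m → Fin (Fintype.card K) := fun i => Fintype.equivFin K (β i)
  refine ⟨Tuple.sort f, fun i j l hij hjl h => ?_⟩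
  have hm := Tuple.monotone_sort f
  have h1 := hm hij.le
  have h2 := hm hjl.le
  have h3 : (f ∘ Tuple.sort f) i = (f ∘ Tuple.sort f) l := congrArg (Fintype.equivFin K) h
  exact (Fintype.equivFin K).injective (le_antisymm h1 (h2.trans h3.ge))

variable [Fintype K]

theorem exists_notMem (S : Finset K) (h : S.card < Fintype.card K) : ∃ u, u ∉ S := by
  obtain ⟨u, -, hu⟩ := Finset.exists_mem_notMem_of_card_lt_card (s := S) (t := (Finset.univ : Finset K))
    (by rwa [Finset.card_univ])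
  exact ⟨u, hu⟩

/-- Values different from `b` with a prescribed product, equal values contiguous. -/
theorem exists_values (h4 : 4 ≤ Fintype.card K) {m : ℕ} (hm : 2 ≤ m) (b : K) {P : K} (hP : P ≠ 0) :
    ∃ β : Fin m → K, (∀ i, β i ≠ 0) ∧ (∀ i, β i ≠ b) ∧ ∏ i, β i = P ∧ Runs β := by
  classical
  obtain ⟨k, rfl⟩ : ∃ k, m = k + 2 := ⟨m - 2, by omega⟩
  obtain ⟨u, hu⟩ := exists_notMem ({0, b} : Finset K) (by
    refine lt_of_le_of_lt (Finset.card_insert_le _ _) ?_; rw [Finset.card_singleton]; omega)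
  simp only [Finset.mem_insert, Finset.mem_singleton, not_or] at hu
  set Q := P / u ^ k
  have hQ : Q ≠ 0 := div_ne_zero hP (pow_ne_zero _ hu.1)
  obtain ⟨c, hc⟩ := exists_notMem ({0, b, Q / b} : Finset K) (by
    refine lt_of_le_of_lt (Finset.card_insert_le _ _) ?_
    refine lt_of_le_of_lt (Nat.add_le_add_right (Finset.card_insert_le _ _) 1) ?_
    rw [Finset.card_singleton]; omega)
  simp only [Finset.mem_insert, Finset.mem_singleton, not_or] at hc
  set γ : Fin (k + 2) → K := Fin.cons c (Fin.cons (Q / c) fun _ => u)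
  have h0 : ∀ i, γ i ≠ 0 ∧ γ i ≠ b := by
    intro i
    refine Fin.cases ?_ (fun i => ?_) i
    · exact ⟨hc.1, hc.2.1⟩
    · refine Fin.cases ?_ (fun i => ?_) i
      · refine ⟨div_ne_zero hQ hc.1, fun h => hc.2.2 ?_⟩
        simp only [γ, Fin.cons_succ, Fin.cons_zero] at h
        rw [div_eq_iff hc.1] at h
        rw [eq_div_iff (fun hb => hQ (by rw [h, hb, zero_mul]))]
        rw [h, mul_comm]
      · simpa [γ] using hu
  obtain ⟨σ, hσ⟩ := exists_runs_perm γ
  refine ⟨γ ∘ σ, fun i => (h0 _).1, fun i => (h0 _).2, ?_, hσ⟩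
  simp only [Function.comp]
  rw [Equiv.prod_comp σ γ, Fin.prod_univ_succ, Fin.prod_univ_succ]
  simp [γ, Q]
  field_simp [hc.1, hu.1]

/-- A spectrum with simple first value `b`. -/
theorem exists_spectrum (h4 : 4 ≤ Fintype.card K) {m : ℕ} (hm : 2 ≤ m) {b D : K} (hb : b ≠ 0) (hD : D ≠ 0) :
    ∃ β : Fin (m + 1) → K, (∀ i, β i ≠ 0) ∧ β 0 = b ∧ (∀ i : Fin m, β i.succ ≠ b) ∧ ∏ i, β i = D ∧ Runs β := by
  obtain ⟨β, h1, h2, h3, h5⟩ := exists_values h4 hm b (P := D / b) (div_ne_zero hD hb)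
  refine ⟨Fin.cons b β, fun i => ?_, rfl, fun i => by simpa using h2 i, ?_, runs_cons h5 h2⟩
  · refine Fin.cases ?_ (fun i => ?_) i
    · simpa using hb
    · simpa using h1 i
  · rw [Fin.prod_univ_succ]
    simp [h3]
    field_simp

theorem charpoly_of_splitAt {k : ℕ} {R : Matrix (Fin (k + 1)) (Fin (k + 1)) K} {β e : Fin (k + 1) → K}
    (h : SplitAt R β e) : R.charpoly = ∏ i, (Polynomial.X - Polynomial.C (β i)) := by
  obtain ⟨P, P', h1, h2, -, hl, hd, -⟩ := h
  have : (P' * R * P).charpoly = R.charpoly := by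
    rw [charpoly_mul_comm, ← Matrix.mul_assoc, h1, Matrix.one_mul]
  rw [← this, Matrix.charpoly_of_upperTriangular _ (fun i j hij => hl i j hij)]
  exact Finset.prod_congr rfl fun i _ => by rw [hd i]

/-- A piece with prescribed class of the second factor and prescribed spectrum. -/
theorem exists_piece (h4 : 4 ≤ Fintype.card K) {k : ℕ} {A H₀ : Matrix (Fin (k + 2)) (Fin (k + 2)) K}
    (hA : A.det ≠ 0) (hH : Cyc H₀) (hH0 : H₀.det ≠ 0) {β : Fin (k + 2) → K} (hβ : ∀ i, β i ≠ 0)
    (hr : Runs β) (hprod : ∏ i, β i = A.det * H₀.det)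
    (hgood : (β 0 ≠ β 1 ∧ ∀ t : K, A ≠ t • 1) ∨
      ∃ (m : ℕ) (hm : k + 2 = m + 3) (e : Fin (k + 2) → K), (∀ t : K, A *ᵥ e ≠ t • e) ∧
        ∀ s t : K, A *ᵥ (A *ᵥ e) ≠ s • (A *ᵥ e) + t • e) :
    ∃ (Y : Matrix (Fin (k + 2)) (Fin (k + 2)) K) (e : Fin (k + 2) → K), Sim H₀ Y ∧ Y.det ≠ 0 ∧
      Piece A Y (β 0) ∧ (A * Y).charpoly = ∏ i, (Polynomial.X - Polynomial.C (β i)) ∧ e ≠ 0 ∧
      (A * Y) *ᵥ e = β 0 • e ∧ ∀ t : K, Y *ᵥ e ≠ t • e := by
  have hH0i : H₀⁻¹.det = H₀.det⁻¹ := by rw [det_nonsing_inv, Ring.inverse_eq_inv']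
  set g := (H₀⁻¹).charpoly
  have hd : g.natDegree = k + 2 := by rw [charpoly_natDegree_eq_dim, Fintype.card_fin]
  have hdet : (-1) ^ (k + 2) * g.coeff 0 * ∏ i, β i = A.det := by
    rw [← det_of_charpoly (G := H₀⁻¹) rfl, hH0i, hprod]
    field_simp
  obtain ⟨R, H, hARH, hHe, hR⟩ : ∃ (R H : Matrix (Fin (k + 2)) (Fin (k + 2)) K), ∃ hA' : A = R * H,
      H.charpoly = g ∧ ∃ e, CycAt H e ∧ SplitAt R β e := by
    rcases hgood with ⟨hb, hns⟩ | ⟨m, hm, e, he, he2⟩
    · obtain ⟨e, he⟩ := exists_noneigen hns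
      obtain ⟨R, H, h1, h2, h3, h5⟩ := exists_split h4 hA he hβ hb (charpoly_monic _) hd hdet
      exact ⟨R, H, h1, h2, e, h3, h5⟩
    · obtain rfl : k = m + 1 := by omega
      obtain ⟨R, H, h1, h2, h3, h5⟩ := exists_split_nonquad h4 hA he he2 hβ (charpoly_monic _) hd hdet
      exact ⟨R, H, h1, h2, e, h3, h5⟩
  obtain ⟨e, hHe', hRe⟩ := hR
  have hdH : H.det ≠ 0 := fun h0 => hA (by rw [hARH, det_mul, h0, mul_zero])
  have uH : IsUnit H.det := isUnit_iff_ne_zero.2 hdH
  have hcH : Cyc H := ⟨e, cycV_of_krylov hHe'⟩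
  have hsim : Sim H₀ H⁻¹ := by
    have h1 : Sim H₀⁻¹ H := sim_of_cyc (hH.inv hH0) hcH hHe.symm
    obtain ⟨P, P', p1, p2, hP⟩ := h1
    refine ⟨P, P', p1, p2, ?_⟩
    refine Matrix.inv_eq_right_inv ?_
    rw [hP, show P * H₀⁻¹ * P' * (P * H₀ * P') = P * H₀⁻¹ * (P' * P) * H₀ * P' by simp only [Matrix.mul_assoc], p2,
      Matrix.mul_one, Matrix.mul_assoc P, Matrix.nonsing_inv_mul H₀ (isUnit_iff_ne_zero.2 hH0), Matrix.mul_one, p1]
  have hAY : A * H⁻¹ = R := by rw [hARH, Matrix.mul_assoc, Matrix.mul_nonsing_inv H uH, Matrix.mul_one]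
  have he0 : e ≠ 0 := fun h => by
    apply hHe'
    rw [h]
    refine Matrix.det_eq_zero_of_column_eq_zero 0 fun i => ?_
    simp [SLCommutator.krylov]
  have hYe : ∀ t : K, H⁻¹ *ᵥ e ≠ t • e := by
    intro t ht
    have h1 : e = t • (H *ᵥ e) := by
      rw [← mulVec_smul, ← ht, mulVec_mulVec, Matrix.mul_nonsing_inv H uH, one_mulVec]
    have ht0 : t ≠ 0 := fun h0 => he0 (by rw [h1, h0, zero_smul])
    have h2 : H *ᵥ e = t⁻¹ • e := by
      conv_rhs => rw [h1]
      rw [smul_smul, inv_mul_cancel₀ ht0, one_smul]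
    obtain ⟨z, hz0, hze⟩ : ∃ z : Fin (k + 2) → K, z ≠ 0 ∧ z ⬝ᵥ e = 0 := by
      by_cases h0 : e 0 = 0
      · exact ⟨Pi.single 0 1, fun h => by simpa using congrFun h 0, by simp [h0]⟩
      · refine ⟨e 1 • Pi.single 0 1 - e 0 • Pi.single 1 1, fun h => ?_, ?_⟩
        · have := congrFun h 1
          simp [Pi.single_apply, h0] at this
        · simp [sub_dotProduct, smul_dotProduct]; ring
    have hpow : ∀ j : ℕ, H ^ j *ᵥ e = t⁻¹ ^ j • e := by
      intro j
      induction j with
      | zero => simp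
      | succ j ih => rw [pow_succ', ← mulVec_mulVec, ih, mulVec_smul, h2, smul_smul, pow_succ]
    exact hz0 (cycAt_iff.1 hHe' z fun j => by rw [hpow, dotProduct_smul, hze, smul_zero])
  refine ⟨H⁻¹, e, hsim, hsim.det_ne hH0, ⟨?_, ?_, ?_⟩, ?_, he0, ?_, hYe⟩
  · rw [hAY]; exact cyc_of_isCyc (hRe.cycAt hr)
  · rw [hAY]
    obtain ⟨P, P', h1, h2, -, hl, -⟩ := hRe
    exact ⟨P, P', h1, h2, hl⟩
  · intro φ θ s hφ0 hφR hφA
    rw [hAY] at hφR
    by_contra hθ
    apply hφ0
    have hφe : φ ⬝ᵥ e = 0 := by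
      have h1 := congrArg (φ ⬝ᵥ ·) hRe.mulVec_e
      simp only [dotProduct_mulVec, hφR, smul_dotProduct, dotProduct_smul, smul_eq_mul] at h1
      have h2 : (θ - β 0) * (φ ⬝ᵥ e) = 0 := by linear_combination h1
      exact (mul_eq_zero.1 h2).resolve_left (sub_ne_zero.2 hθ)
    have hθ0 : θ ≠ 0 := by
      rintro rfl
      rw [zero_smul] at hφR
      refine hφ0 (Matrix.eq_zero_of_vecMul_eq_zero ?_ hφR)
      intro h0; exact hA (by rw [hARH, det_mul, h0, zero_mul])
    have h3 : φ ᵥ* H = (s / θ) • φ := by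
      rw [hARH, ← vecMul_vecMul, hφR, smul_vecMul] at hφA
      have := congrArg (θ⁻¹ • ·) hφA
      simp only [smul_smul, inv_mul_cancel₀ hθ0, one_smul] at this
      rw [this, div_eq_inv_mul]
    have hpow : ∀ j : ℕ, φ ᵥ* H ^ j = (s / θ) ^ j • φ := by
      intro j
      induction j with
      | zero => simp
      | succ j ih => rw [pow_succ, ← vecMul_vecMul, ih, smul_vecMul, h3, smul_smul, pow_succ]
    exact cycAt_iff.1 hHe' φ fun j => by rw [dotProduct_mulVec, hpow, smul_dotProduct, hφe, smul_zero]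
  · rw [hAY]; exact charpoly_of_splitAt hRe
  · rw [hAY]; exact hRe.mulVec_e

end CfsgLib.LevCover
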