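import Cfsg.Agent.LevCover.Factor

/-!
The few matrices for which the identity needs an explicit product.
-/

set_option autoImplicit false
set_option linter.unusedSectionVars false
set_option linter.unusedSimpArgs false

namespace CfsgLib.LevCover

open Matrix Polynomial

variable {K : Type*} [Field K] [Fintype K]

theorem sim_fin_two {N s : K} :
    Sim (!![0, -N; 1, s]) (!![s, N; -1, 0]) ∧ Cyc (!![0, -N; 1, s]) := by
  have h1 : Cyc (!![0, -N; 1, s]) := by
    refine ⟨![1, 0], cycV_of_krylov ?_⟩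
    simp [SLCommutator.krylov, det_fin_two, Matrix.mulVec, dotProduct]
  have h2 : Cyc (!![s, N; -1, 0]) := by
    refine ⟨![1, 0], cycV_of_krylov ?_⟩
    simp [SLCommutator.krylov, det_fin_two, Matrix.mulVec, dotProduct]
  refine ⟨sim_of_cyc h1 h2 ?_, h1⟩
  rw [Matrix.charpoly_fin_two, Matrix.charpoly_fin_two]
  simp [trace_fin_two, det_fin_two]

theorem simProd_adj {N s : K} : SimProd (!![0, -N; 1, s]) 2 (N • (1 : Matrix (Fin 2) (Fin 2) K)) := by
  have h := (SimProd.one (Sim.refl (!![0, -N; 1, s]))).mul (SimProd.one (sim_fin_two (N := N) (s := s)).1)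
  convert h using 1
  ext i j
  fin_cases i <;> fin_cases j <;> simp [Matrix.mul_apply, Fin.sum_univ_two]

theorem simProd_three {N s lam : K} (hN : N ≠ 0) (hlam : lam ≠ 0) (hg : lam * lam - s * lam + N ≠ 0) :
    SimProd (Matrix.fromBlocks (!![0, -N; 1, s]) 0 0 (lam • (1 : Matrix (Fin 1) (Fin 1) K))) 3
      ((N * lam) • (1 : Matrix (Fin 3) (Fin 3) K)) := by
  set C : Matrix (Fin 2) (Fin 2) K := !![0, -N; 1, s]
  set x := Matrix.fromBlocks C 0 0 (lam • (1 : Matrix (Fin 1) (Fin 1) K))
  set y₁ : Matrix (Fin 3) (Fin 3) K := !![lam, 0, 0; 0, 0, -N; 0, 1, s]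
  set y₂ : Matrix (Fin 3) (Fin 3) K := !![0, -N, -(lam * N); 1, s, N; 0, 0, lam]
  have h1 : Sim x y₁ := by
    refine (sim_comm _ _).trans (Sim.of_reindex finSumFinEquiv ?_)
    ext i j
    fin_cases i <;> fin_cases j <;>
      simp [y₁, C, finSumFinEquiv, Fin.addCases, Fin.castLT, Fin.subNat]
  have h2 : Sim x y₂ := by
    set L : Matrix (Fin 2) (Fin 1) K := !![-(lam * N); N]
    obtain ⟨ν, hν⟩ : ∃ ν : Matrix (Fin 2) (Fin 1) K, C * ν - ν * (lam • (1 : Matrix (Fin 1) (Fin 1) K)) = L := by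
      set D : Matrix (Fin 2) (Fin 2) K := C - lam • 1 with hD
      have hd : D.det ≠ 0 := by
        simp [hD, C, det_fin_two]
        intro h; apply hg; linear_combination h
      refine ⟨D⁻¹ * L, ?_⟩
      rw [Matrix.mul_smul, Matrix.mul_one]
      have e : C * (D⁻¹ * L) - lam • (D⁻¹ * L) = D * (D⁻¹ * L) := by
        rw [hD, Matrix.sub_mul, Matrix.smul_mul, Matrix.one_mul]
      rw [e, ← Matrix.mul_assoc, Matrix.mul_nonsing_inv _ (isUnit_iff_ne_zero.2 hd), Matrix.one_mul]
    have h := sim_shear C (lam • (1 : Matrix (Fin 1) (Fin 1) K)) 0 ν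
    rw [show (0 : Matrix (Fin 2) (Fin 1) K) + C * ν - ν * (lam • (1 : Matrix (Fin 1) (Fin 1) K)) = L by
      rw [zero_add, hν]] at h
    refine h.trans (Sim.of_reindex finSumFinEquiv ?_)
    ext i j
    fin_cases i <;> fin_cases j <;>
      simp [y₂, C, L, finSumFinEquiv, Fin.addCases, Fin.castLT, Fin.subNat]
  set M : Matrix (Fin 3) (Fin 3) K := !![N, 0, 0; 0, lam * s, lam * N; 0, -lam, 0]
  have hG : Cyc (y₁ * y₂) := by
    refine ⟨![1, 0, 0], cycV_of_krylov ?_⟩
    simp [SLCommutator.krylov, y₁, y₂, det_fin_three, pow_two, Matrix.mulVec, dotProduct, Fin.sum_univ_three,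
      Matrix.mul_apply, hN, hlam]
  have hM : Cyc M := by
    refine ⟨![1, 1, 0], cycV_of_krylov ?_⟩
    simp [SLCommutator.krylov, M, det_fin_three, pow_two, Matrix.mulVec, dotProduct, Fin.sum_univ_three,
      Matrix.mul_apply]
    intro h
    apply mul_ne_zero (mul_ne_zero hlam hN) hg
    linear_combination -h
  have hchar : (y₁ * y₂).charpoly = M.charpoly := by
    simp [Matrix.charpoly, charmatrix_apply, det_fin_three, y₁, y₂, M, Matrix.mul_apply, Fin.sum_univ_three]
    ring
  have hW : SimProd x 2 M := ((SimProd.one h1).mul (SimProd.one h2)).of_sim (sim_of_cyc hG hM hchar)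
  have hprod := (SimProd.one h1).mul hW
  convert hprod using 1
  ext i j
  fin_cases i <;> fin_cases j <;> simp [y₁, M, Matrix.mul_apply, Fin.sum_univ_three] <;> ring

theorem simProd_pairs_triple {N s lam : K} (hN : N ≠ 0) (hlam : lam ≠ 0) (hg : lam * lam - s * lam + N ≠ 0) :
    ∀ i : ℕ, SimProd (Matrix.fromBlocks (!![0, -N; 1, s]) 0 0
      (lam • (1 : Matrix (Fin (2 * i + 1)) (Fin (2 * i + 1)) K))) (2 * i + 3)
      ((N * lam ^ (2 * i + 1)) • (1 : Matrix (Fin (2 * i + 3)) (Fin (2 * i + 3)) K)) := by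
  intro i
  induction i with
  | zero => simpa using simProd_three hN hlam hg
  | succ i ih =>
    set C : Matrix (Fin 2) (Fin 2) K := !![0, -N; 1, s]
    set big := Matrix.fromBlocks C 0 0 (lam • (1 : Matrix (Fin (2 * i + 3)) (Fin (2 * i + 3)) K))
    have h1 : SimProd big 2 (Matrix.fromBlocks (N • (1 : Matrix (Fin 2) (Fin 2) K)) 0 0
        (lam ^ 2 • (1 : Matrix (Fin (2 * i + 3)) (Fin (2 * i + 3)) K))) := simProd_adj.blocks lam
    have h2 : SimProd big (2 * i + 3) (Matrix.fromBlocks (lam ^ (2 * i + 3) • (1 : Matrix (Fin 2) (Fin 2) K)) 0 0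
        ((N * lam ^ (2 * i + 1)) • (1 : Matrix (Fin (2 * i + 3)) (Fin (2 * i + 3)) K))) := by
      refine SimProd.congr_base ?_ ((ih.blocks (μ := Fin 2) lam).of_sim (sim_comm _ _))
      refine Sim.trans ?_ (sim_assoc C _ _).symm
      refine sim_blocks (Sim.refl C) ?_
      rw [blocks_smul_one]
      exact sim_smul_one lam ((finCongr (show 2 * i + 3 = 2 * i + 1 + 2 by omega)).trans finSumFinEquiv.symm)
    have h := h1.mul h2
    rw [Matrix.fromBlocks_multiply] at h
    have h' : SimProd big (2 + (2 * i + 3))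
        ((N * lam ^ (2 * i + 3)) • (1 : Matrix (Fin 2 ⊕ Fin (2 * i + 3)) (Fin 2 ⊕ Fin (2 * i + 3)) K)) := by
      convert h using 1
      rw [← blocks_smul_one]
      simp only [Matrix.mul_zero, Matrix.zero_mul, add_zero, zero_add, smul_mul_smul_comm, Matrix.one_mul]
      congr 2
      ring
    have h'' := h'.of_sim (sim_smul_one (N * lam ^ (2 * i + 3))
      (finSumFinEquiv.trans (finCongr (show 2 + (2 * i + 3) = 2 * (i + 1) + 3 by omega))))
    rw [show 2 + (2 * i + 3) = 2 * (i + 1) + 3 by omega] at h''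
    exact h''

/-- Diagonal matrices: the cyclic shifts multiply to the determinant. -/
theorem simProd_diagonal {n : ℕ} (D : Fin (n + 1) → K) :
    SimProd (Matrix.diagonal D) (n + 1) ((∏ i, D i) • (1 : Matrix (Fin (n + 1)) (Fin (n + 1)) K)) := by
  refine ⟨fun i => Matrix.diagonal fun j => D (j + i), fun i => ?_, ?_⟩
  · refine Sim.of_reindex (Equiv.addRight (-i)) ?_
    ext a b
    simp [Matrix.diagonal_apply]
  · have hd : ∀ (m : ℕ) (f : Fin m → Fin (n + 1) → K),
        (List.ofFn fun i => Matrix.diagonal (f i)).prod = Matrix.diagonal fun j => ∏ i, f i j := by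
      intro m
      induction m with
      | zero => intro f; simp
      | succ m ih =>
        intro f
        rw [List.ofFn_succ, List.prod_cons, ih (fun i => f i.succ), diagonal_mul_diagonal]
        congr 1; funext j; rw [Fin.prod_univ_succ]
    rw [hd, Matrix.smul_one_eq_diagonal]
    congr 1
    funext j
    exact (Equiv.prod_comp (Equiv.addLeft j) D).symm

theorem simProd_unipotent_two {lam : K} (_hlam : lam ≠ 0) {a b c : K} (ha : a ≠ 0) (hb : b ≠ 0) (hc : c ≠ 0)
    (h : a + b + c = 0) :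
    SimProd (!![lam, 1; 0, lam]) 3 (lam ^ 3 • (1 : Matrix (Fin 2) (Fin 2) K)) := by
  have hs : ∀ t : K, t ≠ 0 → Sim (!![lam, 1; 0, lam]) (!![lam, t; 0, lam]) := by
    intro t ht
    have hh : ∀ t : K, t ≠ 0 → Cyc (!![lam, t; 0, lam]) := by
      intro t ht
      refine ⟨![0, 1], cycV_of_krylov ?_⟩
      simp [SLCommutator.krylov, det_fin_two, Matrix.mulVec, dotProduct, ht]
    refine sim_of_cyc (hh 1 one_ne_zero) (hh t ht) ?_
    rw [Matrix.charpoly_fin_two, Matrix.charpoly_fin_two]
    simp [trace_fin_two, det_fin_two]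
  have h3 := ((SimProd.one (hs a ha)).mul (SimProd.one (hs b hb))).mul (SimProd.one (hs c hc))
  convert h3 using 1
  ext i j
  fin_cases i <;> fin_cases j <;> simp [Matrix.mul_apply, Fin.sum_univ_two] <;> first | linear_combination -(lam ^ 2) * h | ring

end CfsgLib.LevCover
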