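import Cfsg.Agent.LevCover.IrredPoly
import Cfsg.Agent.LevCover.Ctrl

/-!
A non-scalar invertible matrix is the product of a cyclic matrix with any characteristic
polynomial and a cyclic split matrix with any admissible spectrum.
-/

set_option autoImplicit false
set_option linter.unusedSectionVars false
set_option linter.unusedSimpArgs false

namespace CfsgLib.LevCover

open Matrix Polynomial
open CfsgLib.SourourProduct (blk blk_mul blk_ext blk_injective blk_mulVec_e₀ e₀ eq_blk exists_frame one_eq_blk)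
open CfsgLib.SLCommutator (IsCyc isCyc_upper)

variable {K : Type*} [Field K] {n k : ℕ}

/-- `R` is upper triangular with diagonal `β` and nonzero links between equal neighbours, in a basis
beginning with `e`. -/
def SplitAt (R : Matrix (Fin (k + 1)) (Fin (k + 1)) K) (β : Fin (k + 1) → K) (e : Fin (k + 1) → K) :
    Prop :=
  ∃ P P' : Matrix (Fin (k + 1)) (Fin (k + 1)) K, P * P' = 1 ∧ P' * P = 1 ∧ P *ᵥ e₀ = e ∧
    (∀ i j, j < i → (P' * R * P) i j = 0) ∧ (∀ i, (P' * R * P) i i = β i) ∧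
    ∀ i j : Fin (k + 1), j.val = i.val + 1 → β i = β j → (P' * R * P) i j ≠ 0

/-- Equal values are contiguous. -/
def Runs (β : Fin n → K) : Prop := ∀ i j l : Fin n, i < j → j < l → β i = β l → β i = β j

theorem SplitAt.det_eq {R : Matrix (Fin (k + 1)) (Fin (k + 1)) K} {β e} (h : SplitAt R β e) :
    R.det = ∏ i, β i := by
  obtain ⟨P, P', h1, h2, -, hl, hd, -⟩ := h
  have : (P' * R * P).det = R.det := by
    rw [det_mul, det_mul, mul_comm P'.det, mul_assoc, ← det_mul, h2, det_one, mul_one]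
  rw [← this, det_of_upperTriangular (fun i j hij => hl i j hij)]
  exact Finset.prod_congr rfl fun i _ => hd i

theorem SplitAt.mulVec_e {R : Matrix (Fin (k + 1)) (Fin (k + 1)) K} {β e} (h : SplitAt R β e) :
    R *ᵥ e = β 0 • e := by
  obtain ⟨P, P', h1, h2, he, hl, hd, -⟩ := h
  have hU : (P' * R * P) *ᵥ e₀ = β 0 • (e₀ : Fin (k + 1) → K) := by
    funext i
    rw [mulVec_single_one, col_apply]
    by_cases hi : i = 0
    · subst hi; simp [hd]
    · rw [hl i 0 (Fin.pos_of_ne_zero hi)]; simp [Pi.single_apply, hi]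
  have := congrArg (P *ᵥ ·) hU
  simp only [mulVec_smul, he, mulVec_mulVec] at this
  rw [← Matrix.mul_assoc, ← Matrix.mul_assoc, h1, Matrix.one_mul, ← mulVec_mulVec, he] at this
  exact this

theorem SplitAt.cycAt {R : Matrix (Fin (k + 1)) (Fin (k + 1)) K} {β e} (h : SplitAt R β e)
    (hr : Runs β) : IsCyc R := by
  obtain ⟨P, P', h1, h2, -, hl, hd, hs⟩ := h
  obtain ⟨w, hw⟩ := isCyc_upper hl (fun i j hij he => hs i j hij (by rwa [hd, hd] at he))
    (fun i j l hij hjl he => by rw [hd, hd] at he ⊢; exact hr i j l hij hjl he)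
  have := CycAt.conj (M := P' * R * P) hw h2 h1
  rw [show P * (P' * R * P) * P' = (P * P') * R * (P * P') by simp only [Matrix.mul_assoc], h1,
    Matrix.one_mul, Matrix.mul_one] at this
  exact ⟨_, this⟩

theorem SplitAt.conj {R : Matrix (Fin (k + 1)) (Fin (k + 1)) K} {β e} (h : SplitAt R β e)
    {T T' : Matrix (Fin (k + 1)) (Fin (k + 1)) K} (hT : T * T' = 1) (hT' : T' * T = 1) :
    SplitAt (T * R * T') β (T *ᵥ e) := by
  obtain ⟨P, P', h1, h2, he, hl, hd, hs⟩ := h
  have e1 : P' * T' * (T * R * T') * (T * P) = P' * R * P := by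
    rw [show P' * T' * (T * R * T') * (T * P) = P' * (T' * T) * R * (T' * T) * P by
      simp only [Matrix.mul_assoc], hT', Matrix.mul_one, Matrix.mul_one]
  refine ⟨T * P, P' * T', ?_, ?_, ?_, fun i j hij => by rw [e1]; exact hl i j hij,
    fun i => by rw [e1]; exact hd i, fun i j hij hb => by rw [e1]; exact hs i j hij hb⟩
  · rw [show T * P * (P' * T') = T * (P * P') * T' by simp only [Matrix.mul_assoc], h1,
      Matrix.mul_one, hT]
  · rw [show P' * T' * (T * P) = P' * (T' * T) * P by simp only [Matrix.mul_assoc], hT',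
      Matrix.mul_one, h2]
  · rw [← mulVec_mulVec, he]

theorem charpoly_conj {T T' H : Matrix (Fin n) (Fin n) K} (hT' : T' * T = 1) :
    (T * H * T').charpoly = H.charpoly := by
  rw [charpoly_mul_comm, ← Matrix.mul_assoc, hT', Matrix.one_mul]

theorem exists_noneigen {M : Matrix (Fin n) (Fin n) K} (hM : ∀ t : K, M ≠ t • 1) :
    ∃ v : Fin n → K, ∀ t : K, M *ᵥ v ≠ t • v := by
  classical
  by_contra hc
  push Not at hc
  choose f hf using hc
  have hdiag : ∀ i j, i ≠ j → M i j = 0 := fun i j hij => by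
    have := congrFun (hf (Pi.single j 1)) i
    simpa [mulVec_single_one, Pi.single_apply, hij] using this
  rcases isEmpty_or_nonempty (Fin n) with h | ⟨⟨i₀⟩⟩
  · exact hM 0 (by ext i; exact h.elim i)
  · refine hM (M i₀ i₀) ?_
    ext i j
    by_cases hij : i = j
    · subst hij
      by_cases hi : i = i₀
      · subst hi; simp
      · have h0 := congrFun (hf (Pi.single i 1 + Pi.single i₀ 1)) i
        have h1 := congrFun (hf (Pi.single i 1 + Pi.single i₀ 1)) i₀
        simp [mulVec_add, mulVec_single_one, Pi.single_apply, hi, Ne.symm hi, hdiag i i₀ hi,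
          hdiag i₀ i (Ne.symm hi)] at h0 h1
        simp [h0, h1]
    · simp [hdiag i j hij, hij]

theorem exists_covector {e w : Fin n → K} (he : e ≠ 0) (hw : ∀ t : K, w ≠ t • e) :
    ∃ f : Fin n → K, f ⬝ᵥ e = 1 ∧ f ⬝ᵥ w ≠ 0 := by
  classical
  obtain ⟨i, hi⟩ := Function.ne_iff.1 he
  simp only [Pi.zero_apply] at hi
  by_cases h1 : w i = 0
  · obtain ⟨l, hl⟩ := Function.ne_iff.1 (hw 0)
    simp only [zero_smul, Pi.zero_apply] at hl
    refine ⟨(e i)⁻¹ • Pi.single i 1 + (e i • Pi.single l 1 - e l • Pi.single i 1), ?_, ?_⟩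
    · simp [add_dotProduct, sub_dotProduct, smul_dotProduct, hi]
      ring
    · simp [add_dotProduct, sub_dotProduct, smul_dotProduct, h1, hi, hl]
  · exact ⟨(e i)⁻¹ • Pi.single i 1, by simp [smul_dotProduct, hi],
      by simp [smul_dotProduct, hi, h1]⟩

theorem det_corner {A : Matrix (Fin (k + 1)) (Fin (k + 1)) K} {z : Fin (k + 1) → K}
    (hz : A *ᵥ z = e₀) : (A.submatrix Fin.succ Fin.succ).det = A.det * z 0 := by
  have h := congrArg (A.adjugate *ᵥ ·) hz
  simp only [mulVec_mulVec, adjugate_mul, smul_mulVec, one_mulVec, mulVec_single_one] at h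
  have h0 := congrFun h 0
  rw [Pi.smul_apply, smul_eq_mul, col_apply, adjugate_fin_succ_eq_det_submatrix] at h0
  simpa using h0.symm

/-- A basis beginning with a non-eigenvector, with invertible and non-scalar complementary block. -/
theorem exists_frame' {A : Matrix (Fin (k + 2)) (Fin (k + 2)) K} (hA : A.det ≠ 0)
    {e : Fin (k + 2) → K} (he : ∀ t : K, A *ᵥ e ≠ t • e) :
    ∃ (T T' : Matrix (Fin (k + 2)) (Fin (k + 2)) K) (a : K) (r c : Fin (k + 1) → K)
      (M : Matrix (Fin (k + 1)) (Fin (k + 1)) K),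
      T * T' = 1 ∧ T' * T = 1 ∧ T *ᵥ e = e₀ ∧ T * A * T' = blk a r c M ∧ c ≠ 0 ∧ M.det ≠ 0 ∧
        (1 ≤ k → ∀ t : K, M ≠ t • 1) := by
  have u : IsUnit A.det := isUnit_iff_ne_zero.2 hA
  have he0 : e ≠ 0 := fun h => he 0 (by rw [h, mulVec_zero, smul_zero])
  set w := A⁻¹ *ᵥ e with hwdef
  have hAw : A *ᵥ w = e := by rw [hwdef, mulVec_mulVec, Matrix.mul_nonsing_inv A u, one_mulVec]
  have hw : ∀ t : K, w ≠ t • e := by
    intro t ht
    have h1 : t • (A *ᵥ e) = e := by rw [← mulVec_smul, ← ht, hAw]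
    have ht0 : t ≠ 0 := fun h0 => he0 (by rw [← h1, h0, zero_smul])
    exact he t⁻¹ (by rw [← h1, smul_smul, inv_mul_cancel₀ ht0, one_smul, h1])
  obtain ⟨f, hf, hfw⟩ := exists_covector he0 hw
  obtain ⟨T, T', hT, hT', hTe, hTe', hT0⟩ := exists_frame e f hf
  set A' := T * A * T' with hA'
  set a := A' 0 0
  set r : Fin (k + 1) → K := fun j => A' 0 j.succ
  set c : Fin (k + 1) → K := fun i => A' i.succ 0
  set M := A'.submatrix Fin.succ Fin.succ with hMdef
  have hblk : A' = blk a r c M := eq_blk A'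
  have hback : ∀ x, T' *ᵥ (T *ᵥ x) = x := fun x => by rw [mulVec_mulVec, hT', one_mulVec]
  have hA'e : A' *ᵥ e₀ = T *ᵥ (A *ᵥ e) := by rw [hA', ← mulVec_mulVec, ← mulVec_mulVec, hTe']
  have hc : c ≠ 0 := by
    intro h
    apply he a
    have h1 : A' *ᵥ e₀ = a • (e₀ : Fin (k + 2) → K) := by
      rw [hblk, blk_mulVec_e₀, h]
      funext i
      refine Fin.cases ?_ (fun i => ?_) i <;> simp
    rw [← hback (A *ᵥ e), ← hA'e, h1, mulVec_smul, hTe']
  have hM : M.det ≠ 0 := by
    rw [hMdef, det_corner (z := T *ᵥ w)]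
    · rw [hT0]
      refine mul_ne_zero ?_ hfw
      rw [hA', det_mul, det_mul, mul_comm T.det, mul_assoc, ← det_mul, hT, det_one, mul_one]
      exact hA
    · rw [hA', ← mulVec_mulVec, ← mulVec_mulVec, hback, hAw, hTe]
  by_cases hs : ∀ t : K, M ≠ t • 1
  · exact ⟨T, T', a, r, c, M, hT, hT', hTe, hblk, hc, hM, fun _ => hs⟩
  push Not at hs
  obtain ⟨m, hm⟩ := hs
  rcases Nat.eq_zero_or_pos k with hk | hk
  · exact ⟨T, T', a, r, c, M, hT, hT', hTe, hblk, hc, hM, fun h => by omega⟩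
  obtain ⟨φ, hφ0, hφc⟩ : ∃ φ : Fin (k + 1) → K, φ ≠ 0 ∧ φ ⬝ᵥ c = 0 := by
    have hne : (0 : Fin (k + 1)) ≠ Fin.last k := fun h => by
      have := congrArg Fin.val h; simp at this; omega
    by_cases h : c 0 = 0
    · exact ⟨Pi.single 0 1, fun h' => by simpa using congrFun h' 0, by simp [h]⟩
    · refine ⟨c (Fin.last k) • Pi.single 0 1 - c 0 • Pi.single (Fin.last k) 1, fun h' => ?_, ?_⟩
      · have := congrFun h' (Fin.last k)
        simp [Pi.single_apply, hne.symm, h] at this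
      · simp [sub_dotProduct, smul_dotProduct]; ring
  have hm0 : m ≠ 0 := by
    intro h
    apply hM
    rw [hm, h, zero_smul, det_zero]
  set P : Matrix (Fin (k + 2)) (Fin (k + 2)) K := blk 1 φ 0 1
  set P' : Matrix (Fin (k + 2)) (Fin (k + 2)) K := blk 1 (-φ) 0 1
  have hPP : P * P' = 1 := by conv_rhs => rw [one_eq_blk]
                              simp [P, P', blk_mul]
  have hPP' : P' * P = 1 := by conv_rhs => rw [one_eq_blk]
                               simp [P, P', blk_mul]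
  have hPe : P' *ᵥ (e₀ : Fin (k + 2) → K) = e₀ := by
    rw [blk_mulVec_e₀]
    funext i
    refine Fin.cases ?_ (fun i => ?_) i <;> simp
  refine ⟨P' * T, T' * P, a - φ ⬝ᵥ c, a • φ + r - φ ᵥ* M - (φ ⬝ᵥ c) • φ, c, M + vecMulVec c φ,
    ?_, ?_, ?_, ?_, hc, ?_, fun _ t ht => ?_⟩
  · rw [show P' * T * (T' * P) = P' * (T * T') * P by simp only [Matrix.mul_assoc], hT,
      Matrix.mul_one, hPP']
  · rw [show T' * P * (P' * T) = T' * (P * P') * T by simp only [Matrix.mul_assoc], hPP,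
      Matrix.mul_one, hT']
  · rw [← mulVec_mulVec, hTe, hPe]
  · rw [show P' * T * A * (T' * P) = P' * (T * A * T') * P by simp only [Matrix.mul_assoc],
      ← hA', hblk, blk_mul, blk_mul]
    refine blk_ext ?_ ?_ ?_ ?_ <;> intros <;>
      simp [vecMulVec_apply, neg_vecMul, neg_dotProduct] <;> ring
  · rw [hm, show m • (1 : Matrix (Fin (k + 1)) (Fin (k + 1)) K) + vecMulVec c φ =
      m • (1 + replicateCol Unit (m⁻¹ • c) * replicateRow Unit φ) by
        rw [← vecMulVec_eq, smul_add, smul_vecMulVec, smul_smul, mul_inv_cancel₀ hm0, one_smul],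
      det_smul, det_one_add_replicateCol_mul_replicateRow, dotProduct_smul, hφc, smul_zero, add_zero,
      mul_one]
    exact pow_ne_zero _ hm0
  · rw [hm] at ht
    have h1 : vecMulVec c φ = (t - m) • (1 : Matrix (Fin (k + 1)) (Fin (k + 1)) K) := by
      rw [sub_smul, ← ht]; abel
    have h2 := congrArg (fun X => X * X) h1
    simp only [vecMulVec_mul_vecMulVec, hφc, zero_smul, vecMulVec_zero, smul_mul_smul_comm,
      Matrix.one_mul] at h2
    have h3 : t - m = 0 := by
      have := congrFun (congrFun h2 0) 0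
      simp at this
      exact this
    rw [h3, zero_smul] at h1
    obtain ⟨i, hi⟩ := Function.ne_iff.1 hc
    obtain ⟨j, hj⟩ := Function.ne_iff.1 hφ0
    have := congrFun (congrFun h1 i) j
    simp only [vecMulVec_apply, Matrix.zero_apply, mul_eq_zero] at this
    exact this.elim hi hj

theorem det_blk_linear (x y : K) (r c : Fin k → K) (M : Matrix (Fin k) (Fin k) K) :
    (blk x r c M).det = (blk y r c M).det + (x - y) * M.det := by
  have hs : ∀ z (j : Fin (k + 1)), (blk z r c M).submatrix Fin.succ j.succAbove =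
      (blk y r c M).submatrix Fin.succ j.succAbove := fun z j => by ext i l; simp [SourourProduct.blk]
  have hM : (blk y r c M).submatrix Fin.succ (Fin.succAbove 0) = M := by ext i l; simp
  rw [det_succ_row_zero (blk x r c M), det_succ_row_zero (blk y r c M), Fin.sum_univ_succ,
    Fin.sum_univ_succ]
  simp only [hs x, hM]
  simp
  ring

theorem det_upper_blk (x : K) (r : Fin k → K) (M : Matrix (Fin k) (Fin k) K) :
    (blk x r 0 M).det = x * M.det := by
  rw [det_blk_linear x 0 r 0 M]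
  have : (blk 0 r 0 M).det = 0 :=
    det_eq_zero_of_column_eq_zero 0 (fun i => by refine Fin.cases ?_ (fun i => ?_) i <;> simp)
  rw [this]; ring

/-- Gluing one more dimension onto a factorisation of the complementary block. -/
theorem glue {a β₀ h : K} {r c η : Fin (k + 1) → K} {M R' H' : Matrix (Fin (k + 1)) (Fin (k + 1)) K}
    {β' e' : Fin (k + 1) → K} (hM : M.det ≠ 0) (hMRH : M = R' * H') (hR : SplitAt R' β' e')
    (hc' : CycAt H' (R'⁻¹ *ᵥ c))
    (hdet : (blk h η (R'⁻¹ *ᵥ c) H').det * (β₀ * ∏ i, β' i) = (blk a r c M).det) :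
    a = β₀ * h + ((r - β₀ • η) ᵥ* H'⁻¹) ⬝ᵥ (R'⁻¹ *ᵥ c) ∧
    ((β₀ ≠ β' 0 ∨ ((r - β₀ • η) ᵥ* H'⁻¹) ⬝ᵥ e' ≠ 0) →
      ∃ R H : Matrix (Fin (k + 2)) (Fin (k + 2)) K, blk a r c M = R * H ∧
        H.charpoly = (blk h η (R'⁻¹ *ᵥ c) H').charpoly ∧ CycAt H e₀ ∧ SplitAt R (Fin.cons β₀ β') e₀) := by
  rw [hMRH, det_mul, mul_ne_zero_iff] at hM
  have uR : IsUnit R'.det := isUnit_iff_ne_zero.2 hM.1
  have uH : IsUnit H'.det := isUnit_iff_ne_zero.2 hM.2
  set c' := R'⁻¹ *ᵥ c with hc'def
  set ρ := (r - β₀ • η) ᵥ* H'⁻¹ with hρ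
  have hRc : R' *ᵥ c' = c := by rw [hc'def, mulVec_mulVec, Matrix.mul_nonsing_inv R' uR, one_mulVec]
  have hρH : ρ ᵥ* H' = r - β₀ • η := by
    rw [hρ, vecMul_vecMul, Matrix.nonsing_inv_mul H' uH, vecMul_one]
  have hprod : blk β₀ ρ 0 R' * blk h η c' H' = blk (β₀ * h + ρ ⬝ᵥ c') r c M := by
    rw [blk_mul, hRc, smul_zero, zero_add, vecMulVec, ← hMRH, hρH]
    congr 1
    · abel
    · ext i j; simp
  have hcorner : a = β₀ * h + ρ ⬝ᵥ c' := by
    have h1 := congrArg det hprod
    rw [det_mul, det_upper_blk, hR.det_eq, mul_comm, hdet, det_blk_linear a (β₀ * h + ρ ⬝ᵥ c')] at h1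
    have h2 : (a - (β₀ * h + ρ ⬝ᵥ c')) * M.det = 0 := by linear_combination h1
    exact sub_eq_zero.1 ((mul_eq_zero.1 h2).resolve_right
      (by rw [hMRH, det_mul]; exact mul_ne_zero hM.1 hM.2))
  refine ⟨hcorner, fun hlink => ?_⟩
  refine ⟨blk β₀ ρ 0 R', blk h η c' H', by rw [hprod, hcorner], rfl, cycAt_blk hc' h η, ?_⟩
  obtain ⟨P, P', h1, h2, he, hl, hd, hs⟩ := hR
  have hU : blk 1 0 0 P' * blk β₀ ρ 0 R' * blk 1 0 0 P = blk β₀ (ρ ᵥ* P) 0 (P' * R' * P) := by
    simp [blk_mul]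
  refine ⟨blk 1 0 0 P, blk 1 0 0 P', ?_, ?_, ?_, ?_, ?_, ?_⟩
  · conv_rhs => rw [one_eq_blk]
    simp [blk_mul, h1]
  · conv_rhs => rw [one_eq_blk]
    simp [blk_mul, h2]
  · rw [blk_mulVec_e₀]
    funext i
    refine Fin.cases ?_ (fun i => ?_) i <;> simp
  · intro i j
    rw [hU]
    refine Fin.cases ?_ (fun i => ?_) i
    · intro h; exact absurd h (Fin.not_lt_zero j)
    · refine Fin.cases ?_ (fun j => ?_) j
      · intro _; simp
      · intro h; simpa using hl i j (Fin.succ_lt_succ_iff.1 h)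
  · intro i
    rw [hU]
    refine Fin.cases ?_ (fun i => ?_) i
    · simp
    · simpa using hd i
  · intro i j
    rw [hU]
    refine Fin.cases ?_ (fun i => ?_) i <;> refine Fin.cases ?_ (fun j => ?_) j
    · intro h; simp at h
    · intro hj hb
      have : j = 0 := Fin.ext (by simpa using hj)
      subst this
      simp only [Fin.cons_zero, Fin.cons_succ] at hb
      have h3 := hlink.resolve_left (fun h => h hb)
      rw [SourourProduct.blk_0s, ← mul_one ((ρ ᵥ* P) 0), ← dotProduct_single, ← dotProduct_mulVec, he]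
      exact h3
    · intro h; simp at h
    · intro hj hb
      simpa using hs i j (by simpa using hj) (by simpa using hb)

/-- A monic polynomial with prescribed lower coefficients. -/
theorem exists_monic {m : ℕ} (y : Fin m → K) :
    ∃ g : K[X], g.Monic ∧ g.natDegree = m ∧ ∀ i : Fin m, g.coeff i.val = y i := by
  refine ⟨X ^ m + ∑ i : Fin m, C (y i) * X ^ i.val, monic_X_pow_add (degree_sum_fin_lt _), ?_, ?_⟩
  · apply natDegree_eq_of_degree_eq_some
    rw [degree_add_eq_left_of_degree_lt (by rw [degree_X_pow]; exact degree_sum_fin_lt _), degree_X_pow]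
  · intro i
    rw [coeff_add, coeff_X_pow, if_neg (by have := i.isLt; omega), zero_add, finsetSum_coeff,
      Finset.sum_eq_single i]
    · simp
    · intro x _ hx
      rw [coeff_C_mul_X_pow, if_neg fun h => hx (Fin.ext h.symm)]
    · exact fun h => absurd (Finset.mem_univ _) h

/-- The first row of a bordered cyclic matrix as a function of the characteristic polynomial. -/
theorem exists_row {H : Matrix (Fin (k + 1)) (Fin (k + 1)) K} {c : Fin (k + 1) → K} (hc : CycAt H c)
    (hH : H.det ≠ 0) {u : Fin (k + 1) → K} (hu : u ≠ 0) (D : K) :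
    ∃ (ψ : Fin (k + 1) → K) (κ : K), ψ ≠ 0 ∧ ∀ g : K[X], g.Monic → g.natDegree = k + 2 →
      g.coeff 0 = D → ∃ h η, (blk h η c H).charpoly = g ∧
        η ⬝ᵥ u = κ + ∑ i : Fin (k + 1), ψ i * g.coeff (i.val + 1) := by
  classical
  obtain ⟨L, b, hL⟩ := border_bij hc
  let Φ : (Fin (k + 2) → K) →ₗ[K] K :=
    { toFun := fun y => (fun j : Fin (k + 1) => L.symm y j.succ) ⬝ᵥ u
      map_add' := fun x y => by simp [dotProduct, add_mul, Finset.sum_add_distrib]
      map_smul' := fun s x => by simp [dotProduct, mul_assoc, Finset.mul_sum] }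
  refine ⟨fun i => Φ (Pi.single i.succ 1), D * Φ (Pi.single 0 1) - Φ b, fun hψ => ?_, ?_⟩
  · have hΦ : ∀ y : Fin (k + 2) → K, Φ y = y 0 * Φ (Pi.single 0 1) := by
      intro y
      have h : y = ∑ i, y i • (Pi.single i (1 : K) : Fin (k + 2) → K) := by
        funext l; simp [Finset.sum_apply, Pi.single_apply]
      conv_lhs => rw [h]
      rw [map_sum, Fin.sum_univ_succ, map_smul, smul_eq_mul, Finset.sum_eq_zero, add_zero]
      intro i _
      have := congrFun hψ i
      simp only [Pi.zero_apply] at this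
      rw [map_smul, this, smul_zero]
    have hL0 : L (Pi.single 0 1) 0 ≠ 0 := by
      have h1 := congrFun (hL (Pi.single 0 1)) 0
      have h0 := congrFun (hL 0) 0
      simp only [map_zero, Pi.add_apply, Pi.zero_apply, add_zero, coeffs] at h1 h0
      have d1 := det_of_charpoly (G := border c H (Pi.single 0 1)) rfl
      have d0 := det_of_charpoly (G := border c H 0) rfl
      rw [Fin.val_zero] at h1 h0
      intro hz
      rw [hz, add_zero, ← h0] at h1
      rw [h1, ← d0] at d1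
      have e1 : (border c H (Pi.single 0 1)).det = (border c H 0).det + (1 - 0) * H.det := by
        simp only [border, Pi.single_eq_same, Pi.zero_apply]
        rw [show (fun j : Fin (k + 1) => (Pi.single 0 1 : Fin (k + 2) → K) j.succ) = fun _ => 0 from
          funext fun j => by simp [Pi.single_apply, Fin.succ_ne_zero]]
        exact det_blk_linear _ _ _ _ _
      exact hH (by linear_combination d1 - e1)
    have hκ : Φ (Pi.single 0 1) = 0 := by
      have h1 := hΦ (L (Pi.single 0 1))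
      have h2 : Φ (L (Pi.single 0 1)) = 0 := by
        simp [Φ, dotProduct, Pi.single_apply, Fin.succ_ne_zero]
      rw [h2] at h1
      exact (mul_eq_zero.1 h1.symm).resolve_left hL0
    apply hu
    funext j
    have h1 := hΦ (L (Pi.single j.succ 1))
    rw [hκ, mul_zero] at h1
    simpa [Φ, dotProduct, Pi.single_apply, Fin.succ_inj] using h1
  · intro g hg hd h0
    set y : Fin (k + 2) → K := fun i => g.coeff i.val
    set x := L.symm (y - b)
    refine ⟨x 0, fun j => x j.succ, eq_of_coeffs hg hd ?_, ?_⟩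
    · show coeffs (border c H x) = _
      rw [hL, LinearEquiv.apply_symm_apply]
      abel
    · show Φ (y - b) = _
      have h : y = ∑ i, y i • (Pi.single i (1 : K) : Fin (k + 2) → K) := by
        funext l; simp [Finset.sum_apply, Pi.single_apply]
      rw [map_sub]
      conv_lhs => rw [h]
      rw [map_sum, Fin.sum_univ_succ]
      simp only [map_smul, smul_eq_mul, y, Fin.val_zero, Fin.val_succ, h0]
      rw [Finset.sum_congr rfl fun i _ => mul_comm _ _]
      ring

/-- The inductive statement: all polynomials off an affine hyperplane are available. -/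
def Available (A : Matrix (Fin (k + 1)) (Fin (k + 1)) K) (β e : Fin (k + 1) → K) (ψ : Fin k → K) (v : K) :
    Prop :=
  ∀ g : K[X], g.Monic → g.natDegree = k + 1 → (-1) ^ (k + 1) * g.coeff 0 * ∏ i, β i = A.det →
    ∑ i : Fin k, ψ i * g.coeff (i.val + 1) ≠ v →
      ∃ R H, A = R * H ∧ H.charpoly = g ∧ CycAt H e ∧ SplitAt R β e

theorem available_conj {A : Matrix (Fin (k + 1)) (Fin (k + 1)) K} {β e : Fin (k + 1) → K}
    {ψ : Fin k → K} {v : K} {T T' : Matrix (Fin (k + 1)) (Fin (k + 1)) K} (hT : T * T' = 1)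
    (hT' : T' * T = 1) (h : Available (T * A * T') β (T *ᵥ e) ψ v) : Available A β e ψ v := by
  intro g hg hd hdet hne
  have hdA : (T * A * T').det = A.det := by
    rw [det_mul, det_mul, mul_comm T.det, mul_assoc, ← det_mul, hT, det_one, mul_one]
  obtain ⟨R, H, h1, h2, h3, h4⟩ := h g hg hd (hdet.trans hdA.symm) hne
  refine ⟨T' * R * T, T' * H * T, ?_, ?_, ?_, ?_⟩
  · rw [show T' * R * T * (T' * H * T) = T' * (R * (T * T') * H) * T by simp only [Matrix.mul_assoc],
      hT, Matrix.mul_one, ← h1,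
      show T' * (T * A * T') * T = (T' * T) * A * (T' * T) by simp only [Matrix.mul_assoc], hT',
      Matrix.one_mul, Matrix.mul_one]
  · rw [charpoly_conj hT, h2]
  · have := h3.conj (T := T') (T' := T) hT hT'
    rwa [mulVec_mulVec, hT', one_mulVec] at this
  · have := h4.conj (T := T') (T' := T) hT' hT
    rwa [mulVec_mulVec, hT', one_mulVec] at this

theorem available_one {A : Matrix (Fin 1) (Fin 1) K} {β e : Fin 1 → K} (he : e ≠ 0) (hA : A.det ≠ 0) :
    Available A β e (fun _ => 0) 1 := by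
  intro g hg hd hdet _
  rw [Fin.prod_univ_one, pow_one] at hdet
  have hH : (Matrix.diagonal fun _ : Fin 1 => -g.coeff 0).charpoly = g := by
    rw [charpoly_diagonal, Fin.prod_univ_one, map_neg, sub_neg_eq_add]
    conv_rhs => rw [hg.eq_X_add_C hd]
  have he0 : e 0 ≠ 0 := fun h => he (funext fun i => by rw [Fin.fin_one_eq_zero i]; exact h)
  refine ⟨Matrix.diagonal fun _ => β 0, Matrix.diagonal fun _ => -g.coeff 0, ?_, hH, ?_, ?_⟩
  · ext i j
    rw [Fin.fin_one_eq_zero i, Fin.fin_one_eq_zero j, diagonal_mul_diagonal, diagonal_apply_eq,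
      ← det_fin_one A, ← hdet]
    ring
  · rw [CycAt, det_fin_one]
    simpa [SLCommutator.krylov] using he0
  · refine ⟨Matrix.diagonal fun _ => e 0, Matrix.diagonal fun _ => (e 0)⁻¹, ?_, ?_, ?_, ?_, ?_, ?_⟩
    · rw [diagonal_mul_diagonal, ← diagonal_one]; simp [mul_inv_cancel₀ he0]
    · rw [diagonal_mul_diagonal, ← diagonal_one]; simp [inv_mul_cancel₀ he0]
    · funext i; rw [Fin.fin_one_eq_zero i]; simp
    · intro i j h; exact absurd h (by rw [Fin.fin_one_eq_zero i, Fin.fin_one_eq_zero j]; exact lt_irrefl _)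
    · intro i; rw [Fin.fin_one_eq_zero i]; simp [diagonal_mul_diagonal]; field_simp
    · intro i j h; omega

variable [Fintype K]

/-- The general recursion. -/
theorem exists_available (h4 : 4 ≤ Fintype.card K) : ∀ (k : ℕ) (A : Matrix (Fin (k + 1)) (Fin (k + 1)) K)
    (β e : Fin (k + 1) → K), A.det ≠ 0 → (∀ i, β i ≠ 0) → e ≠ 0 →
    (1 ≤ k → ∀ t : K, A *ᵥ e ≠ t • e) →
    ∃ (ψ : Fin k → K) (v : K), (ψ ≠ 0 ∨ v ≠ 0) ∧ Available A β e ψ v ∧
      (∀ hk : 1 ≤ k, β 0 ≠ β ⟨1, by omega⟩ → ψ = 0 ∧ v = 1) := by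
  intro k
  induction k with
  | zero => intro A β e hA _ he _; exact ⟨fun _ => 0, 1, Or.inr one_ne_zero, available_one he hA, fun h => by omega⟩
  | succ k ih =>
    intro A β e hA hβ he0 he
    obtain ⟨T, T', a, r, c, M, hT, hT', hTe, hblk, hc, hM, hMs⟩ := exists_frame' hA (he (by omega))
    obtain ⟨e', he'0, he'⟩ : ∃ e' : Fin (k + 1) → K, e' ≠ 0 ∧ (1 ≤ k → ∀ t : K, M *ᵥ e' ≠ t • e') := by
      rcases Nat.eq_zero_or_pos k with hk | hk
      · exact ⟨e₀, fun h => by simpa using congrFun h 0, fun h => by omega⟩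
      · obtain ⟨w, hw⟩ := exists_noneigen (hMs hk)
        exact ⟨w, fun h => hw 0 (by rw [h, mulVec_zero, smul_zero]), fun _ => hw⟩
    set β' : Fin (k + 1) → K := Fin.tail β
    obtain ⟨ψ', v', hψ', hav, -⟩ := ih M β' e' hM (fun i => hβ i.succ) he'0 he'
    have hP0 : ∏ i, β' i ≠ 0 := Finset.prod_ne_zero_iff.2 fun i _ => hβ i.succ
    set N := (-1) ^ (k + 1) * M.det / ∏ i, β' i with hN
    have hN0 : N ≠ 0 := div_ne_zero (mul_ne_zero (pow_ne_zero _ (neg_ne_zero.2 one_ne_zero)) hM) hP0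
    obtain ⟨g', hg', hgd, hirr, hg0, hgne⟩ : ∃ g' : K[X], g'.Monic ∧ g'.natDegree = k + 1 ∧ Irreducible g' ∧
        g'.coeff 0 = N ∧ ∑ i : Fin k, ψ' i * g'.coeff (i.val + 1) ≠ v' := by
      cases k with
      | zero =>
        refine ⟨X + C N, monic_X_add_C N, natDegree_X_add_C N, ?_, by simp, by simpa using (hψ'.resolve_left fun h => h (funext fun i => i.elim0)).symm⟩
        exact irreducible_of_degree_eq_one (degree_X_add_C N)
      | succ j =>
        by_cases hz : ψ' = 0
        · obtain ⟨g', a1, a2, a3, a4, -⟩ := exists_irreducible h4 j hN0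
            (l := fun _ => 1) (fun h => one_ne_zero (congrFun h 0)) (0 : K)
          exact ⟨g', a1, a2, a3, a4, by simpa [hz] using (hψ'.resolve_left fun h => h hz).symm⟩
        · exact exists_irreducible h4 j hN0 hz v'
    have hdg : (-1) ^ (k + 1) * g'.coeff 0 * ∏ i, β' i = M.det := by
      rw [hg0, hN, mul_div_assoc', ← mul_assoc, ← mul_pow]
      field_simp
      simp
    obtain ⟨R', H', hMRH, hH', hH'e, hR'⟩ := hav g' hg' hgd hdg hgne
    have hdd : R'.det ≠ 0 ∧ H'.det ≠ 0 := mul_ne_zero_iff.1 (by rw [← det_mul, ← hMRH]; exact hM)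
    have uR : IsUnit R'.det := isUnit_iff_ne_zero.2 hdd.1
    have uH : IsUnit H'.det := isUnit_iff_ne_zero.2 hdd.2
    have hc'0 : R'⁻¹ *ᵥ c ≠ 0 := fun h => hc (by
      have := congrArg (R' *ᵥ ·) h
      simpa [mulVec_mulVec, Matrix.mul_nonsing_inv R' uR] using this)
    have hcyc : CycAt H' (R'⁻¹ *ᵥ c) := cycAt_of_irreducible (by rw [hH']; exact hirr) hc'0
    have hu : H'⁻¹ *ᵥ e' ≠ 0 := fun h => he'0 (by
      have := congrArg (H' *ᵥ ·) h
      simpa [mulVec_mulVec, Matrix.mul_nonsing_inv H' uH] using this)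
    obtain ⟨ψ, κ, hψ, hrow⟩ := exists_row hcyc hdd.2 hu ((-1) ^ (k + 2) * A.det / ∏ i, β i)
    set b0 := β 0
    have hb0 : b0 ≠ 0 := hβ 0
    have hβeq : (Fin.cons b0 β' : Fin (k + 2) → K) = β := Fin.cons_self_tail β
    have key : ∀ g : K[X], g.Monic → g.natDegree = k + 1 + 1 →
        (-1) ^ (k + 1 + 1) * g.coeff 0 * ∏ i, β i = A.det →
        (b0 ≠ β' 0 ∨ ∑ i, ψ i * g.coeff (i.val + 1) ≠ (r ⬝ᵥ (H'⁻¹ *ᵥ e')) / b0 - κ) →
        ∃ R H, T * A * T' = R * H ∧ H.charpoly = g ∧ CycAt H (T *ᵥ e) ∧ SplitAt R β (T *ᵥ e) := by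
      intro g hg hd hdet hcond
      have hP : ∏ i, β i ≠ 0 := Finset.prod_ne_zero_iff.2 fun i _ => hβ i
      obtain ⟨h, η, hch, hη⟩ := hrow g hg hd (by
        rw [← hdet, ← mul_assoc, ← mul_assoc, ← mul_pow]
        field_simp
        simp)
      have hdet' : (blk h η (R'⁻¹ *ᵥ c) H').det * (b0 * ∏ i, β' i) = (blk a r c M).det := by
        rw [det_of_charpoly hch, ← hblk, det_mul, det_mul, mul_comm T.det, mul_assoc A.det, ← det_mul,
          hT, det_one, mul_one, ← hdet, Fin.prod_univ_succ (f := β)]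
        rfl
      obtain ⟨R, H, h1, h2, h3, h5⟩ := (glue hM hMRH hR' hcyc hdet').2 (hcond.imp_right fun hne => by
        rw [← dotProduct_mulVec, sub_dotProduct, smul_dotProduct, hη, smul_eq_mul]
        intro h0
        apply hne
        field_simp
        linear_combination -h0)
      rw [hβeq] at h5
      rw [hblk, hTe]
      exact ⟨R, H, h1, h2.trans hch, h3, h5⟩
    by_cases hb : b0 = β' 0
    · refine ⟨ψ, _, Or.inl hψ, available_conj hT hT' fun g hg hd hdet hne => key g hg hd ?_ (Or.inr hne),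
        fun _ hne => absurd hb hne⟩
      rw [hdet, det_mul, det_mul, mul_comm T.det, mul_assoc, ← det_mul, hT, det_one, mul_one]
    · refine ⟨0, 1, Or.inr one_ne_zero, available_conj hT hT' fun g hg hd hdet _ => key g hg hd ?_ (Or.inl hb),
        fun _ _ => ⟨rfl, rfl⟩⟩
      rw [hdet, det_mul, det_mul, mul_comm T.det, mul_assoc, ← det_mul, hT, det_one, mul_one]

/-- Any polynomial, when the first value differs from the second. -/
theorem exists_split (h4 : 4 ≤ Fintype.card K) {A : Matrix (Fin (k + 2)) (Fin (k + 2)) K} (hA : A.det ≠ 0)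
    {β e : Fin (k + 2) → K} (he : ∀ t : K, A *ᵥ e ≠ t • e) (hβ : ∀ i, β i ≠ 0) (hb : β 0 ≠ β 1)
    {g : K[X]} (hg : g.Monic) (hd : g.natDegree = k + 2)
    (hdet : (-1) ^ (k + 2) * g.coeff 0 * ∏ i, β i = A.det) :
    ∃ R H, A = R * H ∧ H.charpoly = g ∧ CycAt H e ∧ SplitAt R β e := by
  obtain ⟨ψ, v, -, hav, htop⟩ := exists_available h4 (k + 1) A β e hA hβ
    (fun h => he 0 (by rw [h, mulVec_zero, smul_zero])) (fun _ => he)
  obtain ⟨rfl, rfl⟩ := htop (by omega) hb
  exact hav g hg hd hdet (by simp)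

/-- Any polynomial and any spectrum, when the matrix is not quadratic at `e`. -/
theorem exists_split_nonquad (h4 : 4 ≤ Fintype.card K) {A : Matrix (Fin (k + 3)) (Fin (k + 3)) K}
    (hA : A.det ≠ 0) {β e : Fin (k + 3) → K} (he : ∀ t : K, A *ᵥ e ≠ t • e)
    (he2 : ∀ s t : K, A *ᵥ (A *ᵥ e) ≠ s • (A *ᵥ e) + t • e) (hβ : ∀ i, β i ≠ 0)
    {g : K[X]} (hg : g.Monic) (hd : g.natDegree = k + 3)
    (hdet : (-1) ^ (k + 3) * g.coeff 0 * ∏ i, β i = A.det) :
    ∃ R H, A = R * H ∧ H.charpoly = g ∧ CycAt H e ∧ SplitAt R β e := by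
  classical
  obtain ⟨T, T', a, r, c, M, hT, hT', hTe, hblk, hc, hM, -⟩ := exists_frame' hA he
  suffices h : ∀ g : K[X], g.Monic → g.natDegree = k + 2 + 1 →
      (-1) ^ (k + 2 + 1) * g.coeff 0 * ∏ i, β i = (T * A * T').det → (∑ i : Fin (k + 2), (0 : K) * g.coeff (i.val + 1)) ≠ (1 : K) →
      ∃ R H, T * A * T' = R * H ∧ H.charpoly = g ∧ CycAt H (T *ᵥ e) ∧ SplitAt R β (T *ᵥ e) from
    available_conj (ψ := fun _ => (0 : K)) (v := 1) hT hT' h g hg hd hdet (by simp)
  intro g hg hd hdet _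
  have hA'e : (T * A * T') *ᵥ e₀ = T *ᵥ (A *ᵥ e) := by
    have : T' *ᵥ e₀ = e := by rw [← hTe, mulVec_mulVec, hT', one_mulVec]
    rw [← mulVec_mulVec, this, ← mulVec_mulVec]
  have hce : ∀ t : K, M *ᵥ c ≠ t • c := by
    intro t ht
    have h1 : (T * A * T') *ᵥ ((T * A * T') *ᵥ e₀) = (a + t) • ((T * A * T') *ᵥ e₀)
        + (a * a + r ⬝ᵥ c - (a + t) * a) • (e₀ : Fin (k + 3) → K) := by
      rw [hblk, blk_mulVec_e₀]
      funext i
      refine Fin.cases ?_ (fun i => ?_) i
      · simp [Matrix.mulVec, dotProduct, Fin.sum_univ_succ]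
        try ring
      · have := congrFun ht i
        simp [Matrix.mulVec, dotProduct] at this
        simp [Matrix.mulVec, dotProduct, Fin.sum_univ_succ, this]
        ring
    refine he2 (a + t) (a * a + r ⬝ᵥ c - (a + t) * a) ?_
    have hback : ∀ x, T' *ᵥ (T *ᵥ x) = x := fun x => by rw [mulVec_mulVec, hT', one_mulVec]
    have h2 := congrArg (T' *ᵥ ·) h1
    simp only [mulVec_add, mulVec_smul, hA'e] at h2
    rw [← hTe] at h2
    simp only [← mulVec_mulVec, hback] at h2
    exact h2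
  set β' : Fin (k + 2) → K := Fin.tail β with hβ'
  obtain ⟨ψ', v', hψ', hav, -⟩ := exists_available h4 (k + 1) M β' c hM (fun i => hβ i.succ) hc (fun _ => hce)
  set N := (-1) ^ (k + 2) * M.det / ∏ i, β' i with hN
  set v2 := a / β 0 + g.coeff (k + 2)
  obtain ⟨y, hy1, hy2⟩ : ∃ y : Fin (k + 1) → K, ∑ i, ψ' i * y i ≠ v' ∧ y (Fin.last k) ≠ v2 := by
    by_cases hz : ψ' = 0
    · obtain ⟨s, hs⟩ : ∃ s : K, s ≠ v2 := exists_ne v2
      exact ⟨fun _ => s, by simpa [hz] using (hψ'.resolve_left fun h => h hz).symm, hs⟩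
    obtain ⟨i, hi⟩ := Function.ne_iff.1 hz
    simp only [Pi.zero_apply] at hi
    obtain ⟨w, hw1, hw2⟩ : ∃ w : Fin (k + 1) → K, ∑ l, ψ' l * w l ≠ 0 ∧ w (Fin.last k) ≠ 0 := by
      by_cases hlast : ψ' (Fin.last k) = 0
      · have hne : i ≠ Fin.last k := fun h => hi (by rw [h]; exact hlast)
        refine ⟨Pi.single i 1 + Pi.single (Fin.last k) 1, ?_, ?_⟩
        · simp [mul_add, Finset.sum_add_distrib, Pi.single_apply, hlast, hi]
        · simp [Pi.single_apply, hne.symm]
      · exact ⟨Pi.single (Fin.last k) 1, by simp [Pi.single_apply, hlast], by simp⟩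
    obtain ⟨s, -, hs⟩ := Finset.exists_mem_notMem_of_card_lt_card
      (s := {v' / ∑ l, ψ' l * w l, v2 / w (Fin.last k)}) (t := (Finset.univ : Finset K))
      (lt_of_le_of_lt (Finset.card_insert_le _ _) (by rw [Finset.card_singleton, Finset.card_univ]; omega))
    simp only [Finset.mem_insert, Finset.mem_singleton, not_or] at hs
    refine ⟨s • w, fun h => hs.1 ?_, fun h => hs.2 ?_⟩
    · rw [eq_div_iff hw1, ← h, Finset.mul_sum]
      exact Finset.sum_congr rfl fun l _ => by simp; ring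
    · rw [eq_div_iff hw2, ← h]; rfl
  obtain ⟨g', hg', hgd, hgc⟩ := exists_monic (Fin.cons N y : Fin (k + 2) → K)
  have hg0 : g'.coeff 0 = N := by simpa using hgc 0
  have hgy : ∀ i : Fin (k + 1), g'.coeff (i.val + 1) = y i := fun i => by simpa using hgc i.succ
  have hP' : ∏ i, β' i ≠ 0 := Finset.prod_ne_zero_iff.2 fun i _ => hβ i.succ
  obtain ⟨R', H', hMRH, hH', hH'e, hR'⟩ := hav g' hg' hgd (by
    rw [hg0, hN, mul_div_assoc', ← mul_assoc, ← mul_pow]
    field_simp
    simp) (by simpa only [hgy] using hy1)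
  have hdd : R'.det ≠ 0 ∧ H'.det ≠ 0 := mul_ne_zero_iff.1 (by rw [← det_mul, ← hMRH]; exact hM)
  have uR : IsUnit R'.det := isUnit_iff_ne_zero.2 hdd.1
  have hb1 : β' 0 ≠ 0 := hβ _
  have hcc : R'⁻¹ *ᵥ c = (β' 0)⁻¹ • c := by
    have h1 : R' *ᵥ ((β' 0)⁻¹ • c) = c := by
      rw [mulVec_smul, hR'.mulVec_e, smul_smul, inv_mul_cancel₀ hb1, one_smul]
    conv_lhs => rw [← h1]
    rw [mulVec_mulVec, Matrix.nonsing_inv_mul R' uR, one_mulVec]
  have hcyc : CycAt H' (R'⁻¹ *ᵥ c) := by
    rw [hcc, cycAt_iff]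
    intro z hz
    refine cycAt_iff.1 hH'e z fun j => ?_
    have := hz j
    rw [mulVec_smul, dotProduct_smul, smul_eq_mul, mul_eq_zero] at this
    exact this.resolve_left (inv_ne_zero hb1)
  obtain ⟨L, b, hL⟩ := border_bij hcyc
  set x := L.symm ((fun i : Fin (k + 3) => g.coeff i.val) - b)
  have hch : (blk (x 0) (fun j => x j.succ) (R'⁻¹ *ᵥ c) H').charpoly = g := by
    refine eq_of_coeffs hg hd ?_
    show coeffs (border (R'⁻¹ *ᵥ c) H' x) = _
    rw [hL, LinearEquiv.apply_symm_apply]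
    abel
  have hdet' : (blk (x 0) (fun j => x j.succ) (R'⁻¹ *ᵥ c) H').det * (β 0 * ∏ i, β' i) = (blk a r c M).det := by
    rw [det_of_charpoly hch, ← hblk, ← hdet, Fin.prod_univ_succ (f := β)]
    rfl
  obtain ⟨hcorner, hglue⟩ := glue hM hMRH hR' hcyc hdet'
  have hx0 : x 0 = g'.coeff (k + 1) - g.coeff (k + 2) := by
    have t1 := trace_eq_neg_charpoly_coeff (blk (x 0) (fun j => x j.succ) (R'⁻¹ *ᵥ c) H')
    have t2 := trace_eq_neg_charpoly_coeff H'
    rw [hch, Fintype.card_fin, SourourProduct.blk_trace] at t1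
    rw [hH', Fintype.card_fin] at t2
    rw [show k + 3 - 1 = k + 2 by omega] at t1
    rw [show k + 2 - 1 = k + 1 by omega] at t2
    linear_combination t1 - t2
  obtain ⟨R, H, h1, h2, h3, h5⟩ := hglue (Or.inr fun h0 => hy2 (by
    have h6 : a = β 0 * x 0 := by
      rw [hcorner, hcc, dotProduct_smul, h0, smul_zero, add_zero]
    have h7 : g'.coeff (k + 1) = y (Fin.last k) := by simpa using hgy (Fin.last k)
    have hb0 := hβ 0
    simp only [v2]
    rw [h6, mul_div_cancel_left₀ _ hb0, hx0, h7]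
    ring))
  rw [show (Fin.cons (β 0) β' : Fin (k + 3) → K) = β from Fin.cons_self_tail β] at h5
  rw [hblk, hTe]
  exact ⟨R, H, h1, h2.trans hch, h3, h5⟩

end CfsgLib.LevCover
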