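import Cfsg.Agent.LevCover.CaseB

/-!
Criteria for the centraliser of a matrix to have every non-zero determinant.
-/

set_option autoImplicit false
set_option linter.unusedSectionVars false
set_option linter.unusedSimpArgs false

namespace CfsgLib.LevCover

open Matrix Polynomial

variable {K : Type*} [Field K]

theorem aeval_fromBlocks {ι κ : Type*} [Fintype ι] [DecidableEq ι] [Fintype κ] [DecidableEq κ]
    (A : Matrix ι ι K) (E : Matrix ι κ K) (B : Matrix κ κ K) (u : K[X]) :
    ∃ L : Matrix ι κ K, aeval (Matrix.fromBlocks A E 0 B) u = Matrix.fromBlocks (aeval A u) L 0 (aeval B u) := by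
  induction u using Polynomial.induction_on with
  | C a =>
    refine ⟨0, ?_⟩
    rw [aeval_C, aeval_C, aeval_C, Algebra.algebraMap_eq_smul_one, Algebra.algebraMap_eq_smul_one,
      Algebra.algebraMap_eq_smul_one, blocks_smul_one]
  | add p q hp hq =>
    obtain ⟨L, hL⟩ := hp
    obtain ⟨M, hM⟩ := hq
    exact ⟨L + M, by rw [map_add, map_add, map_add, hL, hM, Matrix.fromBlocks_add, zero_add]⟩
  | monomial n a h =>
    obtain ⟨L, hL⟩ := h
    refine ⟨aeval A (Polynomial.C a * Polynomial.X ^ n) * E + L * B, ?_⟩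
    rw [pow_succ, ← mul_assoc]
    simp only [map_mul (aeval (Matrix.fromBlocks A E 0 B)) _ Polynomial.X, map_mul (aeval A) _ Polynomial.X,
      map_mul (aeval B) _ Polynomial.X, aeval_X, hL, Matrix.fromBlocks_multiply]
    simp

theorem aeval_comm_self {ι : Type*} [Fintype ι] [DecidableEq ι] (M : Matrix ι ι K) (u : K[X]) :
    aeval M u * M = M * aeval M u := by
  have h : aeval M (u * Polynomial.X) = aeval M (Polynomial.X * u) := by rw [mul_comm]
  rwa [map_mul, map_mul, aeval_X] at h

variable [Fintype K]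

/-- A cyclic matrix with split characteristic polynomial is similar to an upper triangular one with the values
on the diagonal in some order. -/
theorem cyc_upper {n : ℕ} {R : Matrix (Fin n) (Fin n) K} (hR : Cyc R) {β : Fin n → K}
    (hχ : R.charpoly = ∏ i, (Polynomial.X - Polynomial.C (β i))) :
    ∃ (σ : Equiv.Perm (Fin n)) (U : Matrix (Fin n) (Fin n) K), Sim R U ∧ U.BlockTriangular id ∧
      ∀ i, U i i = β (σ i) := by
  classical
  obtain ⟨σ, hr⟩ := exists_runs_perm β
  set U : Matrix (Fin n) (Fin n) K := Matrix.of fun i j =>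
    if i = j then β (σ i) else if j.val = i.val + 1 then 1 else 0 with hU
  have hlow : ∀ i j : Fin n, j < i → U i j = 0 := fun i j h => by
    have h' : j.val < i.val := h
    simp only [hU, Matrix.of_apply]
    rw [if_neg h.ne', if_neg (by omega)]
  have hdiag : ∀ i, U i i = β (σ i) := fun i => by simp [hU]
  have hUc : Cyc U := cyc_of_isCyc (SLCommutator.isCyc_upper hlow
    (fun i j h _ => by
      have hne : i ≠ j := fun e => by rw [e] at h; omega
      simp [hU, hne, h])
    (fun i j l h1 h2 h3 => by simpa [hdiag] using hr i j l h1 h2 (by simpa [hdiag] using h3)))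
  refine ⟨σ, U, sim_of_cyc hR hUc ?_, fun i j h => hlow i j h, hdiag⟩
  rw [hχ, Matrix.charpoly_of_isUpperTriangular U (fun i j h => hlow i j h),
    ← Equiv.prod_comp σ (fun i => Polynomial.X - Polynomial.C (β i))]
  exact Finset.prod_congr rfl fun i _ => by rw [hdiag]

theorem det_aeval_split {n : ℕ} {R : Matrix (Fin n) (Fin n) K} (hR : Cyc R) {β : Fin n → K}
    (hχ : R.charpoly = ∏ i, (Polynomial.X - Polynomial.C (β i))) (u : K[X]) :
    (aeval R u).det = ∏ i, u.eval (β i) := by
  obtain ⟨σ, U, hs, hU, hd⟩ := cyc_upper hR hχ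
  obtain ⟨P, P', h1, h2, hP⟩ := hs
  have key : (aeval U u).BlockTriangular id ∧ ∀ i, aeval U u i i = u.eval (β (σ i)) := by
    induction u using Polynomial.induction_on with
    | C a =>
      rw [aeval_C, Algebra.algebraMap_eq_smul_one]
      refine ⟨fun i j h => ?_, fun i => by simp⟩
      simp [(show j < i from h).ne']
    | add p q hp hq =>
      rw [map_add]
      exact ⟨hp.1.add hq.1, fun i => by rw [Matrix.add_apply, hp.2, hq.2, eval_add]⟩
    | monomial m a h =>
      rw [pow_succ, ← mul_assoc, map_mul, aeval_X]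
      refine ⟨h.1.mul hU, fun i => ?_⟩
      rw [Matrix.mul_apply, Finset.sum_eq_single i, h.2, hd, eval_mul_X]
      · intro l _ hl
        rcases lt_or_gt_of_ne hl with h' | h'
        · rw [h.1 (i := i) (j := l) h', zero_mul]
        · rw [hU (i := l) (j := i) h', mul_zero]
      · exact fun h => absurd (Finset.mem_univ _) h
  have hsim : Sim (aeval R u) (aeval U u) := ⟨P, P', h1, h2, by rw [hP, aeval_conj h2 h1]⟩
  rw [← hsim.det_eq, Matrix.det_of_upperTriangular key.1, ← Equiv.prod_comp σ (fun i => u.eval (β i))]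
  exact Finset.prod_congr rfl fun i _ => key.2 i

/-- A cyclic split matrix, by interpolation on its eigenvalues. -/
theorem surj_split {n : ℕ} {R : Matrix (Fin n) (Fin n) K} (hR : Cyc R) {β : Fin n → K}
    (hχ : R.charpoly = ∏ i, (Polynomial.X - Polynomial.C (β i)))
    (h : ∀ d : K, d ≠ 0 → ∃ f : K → K, ∏ i, f (β i) = d) : Surj R := by
  classical
  intro d hd
  obtain ⟨f, hf⟩ := h d hd
  refine ⟨aeval R (Lagrange.interpolate (Finset.univ : Finset K) id f), ?_, aeval_comm_self R _⟩
  rw [det_aeval_split hR hχ, ← hf]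
  refine Finset.prod_congr rfl fun i _ => ?_
  exact Lagrange.eval_interpolate_at_node f Function.injective_id.injOn (Finset.mem_univ (β i))

/-- Two values of multiplicities `2 j + 1` and two. -/
theorem surj_odd_two {n : ℕ} {R : Matrix (Fin n) (Fin n) K} (hR : Cyc R) {β : Fin n → K}
    (hχ : R.charpoly = ∏ i, (Polynomial.X - Polynomial.C (β i))) [DecidableEq K] {a v : K} (hav : a ≠ v)
    {j : ℕ} (ha : (Finset.univ.filter fun i => β i = a).card = 2 * j + 1)
    (hv : j = 0 ∨ (Finset.univ.filter fun i => β i = v).card = 2) : Surj R := by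
  refine surj_split hR hχ fun d hd => ⟨fun z => if z = a then d else if z = v then (d ^ j)⁻¹ else 1, ?_⟩
  rw [Finset.prod_ite, Finset.prod_const, Finset.prod_ite, Finset.prod_const_one, mul_one, Finset.prod_const, ha]
  rw [Finset.filter_filter]
  have e : (Finset.univ.filter fun i => ¬β i = a ∧ β i = v) = Finset.univ.filter fun i => β i = v :=
    Finset.filter_congr fun i _ => ⟨fun h => h.2, fun h => ⟨fun h' => hav (h'.symm.trans h), h⟩⟩
  rw [e]
  rcases hv with rfl | hv
  · simp
  · rw [hv, inv_pow, ← pow_mul, Nat.mul_comm j 2, pow_succ, mul_assoc, mul_comm d, ← mul_assoc,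
      mul_inv_cancel₀ (pow_ne_zero _ hd), one_mul]

theorem surj_simple {n : ℕ} {R : Matrix (Fin n) (Fin n) K} (hR : Cyc R) (h : SimplePoly R) (hn : 0 < n) : Surj R := by
  classical
  obtain ⟨β, hβ, hs⟩ := h
  refine surj_split hR hβ fun d _ => ⟨fun z => if z = β ⟨0, hn⟩ then d else 1, ?_⟩
  rw [Finset.prod_eq_single (⟨0, hn⟩ : Fin n)]
  · exact if_pos rfl
  · intro i _ hi
    exact if_neg (hs ⟨0, hn⟩ i rfl fun h => hi (Fin.ext h))
  · exact fun h => absurd (Finset.mem_univ _) h

/-- The norm of the field of a cyclic matrix with irreducible characteristic polynomial is surjective. -/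
theorem exists_aeval_det (h4 : 4 ≤ Fintype.card K) {n : ℕ} {M : Matrix (Fin (n + 1)) (Fin (n + 1)) K}
    (hh : Irreducible M.charpoly) {d : K} (hd : d ≠ 0) : ∃ z : K[X], (aeval M z).det = d := by
  classical
  rcases Nat.eq_zero_or_pos n with hn | hn
  · subst hn
    refine ⟨Polynomial.C d, ?_⟩
    rw [aeval_C, Algebra.algebraMap_eq_smul_one, det_smul, det_one, mul_one, Fintype.card_fin, pow_one]
  obtain ⟨j, rfl⟩ : ∃ j, n = j + 1 := ⟨n - 1, by omega⟩
  obtain ⟨g, hg, hgd, hgi, hg0, -⟩ := exists_irreducible h4 j (N := (-1) ^ (j + 2) * d)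
    (mul_ne_zero (pow_ne_zero _ (neg_ne_zero.2 one_ne_zero)) hd) (l := fun _ => 1)
    (fun h => one_ne_zero (congrFun h 0)) (0 : K)
  set h := M.charpoly with hdef
  have hhd : h.natDegree = j + 2 := by rw [hdef, charpoly_natDegree_eq_dim, Fintype.card_fin]
  haveI : Fact (Irreducible h) := ⟨hh⟩
  set L := AdjoinRoot h
  haveI : Module.Finite K L := (charpoly_monic M).finite_adjoinRoot
  haveI : Finite L := Module.finite_of_finite K
  haveI : Fintype L := Fintype.ofFinite L
  have hfr : Module.finrank K L = j + 2 := by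
    rw [(AdjoinRoot.powerBasis hh.ne_zero).finrank, AdjoinRoot.powerBasis_dim, hhd]
  have hdvd : g ∣ Polynomial.X ^ (Nat.card K) ^ (j + 2) - Polynomial.X :=
    (Irreducible.natDegree_dvd_iff_dvd_X_pow_card_pow_sub_X hgi).1 (by rw [hgd])
  have hcard : (Nat.card K) ^ (j + 2) = Fintype.card L := by
    rw [← hfr, ← Module.natCard_eq_pow_finrank, Nat.card_eq_fintype_card]
  rw [hcard] at hdvd
  obtain ⟨y, hy⟩ : ∃ y : L, aeval y g = 0 := by
    have hmap := Polynomial.map_dvd (algebraMap K L) hdvd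
    rw [Polynomial.map_sub, Polynomial.map_pow, Polynomial.map_X] at hmap
    have hne := FiniteField.X_pow_card_sub_X_ne_zero L (Fintype.one_lt_card (α := L))
    have hs : (Polynomial.X ^ Fintype.card L - Polynomial.X : L[X]).Splits := by
      rw [splits_iff_card_roots, FiniteField.roots_X_pow_card_sub_X,
        FiniteField.X_pow_card_sub_X_natDegree_eq L Fintype.one_lt_card]
      simp
    obtain ⟨y, hy⟩ := (hs.of_dvd hne hmap).exists_eval_eq_zero (by
      rw [degree_map, degree_eq_natDegree hg.ne_zero, hgd]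
      exact_mod_cast (by omega : j + 2 ≠ 0))
    exact ⟨y, by rwa [eval_map_algebraMap] at hy⟩
  obtain ⟨z, rfl⟩ := AdjoinRoot.mk_surjective y
  refine ⟨z, ?_⟩
  rw [← AdjoinRoot.aeval_eq, ← aeval_comp, AdjoinRoot.aeval_eq, AdjoinRoot.mk_eq_zero] at hy
  set u := aeval M z
  have hu : aeval u g = 0 := by
    obtain ⟨q, hq⟩ := hy
    rw [← aeval_comp, hq, map_mul, hdef, Matrix.aeval_self_charpoly, zero_mul]
  have hint : IsIntegral K u := Matrix.isIntegral u
  haveI : Nontrivial (Matrix (Fin (j + 2)) (Fin (j + 2)) K) := Matrix.nonempty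
  have hmin : minpoly K u = g := (minpoly.eq_of_irreducible_of_monic hgi hu hg).symm
  have hchar : u.charpoly = g := by
    refine eq_of_monic_of_dvd_of_natDegree_le hg (charpoly_monic u) ?_ ?_
    · rw [← hmin]; exact Matrix.minpoly_dvd_charpoly u
    · rw [charpoly_natDegree_eq_dim, Fintype.card_fin, hgd]
  rw [det_of_charpoly hchar, hg0, ← mul_assoc, ← pow_add, ← two_mul, pow_mul, neg_one_sq, one_pow, one_mul]

/-- A simple irreducible factor gives a surjective centraliser. -/
theorem surj_simple_factor (h4 : 4 ≤ Fintype.card K) {d : ℕ} {X : Matrix (Fin d) (Fin d) K} (hX : Cyc X)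
    {f h : K[X]} (hf : f.Monic) (hh : h.Monic) (hi : Irreducible h) (hχ : X.charpoly = f * h) (hn : ¬ h ∣ f) :
    Surj X := by
  classical
  intro δ hδ
  obtain ⟨t, ht⟩ : ∃ t, h.natDegree = t + 1 := ⟨h.natDegree - 1, by have := hi.natDegree_pos; omega⟩
  rcases Nat.eq_zero_or_pos f.natDegree with hf0 | hf0
  · rw [hf.natDegree_eq_zero.1 hf0, one_mul] at hχ
    obtain ⟨n, rfl⟩ : ∃ n, d = n + 1 := ⟨t, by
      have := charpoly_natDegree_eq_dim X
      rw [hχ, ht, Fintype.card_fin] at this; omega⟩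
    obtain ⟨z, hz⟩ := exists_aeval_det h4 (M := X) (hχ ▸ hi) hδ
    exact ⟨aeval X z, hz, aeval_comm_self X z⟩
  obtain ⟨s, hs⟩ : ∃ s, f.natDegree = s + 1 := ⟨f.natDegree - 1, by omega⟩
  obtain ⟨X', H', E, -, -, hX'χ, hH'χ, hsim⟩ := exists_quotient hX hf hh hs ht hχ
  obtain ⟨z, hz⟩ := exists_aeval_det h4 (M := H') (hH'χ ▸ hi) hδ
  obtain ⟨a, b, hab⟩ : IsCoprime f h := ((hi.coprime_iff_not_dvd).2 hn).symm
  set u := f * (a * (z - 1)) + 1 with hu
  have h1 : aeval X' u = 1 := by
    rw [hu, map_add, map_mul, map_one, ← hX'χ, Matrix.aeval_self_charpoly, zero_mul, zero_add]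
  have h2 : aeval H' u = aeval H' z := by
    have e : u = z - h * (b * (z - 1)) := by rw [hu]; linear_combination (z - 1) * hab
    rw [e, map_sub, map_mul, ← hH'χ, Matrix.aeval_self_charpoly, zero_mul, sub_zero]
  refine ⟨aeval X u, ?_, aeval_comm_self X u⟩
  obtain ⟨P, P', p1, p2, hP⟩ := hsim
  obtain ⟨L, hL⟩ := aeval_fromBlocks X' E H' u
  have hsim' : Sim (aeval X u) (Matrix.fromBlocks (aeval X' u) L 0 (aeval H' u)) :=
    ⟨P, P', p1, p2, by rw [← hL, hP, aeval_conj p2 p1]⟩
  have hdd : d = s + 1 + (t + 1) := by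
    have := charpoly_natDegree_eq_dim X
    rw [hχ, hf.natDegree_mul hh, hs, ht, Fintype.card_fin] at this; omega
  rw [← hsim'.det_of_equiv (finSumFinEquiv.trans (finCongr hdd.symm)), det_fromBlocks_zero₂₁, h1, h2, det_one,
    one_mul, hz]

/-- Scalars suffice in even dimension in characteristic two, for a single summand of size two or four. -/
theorem surj_char_two (h2 : (2 : K) = 0) {n : ℕ} (X : Matrix (Fin n) (Fin n) K) {j : ℕ} (hn : n = 2 ^ j) :
    Surj X := by
  have hr : ringChar K = 2 := CharP.ringChar_of_prime_eq_zero Nat.prime_two (by exact_mod_cast h2)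
  have key : ∀ (j : ℕ) (d : K), ∃ s : K, s ^ 2 ^ j = d := by
    intro j
    induction j with
    | zero => exact fun d => ⟨d, by simp⟩
    | succ j ih =>
      intro d
      obtain ⟨r, hr⟩ := FiniteField.isSquare_of_char_two hr d
      obtain ⟨s, hs⟩ := ih r
      exact ⟨s, by rw [pow_succ, pow_mul, hs, hr, pow_two]⟩
  intro d _
  obtain ⟨s, hs⟩ := key j d
  exact ⟨s • 1, by rw [det_smul, det_one, mul_one, Fintype.card_fin, hn, hs], by
    rw [Matrix.smul_mul, Matrix.mul_smul, Matrix.one_mul, Matrix.mul_one]⟩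

theorem surj_summand {n d m : ℕ} {x : Matrix (Fin n) (Fin n) K} {X : Matrix (Fin d) (Fin d) K}
    {Z : Matrix (Fin m) (Fin m) K} (hn : d + m = n) (hs : Sim (Matrix.fromBlocks X 0 0 Z) x)
    (h : Surj X ∨ Surj Z) : Surj x := by
  rcases h with h | h
  · exact Surj.of_sim hs (surj_blocks h) (finSumFinEquiv.trans (finCongr hn))
  · exact Surj.of_sim ((sim_comm Z X).trans hs) (surj_blocks h) (finSumFinEquiv.trans (finCongr (by omega)))

/-- Either the stack refines to blocks with a property or the centraliser is surjective. -/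
theorem Stack.refine_or_surj {Pr Q : K[X] → Prop}
    (h : ∀ (d : ℕ) (X : Matrix (Fin d) (Fin d) K), Cyc X → Pr X.charpoly → ¬ Q X.charpoly → Surj X)
    {a n : ℕ} {W : Matrix (Fin a) (Fin a) K} {g : Matrix (Fin n) (Fin n) K} (hs : Stack Pr W g) :
    Stack (fun f => Pr f ∧ Q f) W g ∨ Surj g := by
  induction hs with
  | base => exact Or.inl Stack.base
  | @cons d m n X Z g hd hn hX hP _ hsim ih =>
    by_cases hQ : Q X.charpoly
    · rcases ih with ih | ih
      · exact Or.inl (Stack.cons X Z g hd hn hX ⟨hP, hQ⟩ ih hsim)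
      · exact Or.inr (surj_summand hn hsim (Or.inr ih))
    · exact Or.inr (surj_summand hn hsim (Or.inl (h d X hX hP hQ)))

end CfsgLib.LevCover
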