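import Cfsg.Agent.LevCover.Four

/-!
No scalar summand, size three.
-/

set_option autoImplicit false
set_option linter.unusedSectionVars false
set_option linter.unusedSimpArgs false

namespace CfsgLib.LevCover

open Matrix Polynomial

variable {K : Type*} [Field K] [Fintype K]

/-- The Galois conjugates of an irreducible matrix of determinant one multiply to one. -/
theorem scalar_irreducible {x : Matrix (Fin 3) (Fin 3) K} (hx1 : x.det = 1) (hi : Irreducible x.charpoly) :
    SimProd x 3 (1 : Matrix (Fin 3) (Fin 3) K) := by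
  classical
  set χ := x.charpoly with hχ
  set q := Fintype.card K
  have hd : χ.natDegree = 3 := by rw [hχ, charpoly_natDegree_eq_dim, Fintype.card_fin]
  have hpow : ∀ y : Matrix (Fin 3) (Fin 3) K, aeval y χ = 0 → aeval (y ^ q) χ = 0 := by
    intro y hy
    have h : aeval (y ^ q) χ = aeval y (expand K q χ) := (Polynomial.expand_aeval q χ y).symm
    rw [h, FiniteField.expand_card, map_pow, hy, zero_pow Fintype.card_ne_zero]
  have hsim : ∀ y : Matrix (Fin 3) (Fin 3) K, aeval y χ = 0 → Sim x y := by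
    intro y hy
    have hint : IsIntegral K y := Matrix.isIntegral y
    haveI : Nontrivial (Matrix (Fin 3) (Fin 3) K) := Matrix.nonempty
    have hmin : minpoly K y = χ := (minpoly.eq_of_irreducible_of_monic hi hy (charpoly_monic x)).symm
    have hchar : y.charpoly = χ := by
      refine eq_of_monic_of_dvd_of_natDegree_le (charpoly_monic x) (charpoly_monic y) ?_ ?_
      · rw [← hmin]; exact Matrix.minpoly_dvd_charpoly y
      · rw [charpoly_natDegree_eq_dim, Fintype.card_fin, hd]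
    have hcyc : ∀ z : Matrix (Fin 3) (Fin 3) K, Irreducible z.charpoly → Cyc z := fun z hz =>
      ⟨![1, 0, 0], cycV_of_krylov (cycAt_of_irreducible hz fun h => by simpa using congrFun h 0)⟩
    exact sim_of_cyc (hcyc x hi) (hcyc y (hchar.symm ▸ hi)) hchar.symm
  have h1 : aeval (x ^ q) χ = 0 := hpow x (Matrix.aeval_self_charpoly x)
  have h3 : x * x ^ q * (x ^ q) ^ q = 1 := by
    haveI : Fact (Irreducible χ) := ⟨hi⟩
    haveI : Module.Finite K (AdjoinRoot χ) := (charpoly_monic x).finite_adjoinRoot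
    haveI : Finite (AdjoinRoot χ) := Module.finite_of_finite K
    have hnorm : Algebra.norm K (AdjoinRoot.root χ) = 1 := by
      have h := Algebra.PowerBasis.norm_gen_eq_coeff_zero_minpoly (AdjoinRoot.powerBasis hi.ne_zero)
      rw [AdjoinRoot.minpoly_powerBasis_gen_of_monic (charpoly_monic x), AdjoinRoot.powerBasis_dim, hd,
        AdjoinRoot.powerBasis_gen] at h
      rw [h, ← det_of_charpoly (G := x) hχ.symm, hx1]
    have h := FiniteField.algebraMap_norm_eq_pow_sum (K := K) (L := AdjoinRoot χ) (x := AdjoinRoot.root χ)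
    rw [hnorm, map_one, (AdjoinRoot.powerBasis hi.ne_zero).finrank, AdjoinRoot.powerBasis_dim, hd,
      Nat.card_eq_fintype_card, Finset.sum_range_succ, Finset.sum_range_succ, Finset.sum_range_one, pow_zero,
      pow_one] at h
    have hdvd : χ ∣ Polynomial.X ^ (1 + q + q ^ 2) - 1 := by
      rw [← AdjoinRoot.mk_eq_zero, map_sub, map_pow, map_one, AdjoinRoot.mk_X, ← h, sub_self]
    obtain ⟨r, hr⟩ := hdvd
    have h' := congrArg (aeval x) hr
    rw [map_sub, map_pow, map_one, aeval_X, map_mul, Matrix.aeval_self_charpoly, zero_mul, sub_eq_zero] at h'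
    rw [← h', ← pow_mul, ← pow_succ', ← pow_add]
    congr 1
    ring
  have h := ((SimProd.one (Sim.refl x)).mul (SimProd.one (hsim _ h1))).mul (SimProd.one (hsim _ (hpow _ h1)))
  rwa [h3] at h

/-- A simple root. -/
theorem scalar_simple_root {x : Matrix (Fin 3) (Fin 3) K} (hxd : x.det ≠ 0) (hx : Cyc x) {lam : K} {g0 : K[X]}
    (hfac : (Polynomial.X - Polynomial.C lam) * g0 = x.charpoly) (hg : g0.eval lam ≠ 0) :
    ∃ c : K, SimProd x 3 (c • (1 : Matrix (Fin 3) (Fin 3) K)) := by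
  have hg0m : g0.Monic := Monic.of_mul_monic_left (monic_X_sub_C lam) (by rw [hfac]; exact charpoly_monic x)
  have hg0d : g0.natDegree = 2 := by
    have h := charpoly_natDegree_eq_dim x
    rw [← hfac, (monic_X_sub_C lam).natDegree_mul hg0m, natDegree_X_sub_C, Fintype.card_fin] at h
    omega
  set N := g0.coeff 0
  set S := -g0.coeff 1
  have hg0 : g0 = Polynomial.X ^ 2 - Polynomial.C S * Polynomial.X + Polynomial.C N := by
    conv_lhs => rw [hg0m.as_sum, hg0d]
    simp [Finset.sum_range_succ, N, S]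
    ring
  set C : Matrix (Fin 2) (Fin 2) K := !![0, -N; 1, S]
  have hgl : lam * lam - S * lam + N ≠ 0 := by
    intro h; apply hg; rw [hg0]; simp; linear_combination h
  obtain ⟨X', H', E, hX'c, -, hX', hH'χ, hXs⟩ := exists_quotient (s := 1) (t := 0) hx hg0m
    (monic_X_sub_C lam) hg0d (natDegree_X_sub_C lam) (by rw [← hfac]; ring)
  rw [one_by_one_eq hH'χ] at hXs
  have hC : Sim X' C := sim_of_cyc hX'c sim_fin_two.2 (by
    rw [hX', hg0, Matrix.charpoly_fin_two]; simp [C, trace_fin_two, det_fin_two])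
  obtain ⟨E', hE'⟩ := sim_top_left hC E (lam • (1 : Matrix (Fin 1) (Fin 1) K))
  set D := C - lam • (1 : Matrix (Fin 2) (Fin 2) K) with hD
  have hd : D.det ≠ 0 := by
    simp [hD, C, det_fin_two]
    intro h; apply hgl; linear_combination h
  have hshear : Sim (Matrix.fromBlocks C E' 0 (lam • (1 : Matrix (Fin 1) (Fin 1) K)))
      (Matrix.fromBlocks C 0 0 (lam • (1 : Matrix (Fin 1) (Fin 1) K))) := by
    have h := sim_shear C (lam • (1 : Matrix (Fin 1) (Fin 1) K)) E' (-(D⁻¹ * E'))
    have e : E' + C * -(D⁻¹ * E') - -(D⁻¹ * E') * (lam • (1 : Matrix (Fin 1) (Fin 1) K)) = 0 := by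
      have h1 : D * (D⁻¹ * E') = E' := by
        rw [← Matrix.mul_assoc, Matrix.mul_nonsing_inv D (isUnit_iff_ne_zero.2 hd), Matrix.one_mul]
      have e2 : C * (D⁻¹ * E') - lam • (D⁻¹ * E') = E' := by
        conv_rhs => rw [← h1]
        rw [hD, Matrix.sub_mul C, Matrix.smul_mul, Matrix.one_mul]
      rw [Matrix.mul_neg, Matrix.neg_mul, Matrix.mul_smul, Matrix.mul_one]
      linear_combination (norm := abel) -e2
    rwa [e] at h
  have hsimx := (hXs.trans hE').trans hshear
  have hN : N ≠ 0 := by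
    have h2 := hsimx.det_ne hxd
    rw [det_fromBlocks_zero₂₁] at h2
    have h3 := left_ne_zero_of_mul h2
    simpa [C, det_fin_two] using h3
  have hlam : lam ≠ 0 := by
    have h2 := hsimx.det_ne hxd
    rw [det_fromBlocks_zero₂₁] at h2
    have h3 := right_ne_zero_of_mul h2
    simpa using h3
  exact ⟨_, (simProd_three hN hlam hgl).congr_base hsimx⟩

/-- A triple root. -/
theorem scalar_triple (h4 : 4 ≤ Fintype.card K) {x : Matrix (Fin 3) (Fin 3) K} (hxd : x.det ≠ 0) (hx : Cyc x)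
    {ρ : K} (hρ : ρ ≠ 0) (hch : x.charpoly = ∏ _i : Fin 3, (Polynomial.X - Polynomial.C ρ)) :
    ∃ c : K, SimProd x 3 (c • (1 : Matrix (Fin 3) (Fin 3) K)) := by
  obtain ⟨T, hT, hTh⟩ : ∃ T : Matrix (Fin 3) (Fin 3) K, T = !![ρ⁻¹, 1, 0; 0, ρ⁻¹, 1; 0, 0, ρ⁻¹] ∧ Cyc T := by
    refine ⟨_, rfl, ⟨![0, 0, 1], cycV_of_krylov ?_⟩⟩
    simp [SLCommutator.krylov, det_fin_three, pow_two, Matrix.mulVec, dotProduct, Fin.sum_univ_three,
      Matrix.mul_apply]
  have hTc : T.charpoly = x⁻¹.charpoly := by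
    rw [(charpoly_inv_split hx hxd (β := fun _ => ρ) hch).2, hT]
    simp [Matrix.charpoly, charmatrix_apply, det_fin_three, Fin.prod_univ_three]
    try ring
  obtain ⟨P, P', p1, p2, hP⟩ := sim_of_cyc hTh (hx.inv hxd) hTc
  have hχ : (ρ ^ 3 • x⁻¹).charpoly = ∏ _i : Fin 3, (Polynomial.X - Polynomial.C (ρ ^ 3 / ρ)) := by
    have hsim : Sim (ρ ^ 3 • T) (ρ ^ 3 • x⁻¹) := ⟨P, P', p1, p2, by rw [hP, Matrix.mul_smul, Matrix.smul_mul]⟩
    rw [hsim.charpoly_eq, hT]
    simp [Matrix.charpoly, charmatrix_apply, det_fin_three, Fin.prod_univ_three, div_eq_mul_inv]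
    try ring
  have hdx : x.det = ρ ^ 3 := by rw [det_of_prod hch]; simp
  have hR := next_split (k := 1) h4 hxd (SimProd.one (Sim.refl x)) hx (β := fun _ : Fin 3 => ρ ^ 3 / ρ)
    (fun _ _ _ _ _ _ => rfl) (good_cyc hx le_rfl _) (cyc_smul_inv hx hxd (pow_ne_zero _ hρ)) hχ
    (by rw [det_of_prod hχ, hdx]; simp; field_simp)
  have h := (SimProd.one (Sim.refl x)).mul hR
  rw [Matrix.mul_smul, Matrix.mul_nonsing_inv x (isUnit_iff_ne_zero.2 hxd)] at h
  exact ⟨_, h⟩

/-- An upper unitriangular matrix of size three. -/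
def upperThree (a b c : K) : Matrix (Fin 3) (Fin 3) K := !![1, a, c; 0, 1, b; 0, 0, 1]

/-- A product of three conjugates, with conjugators of determinant one, of the regular unipotent matrix,
similar to it by a conjugator of determinant `r`, or equal to the identity. -/
def UnipThree (M : Matrix (Fin 3) (Fin 3) K) : Prop :=
  ∃ S : Fin 3 → Matrix (Fin 3) (Fin 3) K, (∀ i, (S i).det = 1) ∧
    M = (List.ofFn fun i => S i * upperThree 1 1 0 * (S i)⁻¹).prod

theorem unipThree_upper (a b : Fin 3 → K) (hb : ∀ i, b i ≠ 0) (hab : ∀ i, ∃ s : K, s ≠ 0 ∧ a i = s ^ 3 * b i)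
    (C : K) : UnipThree (upperThree (a 0 + a 1 + a 2) (b 0 + b 1 + b 2) C) := by
  have hD : ∀ (i : Fin 3) (c : K), ∃ S : Matrix (Fin 3) (Fin 3) K, S.det = 1 ∧
      S * upperThree 1 1 0 * S⁻¹ = upperThree (a i) (b i) c := by
    intro i c
    obtain ⟨s, hs, ha⟩ := hab i
    have hbi := hb i
    set D : Matrix (Fin 3) (Fin 3) K := !![s ^ 2 * b i, c / (s * b i), 0; 0, 1 / s, 0; 0, 0, 1 / (s * b i)]
    have hDd : D.det = 1 := by
      simp [D, det_fin_three]; field_simp
    refine ⟨D, hDd, ?_⟩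
    have h : D * upperThree 1 1 0 = upperThree (a i) (b i) c * D := by
      ext k l
      fin_cases k <;> fin_cases l <;> simp [D, upperThree, Matrix.mul_apply, Fin.sum_univ_three, ha] <;>
        field_simp <;> ring
    rw [h, Matrix.mul_nonsing_inv_cancel_right _ _ (by rw [hDd]; exact isUnit_one)]
  obtain ⟨S₀, p0, e0⟩ := hD 0 (C - (a 0 * b 1 + a 0 * b 2 + a 1 * b 2))
  obtain ⟨S₁, p1, e1⟩ := hD 1 0
  obtain ⟨S₂, p2, e2⟩ := hD 2 0
  refine ⟨![S₀, S₁, S₂], fun i => by fin_cases i <;> assumption, ?_⟩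
  rw [List.ofFn_succ, List.ofFn_succ, List.ofFn_succ, List.ofFn_zero, List.prod_cons, List.prod_cons,
    List.prod_cons, List.prod_nil, mul_one]
  simp only [Matrix.cons_val_zero, Matrix.cons_val_succ]
  rw [e0, e1, e2]
  ext i j
  fin_cases i <;> fin_cases j <;> simp [upperThree, Matrix.mul_apply, Fin.sum_univ_three] <;> ring

/-- The field with four elements. -/
theorem unipThree_four {w : K} (hw : w * w + w + 1 = 0) (h2 : (2 : K) = 0) :
    ∃ Q : Matrix (Fin 3) (Fin 3) K, Q.det = w ∧ UnipThree (Q * upperThree 1 1 0 * Q⁻¹) := by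
  set A : Matrix (Fin 3) (Fin 3) K := !![0, 1, 0; 1, 0, 0; 0, 0, 1]
  set B : Matrix (Fin 3) (Fin 3) K := !![0, 1, 0; 0, w, 1; 1, 0, 0]
  set X₂ : Matrix (Fin 3) (Fin 3) K := !![1, 0, 1; 1, 1, 0; 0, 0, 1]
  set X₃ : Matrix (Fin 3) (Fin 3) K := !![w * w, 1, 0; w * w, w * w, 0; 1, 0, 1]
  set Q : Matrix (Fin 3) (Fin 3) K := !![0, 1, 0; w, 1, 0; 1, 0, 1]
  have hw0 : w ≠ 0 := by rintro rfl; simp at hw
  have hA : A.det = 1 := by simp [A, det_fin_three]; linear_combination -h2
  have hB : B.det = 1 := by simp [B, det_fin_three]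
  have hQ : Q.det = w := by simp [Q, det_fin_three]; linear_combination -w * h2
  have hcA : A * upperThree 1 1 0 = X₂ * A := by
    ext i j; fin_cases i <;> fin_cases j <;> simp [A, X₂, upperThree, Matrix.mul_apply, Fin.sum_univ_three] <;> grind
  have hcB : B * upperThree 1 1 0 = X₃ * B := by
    ext i j; fin_cases i <;> fin_cases j <;> simp [B, X₃, upperThree, Matrix.mul_apply, Fin.sum_univ_three] <;> grind
  have hP : upperThree 1 1 0 * X₂ * X₃ * Q = Q * upperThree 1 1 0 := by
    ext i j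
    fin_cases i <;> fin_cases j <;>
      simp [X₂, X₃, Q, upperThree, Matrix.mul_apply, Fin.sum_univ_three] <;> grind
  refine ⟨Q, hQ, ![1, A, B], fun i => by fin_cases i <;> simp [hA, hB], ?_⟩
  rw [List.ofFn_succ, List.ofFn_succ, List.ofFn_succ, List.ofFn_zero, List.prod_cons, List.prod_cons,
    List.prod_cons, List.prod_nil, mul_one]
  simp only [Matrix.cons_val_zero, Matrix.cons_val_succ, inv_one, Matrix.one_mul, Matrix.mul_one]
  rw [hcA, hcB, Matrix.mul_nonsing_inv_cancel_right _ _ (by rw [hA]; exact isUnit_one),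
    Matrix.mul_nonsing_inv_cancel_right _ _ (by rw [hB]; exact isUnit_one), ← Matrix.mul_assoc]
  rw [← hP, Matrix.mul_nonsing_inv_cancel_right _ _ (by rw [hQ]; exact isUnit_iff_ne_zero.2 hw0)]

/-- Every class of regular unipotent matrices occurs. -/
theorem unipThree_class (h4 : 4 ≤ Fintype.card K) {r : K} (hr : r ≠ 0) :
    ∃ Q : Matrix (Fin 3) (Fin 3) K, Q.det = r ∧ UnipThree (Q * upperThree 1 1 0 * Q⁻¹) := by
  classical
  by_cases hsmall : ∃ b s : Fin 3 → K, (∀ i, b i ≠ 0) ∧ (∀ i, s i ≠ 0) ∧ b 0 + b 1 + b 2 = 1 ∧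
      s 0 ^ 3 * b 0 + s 1 ^ 3 * b 1 + s 2 ^ 3 * b 2 = r
  · obtain ⟨b, s, hb, hs, hB, hA⟩ := hsmall
    set Q : Matrix (Fin 3) (Fin 3) K := !![r, 0, 0; 0, 1, 0; 0, 0, 1]
    have hQ : Q.det = r := by simp [Q, det_fin_three]
    refine ⟨Q, hQ, ?_⟩
    have h : upperThree r 1 0 = Q * upperThree 1 1 0 * Q⁻¹ := by
      have h' : Q * upperThree 1 1 0 = upperThree r 1 0 * Q := by
        ext i j; fin_cases i <;> fin_cases j <;> simp [Q, upperThree, Matrix.mul_apply, Fin.sum_univ_three]
      rw [h', Matrix.mul_nonsing_inv_cancel_right _ _ (by rw [hQ]; exact isUnit_iff_ne_zero.2 hr)]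
    rw [← h]
    have := unipThree_upper (fun i => s i ^ 3 * b i) b hb (fun i => ⟨s i, hs i, rfl⟩) 0
    rwa [hA, hB] at this
  by_cases hr1 : r = 1
  · exfalso
    obtain ⟨u, hu⟩ := exists_notMem ({0, 1} : Finset K) (by
      refine lt_of_le_of_lt (Finset.card_insert_le _ _) ?_; rw [Finset.card_singleton]; omega)
    simp only [Finset.mem_insert, Finset.mem_singleton, not_or] at hu
    obtain ⟨v, hv⟩ := exists_notMem ({0, 1 - u} : Finset K) (by
      refine lt_of_le_of_lt (Finset.card_insert_le _ _) ?_; rw [Finset.card_singleton]; omega)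
    simp only [Finset.mem_insert, Finset.mem_singleton, not_or] at hv
    refine hsmall ⟨![v, 1 - u - v, u], fun _ => 1, fun i => ?_, fun _ => one_ne_zero, ?_, ?_⟩
    · fin_cases i
      · simpa using hv.1
      · simpa [sub_eq_zero] using Ne.symm hv.2
      · simpa using hu.1
    · simp only [Matrix.cons_val]; ring
    · simp only [Matrix.cons_val]; rw [hr1]; ring
  by_cases hq : Fintype.card K = 4
  · have h2 : (2 : K) = 0 := by
      have h0 : ((Fintype.card K : ℕ) : K) = 0 := FiniteField.cast_card_eq_zero K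
      rw [hq] at h0
      push_cast at h0
      exact mul_self_eq_zero.1 (show (2 : K) * 2 = 0 by linear_combination h0)
    refine unipThree_four ?_ h2
    have h := FiniteField.pow_card_sub_one_eq_one r hr
    rw [hq] at h
    exact mul_left_cancel₀ (sub_ne_zero.2 hr1) (by rw [mul_zero]; linear_combination h)
  · exfalso
    obtain ⟨s, hs0, hs⟩ : ∃ s : K, s ≠ 0 ∧ s ^ 3 ≠ 1 := by
      by_contra hno
      push Not at hno
      have hle : (Finset.univ.erase (0 : K)).card ≤ (Polynomial.X ^ 3 - Polynomial.C (1 : K)).natDegree :=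
        Polynomial.card_le_degree_of_subset_roots fun z hz => by
          have hz' : z ∈ Finset.univ.erase (0 : K) := hz
          rw [mem_roots (X_pow_sub_C_ne_zero (by norm_num) 1), Polynomial.IsRoot]
          simp [hno z (Finset.ne_of_mem_erase hz')]
      rw [natDegree_X_pow_sub_C, Finset.card_erase_of_mem (Finset.mem_univ _), Finset.card_univ] at hle
      omega
    set w := (r - 1) / (s ^ 3 - 1)
    have hw : w ≠ 0 := div_ne_zero (sub_ne_zero.2 hr1) (sub_ne_zero.2 hs)
    obtain ⟨u, hu⟩ := exists_notMem ({0, 1 - w} : Finset K) (by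
      refine lt_of_le_of_lt (Finset.card_insert_le _ _) ?_; rw [Finset.card_singleton]; omega)
    simp only [Finset.mem_insert, Finset.mem_singleton, not_or] at hu
    refine hsmall ⟨![u, 1 - w - u, w], ![1, 1, s], fun i => ?_, fun i => ?_, ?_, ?_⟩
    · fin_cases i
      · simpa using hu.1
      · simpa [sub_eq_zero] using Ne.symm hu.2
      · simpa using hw
    · fin_cases i <;> simp [hs0]
    · simp only [Matrix.cons_val]; ring
    · simp only [Matrix.cons_val]
      have hw' : w * (s ^ 3 - 1) = r - 1 := div_mul_cancel₀ _ (sub_ne_zero.2 hs)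
      linear_combination hw'

/-- Three conjugates of a matrix with a triple root reach every regular unipotent matrix. -/
theorem unif_unip (h4 : 4 ≤ Fintype.card K) {x P0 : Matrix (Fin 3) (Fin 3) K} {ρ : K} (hP0 : P0.det ≠ 0)
    (hρ : ρ * ρ * ρ = 1) (hx : P0 * x * P0⁻¹ = ρ • upperThree 1 1 0) :
    Unif x 3 (upperThree 1 1 0) ∧ Unif x 3 (1 : Matrix (Fin 3) (Fin 3) K) := by
  classical
  have key : ∀ (Q : Matrix (Fin 3) (Fin 3) K), Q.det ≠ 0 → ∀ M, UnipThree M →
      ∃ P : Fin 3 → Matrix (Fin 3) (Fin 3) K, (∀ i, (P i).det = P0.det / Q.det) ∧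
        Q⁻¹ * M * Q = (List.ofFn fun i => P i * x * (P i)⁻¹).prod := by
    rintro Q hQ M ⟨S, hS, rfl⟩
    have uQ : IsUnit Q.det := isUnit_iff_ne_zero.2 hQ
    refine ⟨fun i => Q⁻¹ * S i * P0, fun i => ?_, ?_⟩
    · rw [det_mul, det_mul, hS, det_nonsing_inv, Ring.inverse_eq_inv', mul_one, inv_mul_eq_div]
    · rw [← prod_conj (P := Q⁻¹) (P' := Q) (Matrix.nonsing_inv_mul Q uQ) (Matrix.mul_nonsing_inv Q uQ),
        List.map_ofFn]
      have hP : ∀ i, Q⁻¹ * S i * P0 * x * (Q⁻¹ * S i * P0)⁻¹ =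
          ρ • (Q⁻¹ * (S i * upperThree 1 1 0 * (S i)⁻¹) * Q) := by
        intro i
        rw [Matrix.mul_inv_rev, Matrix.mul_inv_rev, Matrix.nonsing_inv_nonsing_inv Q uQ]
        rw [show Q⁻¹ * S i * P0 * x * (P0⁻¹ * ((S i)⁻¹ * Q)) = Q⁻¹ * S i * (P0 * x * P0⁻¹) * ((S i)⁻¹ * Q) by
          simp only [Matrix.mul_assoc], hx, Matrix.mul_smul, Matrix.smul_mul]
        simp only [Matrix.mul_assoc]
      simp only [hP, List.ofFn_succ, List.ofFn_zero, List.prod_cons, List.prod_nil, mul_one, Function.comp,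
        smul_mul_smul_comm, ← mul_assoc ρ, hρ, one_smul]
  refine ⟨fun q hq => ?_, ?_⟩
  · obtain ⟨Q, hQd, hQ⟩ := unipThree_class h4 (r := P0.det / q) (div_ne_zero hP0 hq)
    have hQ0 : Q.det ≠ 0 := by rw [hQd]; exact div_ne_zero hP0 hq
    have uQ : IsUnit Q.det := isUnit_iff_ne_zero.2 hQ0
    obtain ⟨P, hP, he⟩ := key Q hQ0 _ hQ
    refine ⟨P, fun i => by rw [hP, hQd, div_div_cancel₀ hP0], ?_⟩
    rw [← he]
    simp only [Matrix.mul_assoc, Matrix.nonsing_inv_mul Q uQ, Matrix.mul_one]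
    rw [← Matrix.mul_assoc, Matrix.nonsing_inv_mul Q uQ, Matrix.one_mul]
  · obtain ⟨u, hu⟩ := exists_notMem ({0, -1} : Finset K) (by
      refine lt_of_le_of_lt (Finset.card_insert_le _ _) ?_; rw [Finset.card_singleton]; omega)
    simp only [Finset.mem_insert, Finset.mem_singleton, not_or] at hu
    have h := unipThree_upper ![u, 1, -1 - u] ![u, 1, -1 - u] (fun i => by
      fin_cases i
      · simpa using hu.1
      · simp
      · simpa [sub_eq_zero] using Ne.symm hu.2) (fun i => ⟨1, one_ne_zero, by simp⟩) 0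
    have h1 : upperThree ((![u, 1, -1 - u] : Fin 3 → K) 0 + (![u, 1, -1 - u] : Fin 3 → K) 1 + (![u, 1, -1 - u] : Fin 3 → K) 2)
        ((![u, 1, -1 - u] : Fin 3 → K) 0 + (![u, 1, -1 - u] : Fin 3 → K) 1 + (![u, 1, -1 - u] : Fin 3 → K) 2) 0 =
        (1 : Matrix (Fin 3) (Fin 3) K) := by
      ext i j; fin_cases i <;> fin_cases j <;> simp [upperThree] <;> ring
    rw [h1] at h
    obtain ⟨P, hP, he⟩ := key 1 (by simp) 1 h
    have hS1 : Surj (1 : Matrix (Fin 3) (Fin 3) K) := fun d _ =>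
      ⟨!![d, 0, 0; 0, 1, 0; 0, 0, 1], by simp [det_fin_three], by rw [Matrix.mul_one, Matrix.one_mul]⟩
    refine Unif.of_surj hS1 hP0 (P := P) (fun i => by rw [hP, det_one, div_one]) ?_
    rw [← he, inv_one, Matrix.one_mul, Matrix.one_mul]

/-- Case A, size three. -/
theorem caseA_three (h4 : 4 ≤ Fintype.card K) {d m₀ : ℕ} {x : Matrix (Fin 3) (Fin 3) K}
    (hx1 : x.det = 1) {lam : K} {X : Matrix (Fin d) (Fin d) K} {Z : Matrix (Fin m₀) (Fin m₀) K}
    (hd : 2 ≤ d) (hn : d + m₀ = 3) (hX : Cyc X) (hsim : Sim (Matrix.fromBlocks X 0 0 Z) x) {Pr : K[X] → Prop}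
    (hst : Stack Pr (lam • (1 : Matrix (Fin 0) (Fin 0) K)) Z) : Covers x := by
  classical
  have hxd : x.det ≠ 0 := by rw [hx1]; exact one_ne_zero
  cases hst with
  | cons X₁ Z₁ g₁ hd₁ hn₁ _ _ _ _ => omega
  | base =>
  obtain rfl : d = 3 := by omega
  have hxc : Cyc x := ((sim_empty X _).symm.trans hsim).cyc hX
  have hxs : ∀ t : K, x ≠ t • 1 := cyc_nonscalar (by norm_num) hxc
  by_cases hSx : Surj x
  · obtain ⟨hgen, -⟩ := caseB_odd h4 (m := 0) (k := 1) (lam := (1 : K)) rfl hx1 hxs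
      ⟨0, x, rfl, hxc, SimProd.one (sim_empty x _).symm⟩
    refine covers_of_simProd hSx hgen ?_
    by_cases hroot : ∃ r, x.charpoly.IsRoot r
    · obtain ⟨r, hr⟩ := hroot
      set g0 := x.charpoly /ₘ (Polynomial.X - Polynomial.C r)
      have hfac : (Polynomial.X - Polynomial.C r) * g0 = x.charpoly := mul_divByMonic_eq_iff_isRoot.2 hr
      by_cases hg : g0.eval r = 0
      swap
      · exact scalar_simple_root hxd hxc hfac hg
      set q := g0 /ₘ (Polynomial.X - Polynomial.C r)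
      have hq : (Polynomial.X - Polynomial.C r) * q = g0 := mul_divByMonic_eq_iff_isRoot.2 hg
      have hg0m : g0.Monic := Monic.of_mul_monic_left (monic_X_sub_C r) (by rw [hfac]; exact charpoly_monic x)
      have hqm : q.Monic := Monic.of_mul_monic_left (monic_X_sub_C r) (by rw [hq]; exact hg0m)
      have hq1 : q.natDegree = 1 := by
        have h := charpoly_natDegree_eq_dim x
        rw [← hfac, ← hq, (monic_X_sub_C r).natDegree_mul ((monic_X_sub_C r).mul hqm),
          (monic_X_sub_C r).natDegree_mul hqm, natDegree_X_sub_C, Fintype.card_fin] at h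
        omega
      obtain ⟨τ, hτ⟩ : ∃ τ, q = Polynomial.X - Polynomial.C τ :=
        ⟨-q.coeff 0, by rw [map_neg, sub_neg_eq_add, ← hqm.eq_X_add_C hq1]⟩
      by_cases hτr : τ = r
      · have hch : x.charpoly = ∏ _i : Fin 3, (Polynomial.X - Polynomial.C r) := by
          rw [← hfac, ← hq, hτ, hτr, Fin.prod_univ_three]; ring
        refine scalar_triple h4 hxd hxc (fun h0 => hxd ?_) hch
        rw [det_of_prod hch, h0]; simp
      · refine scalar_simple_root hxd hxc (lam := τ)
          (g0 := (Polynomial.X - Polynomial.C r) * (Polynomial.X - Polynomial.C r)) ?_ ?_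
        · rw [← hfac, ← hq, hτ]; ring
        · simp [sub_eq_zero, hτr]
    · refine ⟨1, ?_⟩
      rw [one_smul]
      refine scalar_irreducible hx1 (((charpoly_monic x).irreducible_iff_roots_eq_zero_of_degree_le_three
        (by rw [charpoly_natDegree_eq_dim, Fintype.card_fin]; norm_num)
        (by rw [charpoly_natDegree_eq_dim, Fintype.card_fin])).2 ?_)
      exact Multiset.eq_zero_of_forall_notMem fun θ hθ =>
        hroot ⟨θ, (mem_roots (charpoly_monic x).ne_zero).1 hθ⟩
  -- a triple root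
  have hsq : Sq x.charpoly := by_contra fun h => hSx (surj_of_not_sq h4 hxc h)
  have hcd : x.charpoly.natDegree = 3 := by rw [charpoly_natDegree_eq_dim, Fintype.card_fin]
  obtain ⟨ρ, hρr⟩ : ∃ ρ, x.charpoly.IsRoot ρ := by
    by_contra hno
    refine hSx (cyc_of_irreducible_factor h4 hxc
      (((charpoly_monic x).irreducible_iff_roots_eq_zero_of_degree_le_three (by omega) (by omega)).2 ?_))
    exact Multiset.eq_zero_of_forall_notMem fun θ hθ => hno ⟨θ, (mem_roots (charpoly_monic x).ne_zero).1 hθ⟩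
  have hfac : (Polynomial.X - Polynomial.C ρ) * (x.charpoly /ₘ (Polynomial.X - Polynomial.C ρ)) = x.charpoly :=
    mul_divByMonic_eq_iff_isRoot.2 hρr
  have hhm : (x.charpoly /ₘ (Polynomial.X - Polynomial.C ρ)).Monic :=
    Monic.of_mul_monic_left (monic_X_sub_C ρ) (by rw [hfac]; exact charpoly_monic x)
  have hhd : (x.charpoly /ₘ (Polynomial.X - Polynomial.C ρ)).natDegree = 2 := by
    rw [← hfac, (monic_X_sub_C ρ).natDegree_mul hhm, natDegree_X_sub_C] at hcd; omega
  have hch : x.charpoly = ∏ _i : Fin 3, (Polynomial.X - Polynomial.C ρ) := by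
    rw [← hfac, sq_cubic hhm hhd (by rw [hfac]; exact hsq), Fin.prod_univ_three]; ring
  have hρ3 : ρ * ρ * ρ = 1 := by
    rw [← hx1, det_of_prod hch, Fin.prod_univ_three]
  have hρ0 : ρ ≠ 0 := fun h => by rw [h, mul_zero] at hρ3; exact zero_ne_one hρ3
  obtain ⟨P0, hP0d, hP0⟩ : ∃ P0 : Matrix (Fin 3) (Fin 3) K, P0.det ≠ 0 ∧
      P0 * x * P0⁻¹ = ρ • upperThree 1 1 0 := by
    have hc : Cyc (ρ • upperThree (1 : K) 1 0) := by
      refine ⟨![0, 0, 1], cycV_of_krylov ?_⟩
      simp [upperThree, SLCommutator.krylov, det_fin_three, pow_two, Matrix.mulVec, dotProduct, Fin.sum_univ_three,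
        Matrix.mul_apply, hρ0]
    have hχ : x.charpoly = (ρ • upperThree (1 : K) 1 0).charpoly := by
      rw [hch]
      simp [upperThree, Matrix.charpoly, charmatrix_apply, det_fin_three, Fin.prod_univ_three]
      try ring
    obtain ⟨P, P', p1, p2, hP⟩ := sim_of_cyc hxc hc hχ
    obtain ⟨hPd, rfl⟩ := Sim.det_left (A := x) (B := ρ • upperThree (1 : K) 1 0) p1
    exact ⟨P, hPd, hP.symm⟩
  refine ⟨fun g hg hgs => ?_, ?_⟩
  · by_cases hgS : Surj g
    · obtain ⟨R, hRc, hR, hRsimple⟩ := seed_root h4 le_rfl (show 3 + 0 = 3 from rfl) hxd hxc (sim_empty x _)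
        hsq hρr (Pr := fun _ => False) (c := (1 : K)) (Z := (1 : K) • (1 : Matrix (Fin 0) (Fin 0) K))
        Stack.base (fun _ h => h.elim)
      obtain ⟨β, hr, h01, hβ, -⟩ := exists_ordered (n := 1) hRsimple
      have hβp : ∏ i, β i = g.det * x⁻¹.det := by
        rw [← det_of_prod hβ, hR.simProd.det_eq, hg, det_nonsing_inv, Ring.inverse_eq_inv', hx1, one_pow, inv_one,
          one_mul]
      have hxi : x⁻¹.det ≠ 0 := by rw [det_nonsing_inv, Ring.inverse_eq_inv', hx1, inv_one]; exact one_ne_zero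
      have hgd : g.det ≠ 0 := by rw [hg]; exact one_ne_zero
      obtain ⟨Y, e, hY, hYd, hp, hYc, -⟩ := exists_piece h4 (k := 1) hgd (hxc.inv hxd) hxi
        (fun i => Finset.prod_ne_zero_iff.1 (by rw [hβp]; exact mul_ne_zero hgd hxi) i (Finset.mem_univ i))
        hr hβp (Or.inl ⟨h01, hgs⟩)
      have hy : Sim x Y⁻¹ := by
        have := hY.inv hxi
        rwa [Matrix.nonsing_inv_nonsing_inv x (isUnit_iff_ne_zero.2 hxd)] at this
      have uY : IsUnit Y.det := isUnit_iff_ne_zero.2 hYd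
      have hS := (hR.of_sim (sim_of_cyc hRc hp.cyc (hβ.trans hYc.symm))).of_sim
        (⟨Y, Y⁻¹, Matrix.mul_nonsing_inv Y uY, Matrix.nonsing_inv_mul Y uY, rfl⟩ :
          Sim (g * Y) (Y * (g * Y) * Y⁻¹))
      have e' : Y⁻¹ * (Y * (g * Y) * Y⁻¹) = g := by
        simp only [← Matrix.mul_assoc, Matrix.nonsing_inv_mul Y uY, Matrix.one_mul,
          Matrix.mul_nonsing_inv_cancel_right _ _ uY]
      refine ⟨1, ?_⟩
      rw [one_smul, ← e']
      exact hS.cons hy (by rw [e']; exact hgS)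
    · obtain ⟨dg, mg, ag, G, Zg, σ, f, hdg, hng, hσ, hG, hgsim, -, -, hgst⟩ :=
        exists_stack 3 g (by rw [hg]; exact one_ne_zero) hgs
      rcases Nat.lt_or_ge dg 3 with hlt | hge
      · exfalso
        obtain rfl : mg = 1 := by omega
        apply hgS
        refine surj_summand hng hgsim (Or.inr ?_)
        have hZ : Zg = Zg 0 0 • (1 : Matrix (Fin 1) (Fin 1) K) := by
          ext i j; fin_cases i; fin_cases j; simp
        rw [hZ]; exact surj_one_by_one _
      obtain rfl : dg = 3 := by omega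
      obtain rfl : mg = 0 := by omega
      have hgc : Cyc g := ((sim_empty G _).symm.trans hgsim).cyc hG
      have hgsq : Sq g.charpoly := by_contra fun h => hgS (surj_of_not_sq h4 hgc h)
      have hgd3 : g.charpoly.natDegree = 3 := by rw [charpoly_natDegree_eq_dim, Fintype.card_fin]
      obtain ⟨τ, hτr⟩ : ∃ τ, g.charpoly.IsRoot τ := by
        by_contra hno
        refine hgS (cyc_of_irreducible_factor h4 hgc
          (((charpoly_monic g).irreducible_iff_roots_eq_zero_of_degree_le_three (by omega) (by omega)).2 ?_))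
        exact Multiset.eq_zero_of_forall_notMem fun θ hθ => hno ⟨θ, (mem_roots (charpoly_monic g).ne_zero).1 hθ⟩
      have hgf : (Polynomial.X - Polynomial.C τ) * (g.charpoly /ₘ (Polynomial.X - Polynomial.C τ)) = g.charpoly :=
        mul_divByMonic_eq_iff_isRoot.2 hτr
      have hgm : (g.charpoly /ₘ (Polynomial.X - Polynomial.C τ)).Monic :=
        Monic.of_mul_monic_left (monic_X_sub_C τ) (by rw [hgf]; exact charpoly_monic g)
      have hgch : g.charpoly = ∏ _i : Fin 3, (Polynomial.X - Polynomial.C τ) := by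
        rw [← hgf, sq_cubic hgm (by
          rw [← hgf, (monic_X_sub_C τ).natDegree_mul hgm, natDegree_X_sub_C] at hgd3; omega)
          (by rw [hgf]; exact hgsq), Fin.prod_univ_three]
        ring
      have hτ3 : τ * τ * τ = 1 := by rw [← hg, det_of_prod hgch, Fin.prod_univ_three]
      have hτ0 : τ ≠ 0 := fun h => by rw [h, mul_zero] at hτ3; exact zero_ne_one hτ3
      refine ⟨τ⁻¹, ?_⟩
      have hc : Cyc (τ • upperThree (1 : K) 1 0) := by
        refine ⟨![0, 0, 1], cycV_of_krylov ?_⟩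
        simp [upperThree, SLCommutator.krylov, det_fin_three, pow_two, Matrix.mulVec, dotProduct,
          Fin.sum_univ_three, Matrix.mul_apply, hτ0]
      have hχ : (τ • upperThree (1 : K) 1 0).charpoly = g.charpoly := by
        rw [hgch]
        simp [upperThree, Matrix.charpoly, charmatrix_apply, det_fin_three, Fin.prod_univ_three]
        try ring
      obtain ⟨Q, Q', g1, g2, hQ⟩ := sim_of_cyc hc hgc hχ
      refine (unif_unip h4 hP0d hρ3 hP0).1.of_sim ⟨Q, Q', g1, g2, ?_⟩
      rw [hQ, Matrix.mul_smul, Matrix.smul_mul, smul_smul, inv_mul_cancel₀ hτ0, one_smul]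
  · exact ⟨1, by rw [one_smul]; exact (unif_unip h4 hP0d hρ3 hP0).2⟩

end CfsgLib.LevCover
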