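import Cfsg.Agent.LevCover.SurjCrit

/-!
Products of conjugates with conjugators of equal determinant, and the two ways of producing them.
-/

set_option autoImplicit false
set_option linter.unusedSectionVars false
set_option linter.unusedSimpArgs false

namespace CfsgLib.LevCover

open Matrix Polynomial

variable {K : Type*} [Field K]

/-- `R` is a product of `m` conjugates of `x`, the conjugators having any prescribed common determinant. -/
def Unif {ι : Type*} [Fintype ι] [DecidableEq ι] (x : Matrix ι ι K) (m : ℕ) (R : Matrix ι ι K) : Prop :=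
  ∀ q : K, q ≠ 0 → ∃ P : Fin m → Matrix ι ι K, (∀ i, (P i).det = q) ∧
    R = (List.ofFn fun i => P i * x * (P i)⁻¹).prod

section General

variable {ι : Type*} [Fintype ι] [DecidableEq ι]

theorem Unif.of_simProd {x : Matrix ι ι K} (hx : Surj x) {m : ℕ} {R : Matrix ι ι K} (h : SimProd x m R) :
    Unif x m R := fun q hq => Prods.of_simProd hx h (fun _ => q) fun _ => hq

theorem Unif.simProd {x : Matrix ι ι K} {m : ℕ} {R : Matrix ι ι K} (h : Unif x m R) : SimProd x m R := by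
  obtain ⟨P, hP, rfl⟩ := h 1 one_ne_zero
  refine ⟨fun i => P i * x * (P i)⁻¹, fun i => ?_, rfl⟩
  have u : IsUnit (P i).det := by rw [hP]; exact isUnit_one
  exact ⟨P i, (P i)⁻¹, Matrix.mul_nonsing_inv _ u, Matrix.nonsing_inv_mul _ u, rfl⟩

theorem Unif.mul {x : Matrix ι ι K} {m j : ℕ} {R S : Matrix ι ι K} (h : Unif x m R) (h' : Unif x j S) :
    Unif x (m + j) (R * S) := by
  intro q hq
  obtain ⟨P, hP, rfl⟩ := h q hq
  obtain ⟨Q, hQ, rfl⟩ := h' q hq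
  refine ⟨Fin.append P Q, fun i => ?_, ?_⟩
  · refine Fin.addCases (fun i => ?_) (fun i => ?_) i
    · simpa using hP i
    · simpa using hQ i
  · rw [← List.prod_append, ← List.ofFn_fin_append]
    congr 1
    refine congrArg List.ofFn (funext fun i => ?_)
    refine Fin.addCases (fun i => ?_) (fun i => ?_) i <;> simp

theorem Unif.of_sim {x : Matrix ι ι K} {m : ℕ} {R R' : Matrix ι ι K} (h : Unif x m R) (hs : Sim R R') :
    Unif x m R' := by
  obtain ⟨Q, Q', h1, h2, rfl⟩ := hs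
  obtain ⟨hQ, rfl⟩ := Sim.det_left (A := R) (B := Q * R * Q') h1
  intro q hq
  obtain ⟨P, hP, rfl⟩ := h (q / Q.det) (div_ne_zero hq hQ)
  refine ⟨fun i => Q * P i, fun i => by rw [det_mul, hP, mul_div_cancel₀ _ hQ], ?_⟩
  rw [← prod_conj h1 h2, List.map_ofFn]
  congr 1
  refine congrArg List.ofFn (funext fun i => ?_)
  simp only [Function.comp, Matrix.mul_inv_rev, Matrix.mul_assoc]

/-- With a surjective centraliser of the product, one common determinant is enough. -/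
theorem Unif.of_surj {x : Matrix ι ι K} {m : ℕ} {R : Matrix ι ι K} (hR : Surj R) {q₀ : K} (hq₀ : q₀ ≠ 0)
    {P : Fin m → Matrix ι ι K} (hP : ∀ i, (P i).det = q₀)
    (hprod : R = (List.ofFn fun i => P i * x * (P i)⁻¹).prod) : Unif x m R := by
  intro q hq
  obtain ⟨Z, hZd, hZc⟩ := hR (q / q₀) (div_ne_zero hq hq₀)
  have u : IsUnit Z.det := isUnit_iff_ne_zero.2 (by rw [hZd]; exact div_ne_zero hq hq₀)
  refine ⟨fun i => Z * P i, fun i => by rw [det_mul, hZd, hP, div_mul_cancel₀ _ hq₀], ?_⟩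
  have e : R = Z * R * Z⁻¹ := by rw [hZc, Matrix.mul_nonsing_inv_cancel_right _ _ u]
  conv_lhs => rw [e, hprod]
  rw [← prod_conj (Matrix.mul_nonsing_inv Z u) (Matrix.nonsing_inv_mul Z u), List.map_ofFn]
  congr 1
  refine congrArg List.ofFn (funext fun i => ?_)
  simp only [Function.comp, Matrix.mul_inv_rev, Matrix.mul_assoc]

/-- One more conjugate. -/
theorem Unif.cons {x : Matrix ι ι K} {j : ℕ} {S y : Matrix ι ι K} (h : Unif x j S) (hy : Sim x y)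
    (hR : Surj (y * S)) : Unif x (1 + j) (y * S) := by
  obtain ⟨Q, Q', h1, h2, rfl⟩ := hy
  obtain ⟨hQ, rfl⟩ := Sim.det_left (A := x) (B := Q * x * Q') h1
  obtain ⟨P, hP, hS⟩ := h Q.det hQ
  refine Unif.of_surj hR hQ (P := Fin.append (fun _ : Fin 1 => Q) P) (fun i => ?_) ?_
  · refine Fin.addCases (fun i => ?_) (fun i => ?_) i
    · rw [Fin.append_left]
    · rw [Fin.append_right]; exact hP i
  · have e : (fun i => Fin.append (fun _ : Fin 1 => Q) P i * x * (Fin.append (fun _ : Fin 1 => Q) P i)⁻¹) =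
        Fin.append (fun _ : Fin 1 => Q * x * Q⁻¹) fun i => P i * x * (P i)⁻¹ := by
      funext i
      refine Fin.addCases (fun i => ?_) (fun i => ?_) i <;> simp
    rw [e, List.ofFn_fin_append, List.prod_append, ← hS, List.ofFn_succ, List.ofFn_zero, List.prod_singleton]

end General

variable [Fintype K]

/-- One more factor gives every split class with surjective centraliser. -/
theorem next_unif (h4 : 4 ≤ Fintype.card K) {k j : ℕ} {x H R : Matrix (Fin (k + 2)) (Fin (k + 2)) K}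
    (hxd : x.det ≠ 0) (hH : Unif x j H) (hHc : Cyc H) {β : Fin (k + 2) → K} (hr : Runs β)
    (hgood : Good x β) (hRc : Cyc R) (hR : R.charpoly = ∏ i, (Polynomial.X - Polynomial.C (β i)))
    (hRs : Surj R) (hdet : R.det = x.det * H.det) : Unif x (1 + j) R := by
  have hHd := hH.simProd.det_ne hxd
  have hβ0 : ∀ i, β i ≠ 0 := fun i => Finset.prod_ne_zero_iff.1
    (by rw [← det_of_prod hR, hdet]; exact mul_ne_zero hxd hHd) i (Finset.mem_univ i)
  obtain ⟨Y, e, hY, -, hp, hYc, -⟩ := exists_piece h4 hxd hHc hHd hβ0 hr (by rw [← det_of_prod hR, hdet]) hgood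
  have hsim := sim_of_cyc hRc hp.cyc (hR.trans hYc.symm)
  exact ((hH.of_sim hY).cons (Sim.refl x) (Surj.of_sim hsim hRs (Equiv.refl _))).of_sim hsim.symm

/-- Two classes, one split, contain every suitable matrix. -/
theorem factor_unif (h4 : 4 ≤ Fintype.card K) {k i j : ℕ} {x A H R : Matrix (Fin (k + 2)) (Fin (k + 2)) K}
    (hxd : x.det ≠ 0) (hH : Unif x i H) (hHc : Cyc H) (hR : Unif x j R) (hRc : Cyc R)
    {β : Fin (k + 2) → K} (hr : Runs β) (hRχ : R.charpoly = ∏ l, (Polynomial.X - Polynomial.C (β l)))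
    (hgood : Good A β) (hdet : A.det = R.det * H.det) : Unif x (j + i) A := by
  have hHd := hH.simProd.det_ne hxd
  have hRd := hR.simProd.det_ne hxd
  have hAd : A.det ≠ 0 := by rw [hdet]; exact mul_ne_zero hRd hHd
  have hβ0 : ∀ l, β l ≠ 0 := fun l => Finset.prod_ne_zero_iff.1
    (by rw [← det_of_prod hRχ]; exact hRd) l (Finset.mem_univ l)
  have hHi : H⁻¹.det = H.det⁻¹ := by rw [det_nonsing_inv, Ring.inverse_eq_inv']
  have hi0 : H⁻¹.det ≠ 0 := by rw [hHi]; exact inv_ne_zero hHd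
  obtain ⟨Y, e, hY, hYd, hp, hYc, -⟩ := exists_piece h4 hAd (hHc.inv hHd) hi0 hβ0 hr
    (by rw [← det_of_prod hRχ, hHi, hdet, mul_assoc, mul_inv_cancel₀ hHd, mul_one]) hgood
  have hY' : Sim H Y⁻¹ := by
    have := hY.inv hi0
    rwa [Matrix.nonsing_inv_nonsing_inv H (isUnit_iff_ne_zero.2 hHd)] at this
  have h := (hR.of_sim (sim_of_cyc hRc hp.cyc (hRχ.trans hYc.symm))).mul (hH.of_sim hY')
  rwa [Matrix.mul_assoc, Matrix.mul_nonsing_inv Y (isUnit_iff_ne_zero.2 hYd), Matrix.mul_one] at h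

/-- A piece whose centraliser is surjective can take every determinant ratio. -/
theorem flex_of_surj {s : ℕ} {A Y : Matrix (Fin s) (Fin s) K} {b : K} (hA : Surj A) (hs : Sim A Y)
    (hp : Piece A Y b) : ∀ r : K, r ≠ 0 → ∃ P : Matrix (Fin s) (Fin s) K,
      P.det = r ∧ Piece A (P * A * P⁻¹) b ∧ (A * (P * A * P⁻¹)).charpoly = (A * Y).charpoly := by
  intro r hr
  obtain ⟨Q, Q', h1, h2, rfl⟩ := hs
  obtain ⟨hQ, rfl⟩ := Sim.det_left (A := A) (B := Q * A * Q') h1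
  obtain ⟨Z, hZd, hZc⟩ := hA (r / Q.det) (div_ne_zero hr hQ)
  have u : IsUnit Z.det := isUnit_iff_ne_zero.2 (by rw [hZd]; exact div_ne_zero hr hQ)
  have e : Q * Z * A * (Q * Z)⁻¹ = Q * A * Q⁻¹ := by
    rw [Matrix.mul_inv_rev]
    calc Q * Z * A * (Z⁻¹ * Q⁻¹) = Q * (Z * A * Z⁻¹) * Q⁻¹ := by simp only [Matrix.mul_assoc]
      _ = _ := by rw [hZc, Matrix.mul_nonsing_inv_cancel_right _ _ u]
  exact ⟨Q * Z, by rw [det_mul, hZd, mul_div_cancel₀ _ hQ], by rw [e]; exact hp, by rw [e]⟩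

/-- A flexible piece over two factors gives equal determinants. -/
theorem unif_couple (h4 : 4 ≤ Fintype.card K) {n s t : ℕ} (hn : s + t = n) {x : Matrix (Fin n) (Fin n) K}
    (hxd : x.det ≠ 0) {A : Matrix (Fin s) (Fin s) K} {E : Matrix (Fin s) (Fin t) K}
    {W : Matrix (Fin t) (Fin t) K} (hx : Sim x (Matrix.fromBlocks A E 0 W)) {χ : K[X]} {b : K}
    (hflex : ∀ r : K, r ≠ 0 → ∃ P : Matrix (Fin s) (Fin s) K,
      P.det = r ∧ Piece A (P * A * P⁻¹) b ∧ (A * (P * A * P⁻¹)).charpoly = χ)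
    {W₁ W₂ : Matrix (Fin t) (Fin t) K} (h1 : Sim W W₁) (h2 : Sim W W₂) (hc : Cyc (W₁ * W₂))
    (hv : ∀ (v : Fin t → K) (c : K), v ≠ 0 → (W₁ * W₂) *ᵥ v = b • v → W₂ *ᵥ v ≠ c • v)
    (hsurj : ∀ R : Matrix (Fin n) (Fin n) K, Cyc R → R.charpoly = χ * (W₁ * W₂).charpoly → Surj R) :
    ∃ R : Matrix (Fin n) (Fin n) K, Cyc R ∧ R.charpoly = χ * (W₁ * W₂).charpoly ∧ Unif x 2 R := by
  set σ : Fin s ⊕ Fin t ≃ Fin n := finSumFinEquiv.trans (finCongr hn)
  set B0 := Matrix.reindex σ σ (Matrix.fromBlocks A E 0 W) with hB0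
  obtain ⟨T, T', hT1, hT2, hT⟩ := hx.trans (sim_reindex σ _)
  obtain ⟨hTd, rfl⟩ := Sim.det_left (A := x) (B := B0) hT1
  obtain ⟨Q₁, Q₁', q11, q12, rfl⟩ := h1
  obtain ⟨Q₂, Q₂', q21, q22, rfl⟩ := h2
  obtain ⟨hQ₁, rfl⟩ := Sim.det_left (A := W) (B := Q₁ * W * Q₁') q11
  obtain ⟨hQ₂, rfl⟩ := Sim.det_left (A := W) (B := Q₂ * W * Q₂') q21
  obtain ⟨P, hPd, hp, hχ⟩ := hflex (Q₁.det / Q₂.det) (div_ne_zero hQ₁ hQ₂)
  have hP0 : P.det ≠ 0 := by rw [hPd]; exact div_ne_zero hQ₁ hQ₂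
  have hdd : A.det ≠ 0 ∧ W.det ≠ 0 := by
    have h := hx.det_ne hxd
    rw [det_fromBlocks_zero₂₁] at h
    exact mul_ne_zero_iff.1 h
  have hconj : ∀ {m : ℕ} (Q M : Matrix (Fin m) (Fin m) K), Q.det ≠ 0 → M.det ≠ 0 → (Q * M * Q⁻¹).det ≠ 0 := by
    intro m Q M hQ hM
    rw [det_mul, det_mul, det_nonsing_inv, Ring.inverse_eq_inv']
    exact mul_ne_zero (mul_ne_zero hQ hM) (inv_ne_zero hQ)
  obtain ⟨ν, hν⟩ := couple hp hdd.1 (hconj P A hP0 hdd.1) (hconj Q₁ W hQ₁ hdd.2) (hconj Q₂ W hQ₂ hdd.2) hc hv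
    (E * Q₁⁻¹) (P * E * Q₂⁻¹)
  set M₁ : Matrix (Fin s ⊕ Fin t) (Fin s ⊕ Fin t) K := Matrix.fromBlocks 1 0 0 Q₁
  set M₂ : Matrix (Fin s ⊕ Fin t) (Fin s ⊕ Fin t) K := Matrix.fromBlocks P (-ν * Q₂) 0 Q₂
  set N₁ : Matrix (Fin s ⊕ Fin t) (Fin s ⊕ Fin t) K := Matrix.fromBlocks 1 0 0 Q₁⁻¹
  set N₂ : Matrix (Fin s ⊕ Fin t) (Fin s ⊕ Fin t) K := Matrix.fromBlocks P⁻¹ (P⁻¹ * ν) 0 Q₂⁻¹
  have uP : P * P⁻¹ = 1 := Matrix.mul_nonsing_inv P (isUnit_iff_ne_zero.2 hP0)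
  have uQ₁ : Q₁ * Q₁⁻¹ = 1 := q11
  have uQ₂ : Q₂ * Q₂⁻¹ = 1 := q21
  have e1 : M₁ * N₁ = 1 := by simp [M₁, N₁, Matrix.fromBlocks_multiply, uQ₁]
  have e2 : M₂ * N₂ = 1 := by
    simp [M₂, N₂, Matrix.fromBlocks_multiply, uP, uQ₂, ← Matrix.mul_assoc]
    simp [Matrix.mul_assoc, uQ₂]
  have f1 : M₁ * Matrix.fromBlocks A E 0 W * N₁ = Matrix.fromBlocks A (E * Q₁⁻¹) 0 (Q₁ * W * Q₁⁻¹) := by
    simp [M₁, N₁, Matrix.fromBlocks_multiply]
  have f2 : M₂ * Matrix.fromBlocks A E 0 W * N₂ = Matrix.fromBlocks (P * A * P⁻¹)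
      (P * E * Q₂⁻¹ + P * A * P⁻¹ * ν - ν * (Q₂ * W * Q₂⁻¹)) 0 (Q₂ * W * Q₂⁻¹) := by
    simp [M₂, N₂, Matrix.fromBlocks_multiply]
    simp [Matrix.add_mul, Matrix.mul_assoc, sub_eq_add_neg]
    abel
  have conj : ∀ {M N : Matrix (Fin s ⊕ Fin t) (Fin s ⊕ Fin t) K}, M * N = 1 →
      Matrix.reindex σ σ M * T * x * (Matrix.reindex σ σ M * T)⁻¹ =
        Matrix.reindex σ σ (M * Matrix.fromBlocks A E 0 W * N) := by
    intro M N h
    have hinv : (Matrix.reindex σ σ M)⁻¹ = Matrix.reindex σ σ N := Matrix.inv_eq_right_inv (by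
      simp only [Matrix.reindex_apply, Matrix.submatrix_mul_equiv, h, Matrix.submatrix_one_equiv])
    rw [Matrix.mul_inv_rev, hinv]
    calc Matrix.reindex σ σ M * T * x * (T⁻¹ * Matrix.reindex σ σ N)
        = Matrix.reindex σ σ M * (T * x * T⁻¹) * Matrix.reindex σ σ N := by simp only [Matrix.mul_assoc]
      _ = _ := by
        rw [← hT]
        simp only [Matrix.reindex_apply, Matrix.submatrix_mul_equiv]
  set R := Matrix.reindex σ σ (M₁ * Matrix.fromBlocks A E 0 W * N₁ * (M₂ * Matrix.fromBlocks A E 0 W * N₂)) with hR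
  have hRc : Cyc R := by
    rw [hR, f1, f2]
    refine Cyc.reindex ?_ σ
    exact hν
  have hRχ : R.charpoly = χ * (Q₁ * W * Q₁⁻¹ * (Q₂ * W * Q₂⁻¹)).charpoly := by
    rw [hR, f1, f2, Matrix.fromBlocks_multiply]
    simp only [Matrix.mul_zero, Matrix.zero_mul, add_zero, zero_add]
    rw [charpoly_reindex_sum hn, hχ]
  refine ⟨R, hRc, hRχ, Unif.of_surj (hsurj R hRc hRχ) (q₀ := Q₁.det * T.det) (mul_ne_zero hQ₁ hTd)
    (P := ![Matrix.reindex σ σ M₁ * T, Matrix.reindex σ σ M₂ * T]) (fun i => ?_) ?_⟩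
  · fin_cases i
    · simp [M₁, det_fromBlocks_zero₂₁]
    · simp [M₂, det_fromBlocks_zero₂₁, hPd, div_mul_cancel₀ _ hQ₂]
  · rw [List.ofFn_succ, List.ofFn_succ, List.ofFn_zero, List.prod_cons, List.prod_cons, List.prod_nil, mul_one]
    simp only [Matrix.cons_val_zero, Matrix.cons_val_succ]
    rw [conj e1, conj e2, hR]
    simp only [Matrix.reindex_apply, Matrix.submatrix_mul_equiv]

/-- One piece over two factors. -/
theorem stack_step (h4 : 4 ≤ Fintype.card K) {n d m : ℕ} (hn : d + m = n) {g : Matrix (Fin n) (Fin n) K}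
    {X Y : Matrix (Fin d) (Fin d) K} {Z Z₁ Z₂ : Matrix (Fin m) (Fin m) K}
    (hsim : Sim (Matrix.fromBlocks X 0 0 Z) g) (hY : Sim X Y) {b : K} (hp : Piece X Y b) (hXd : X.det ≠ 0)
    (hZd : Z.det ≠ 0) (h1 : Sim Z Z₁) (h2 : Sim Z Z₂) (hc : Cyc (Z₁ * Z₂))
    (hv : ∀ (v : Fin m → K) (t : K), v ≠ 0 → (Z₁ * Z₂) *ᵥ v = b • v → Z₂ *ᵥ v ≠ t • v) :
    ∃ G₁ G₂ : Matrix (Fin n) (Fin n) K, Sim g G₁ ∧ Sim g G₂ ∧ Cyc (G₁ * G₂) ∧
      (G₁ * G₂).charpoly = (X * Y).charpoly * (Z₁ * Z₂).charpoly ∧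
      ∀ e : Fin d → K, e ≠ 0 → (X * Y) *ᵥ e = b • e → (∀ t : K, Y *ᵥ e ≠ t • e) →
        ∀ (v : Fin n → K) (t : K), v ≠ 0 → (G₁ * G₂) *ᵥ v = b • v → G₂ *ᵥ v ≠ t • v := by
  obtain ⟨ν, hν⟩ := couple hp hXd (hY.det_ne hXd) (h1.det_ne hZd) (h2.det_ne hZd) hc hv 0 0
  set σ : Fin d ⊕ Fin m ≃ Fin n := finSumFinEquiv.trans (finCongr hn)
  set B₁ := Matrix.fromBlocks X (0 : Matrix (Fin d) (Fin m) K) 0 Z₁
  set B₂ := Matrix.fromBlocks Y (0 + Y * ν - ν * Z₂) 0 Z₂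
  have hb1 : Sim g (Matrix.reindex σ σ B₁) :=
    hsim.symm.trans ((sim_blocks (Sim.refl X) h1).trans (sim_reindex σ _))
  have hb2 : Sim g (Matrix.reindex σ σ B₂) :=
    hsim.symm.trans ((sim_blocks hY h2).trans ((sim_shear Y Z₂ 0 ν).trans (sim_reindex σ _)))
  have hmul : Matrix.reindex σ σ B₁ * Matrix.reindex σ σ B₂ = Matrix.reindex σ σ (B₁ * B₂) := by
    simp only [Matrix.reindex_apply, Matrix.submatrix_mul_equiv]
  have hBB : B₁ * B₂ = Matrix.fromBlocks (X * Y) (X * (0 + Y * ν - ν * Z₂)) 0 (Z₁ * Z₂) := by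
    simp [B₁, B₂, Matrix.fromBlocks_multiply]
  refine ⟨_, _, hb1, hb2, by rw [hmul]; exact hν.reindex σ, ?_, ?_⟩
  · rw [hmul, hBB, charpoly_reindex_sum hn]
  · intro e he0 hRe hYe v t hv hGv hYv
    set ev : Fin n → K := Sum.elim e (0 : Fin m → K) ∘ σ.symm
    have hcomp : (Sum.elim e (0 : Fin m → K) ∘ σ.symm) ∘ σ = Sum.elim e (0 : Fin m → K) :=
      funext fun i => by simp
    have hev : (Matrix.reindex σ σ B₁ * Matrix.reindex σ σ B₂) *ᵥ ev = b • ev := by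
      rw [hmul, hBB, Matrix.reindex_apply, Matrix.submatrix_mulVec_equiv]
      funext i
      simp only [ev, Function.comp, Equiv.symm_symm, Equiv.symm_apply_apply, Matrix.fromBlocks_mulVec,
        Pi.smul_apply]
      rcases σ.symm i with x | x
      · have := congrFun hRe x
        simpa [hcomp] using this
      · simp [hcomp]
    have hev0 : ev ≠ 0 := fun h => he0 (funext fun i => by simpa [ev] using congrFun h (σ (Sum.inl i)))
    obtain ⟨s, rfl⟩ := eigen_unique (by rw [hmul]; exact hν.reindex σ) hev hev0 hGv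
    have hs : s ≠ 0 := fun h => hv (by rw [h, zero_smul])
    rw [mulVec_smul, smul_comm] at hYv
    have h1 := smul_right_injective (Fin n → K) hs hYv
    apply hYe t
    funext i
    have h2 := congrFun h1 (σ (Sum.inl i))
    simpa [ev, hcomp, B₂, Matrix.reindex_apply, Matrix.submatrix_mulVec_equiv, Matrix.fromBlocks_mulVec,
      Function.comp] using h2

/-- Two conjugates of a stack with prescribed block spectra. -/
theorem base_spec (h4 : 4 ≤ Fintype.card K) {Pr : K[X] → Prop} {Q : K[X] → Prop} (hQ1 : Q 1)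
    (hQm : ∀ f g : K[X], f.Monic → g.Monic → Q f → Q g → Q (f * g)) {a₀ c : K}
    (hspec : ∀ (k : ℕ) (X : Matrix (Fin (k + 2)) (Fin (k + 2)) K), Cyc X → Pr X.charpoly → X.det ≠ 0 →
      ∃ β : Fin (k + 2) → K, β 0 = a₀ ∧ Runs β ∧ ∏ i, β i = X.det * X.det ∧ Good X β ∧
        Q (∏ i, (Polynomial.X - Polynomial.C (β i))))
    {n : ℕ} {g : Matrix (Fin n) (Fin n) K} (hs : Stack Pr (c • (1 : Matrix (Fin 0) (Fin 0) K)) g)
    (hg : g.det ≠ 0) :
    ∃ Z₁ Z₂ : Matrix (Fin n) (Fin n) K, Sim g Z₁ ∧ Sim g Z₂ ∧ Cyc (Z₁ * Z₂) ∧ Q (Z₁ * Z₂).charpoly ∧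
      ∀ (v : Fin n → K) (t : K), v ≠ 0 → (Z₁ * Z₂) *ᵥ v = a₀ • v → Z₂ *ᵥ v ≠ t • v := by
  induction hs with
  | base =>
    refine ⟨c • 1, c • 1, Sim.refl _, Sim.refl _, ?_, ?_, fun v t hv _ _ => hv (funext fun i => i.elim0)⟩
    · exact cyc_hess ⟨fun i => i.elim0, fun i => i.elim0⟩
    · rw [Matrix.charpoly, Matrix.det_isEmpty]; exact hQ1
  | @cons d m n X Z g hd hn hX hP _ hsim ih =>
    obtain ⟨hXd, hZd⟩ := det_blocks_ne (hsim.symm.det_ne hg)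
    obtain ⟨Z₁, Z₂, hZ1, hZ2, hZc, hZQ, hZv⟩ := ih hZd
    obtain ⟨k, rfl⟩ : ∃ k, d = k + 2 := ⟨d - 2, by omega⟩
    obtain ⟨β, hβa, hβr, hβp, hgood, hβQ⟩ := hspec k X hX hP hXd
    have hβ0 : ∀ i, β i ≠ 0 := fun i => Finset.prod_ne_zero_iff.1
      (by rw [hβp]; exact mul_ne_zero hXd hXd) i (Finset.mem_univ i)
    obtain ⟨Y, e, hY, hYd, hp, hYc, he0, hRe, hYe⟩ := exists_piece h4 hXd hX hXd hβ0 hβr hβp hgood
    rw [hβa] at hp hRe
    obtain ⟨G₁, G₂, g1, g2, gc, gχ, gv⟩ := stack_step h4 hn hsim hY hp hXd hZd hZ1 hZ2 hZc hZv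
    refine ⟨G₁, G₂, g1, g2, gc, ?_, gv e he0 hRe hYe⟩
    rw [gχ, hYc]
    exact hQm _ _ (monic_prod_of_monic _ _ fun i _ => monic_X_sub_C _) (charpoly_monic _) hβQ hZQ

end CfsgLib.LevCover
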